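import Cfsg.Agent.Lib.AutPSL.BalanceGraph

set_option autoImplicit false
set_option linter.unusedSectionVars false

/-!
Local balance at automorphisms of `PSL_n(F)` attached to diagonal hermitian or symmetric forms, odd characteristic.
-/

namespace CfsgLib.AutPSL.LocalBal

open Matrix
open scoped MatrixGroups

universe u

variable {n : ℕ} {F : Type u} [Field F]

/-- A diagonal form. -/
def hd (θ : F ≃+* F) (d : Fin n → F) (x y : Fin n → F) : F := ∑ i, θ (x i) * d i * y i

/-- The matrix of a reflection. -/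
def refMat (θ : F ≃+* F) (d : Fin n → F) (v : Fin n → F) : Matrix (Fin n) (Fin n) F :=
  1 - (2 / hd θ d v v) • vecMulVec v fun j => θ (v j) * d j

section

variable {θ : F ≃+* F} {d : Fin n → F}

theorem hd_add_right (x y y' : Fin n → F) : hd θ d x (y + y') = hd θ d x y + hd θ d x y' := by
  simp [hd, mul_add, Finset.sum_add_distrib]

theorem hd_add_left (x x' y : Fin n → F) : hd θ d (x + x') y = hd θ d x y + hd θ d x' y := by
  simp [hd, add_mul, Finset.sum_add_distrib]

theorem hd_smul_right (c : F) (x y : Fin n → F) : hd θ d x (c • y) = c * hd θ d x y := by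
  simp only [hd, Finset.mul_sum, Pi.smul_apply, smul_eq_mul]
  exact Finset.sum_congr rfl fun i _ => by ring

theorem hd_smul_left (c : F) (x y : Fin n → F) : hd θ d (c • x) y = θ c * hd θ d x y := by
  simp only [hd, Finset.mul_sum, Pi.smul_apply, smul_eq_mul, map_mul]
  exact Finset.sum_congr rfl fun i _ => by ring

theorem hd_sub_right (x y y' : Fin n → F) : hd θ d x (y - y') = hd θ d x y - hd θ d x y' := by
  simp [hd, mul_sub, Finset.sum_sub_distrib]

theorem hd_sub_left (x x' y : Fin n → F) : hd θ d (x - x') y = hd θ d x y - hd θ d x' y := by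
  simp [hd, sub_mul, Finset.sum_sub_distrib]

theorem hd_neg_right (x y : Fin n → F) : hd θ d x (-y) = -hd θ d x y := by
  rw [← neg_one_smul F y, hd_smul_right, neg_one_mul]

theorem hd_zero_right (x : Fin n → F) : hd θ d x 0 = 0 := by simp [hd]

theorem hd_single_left (i : Fin n) (y : Fin n → F) : hd θ d (Pi.single i 1) y = d i * y i := by
  rw [hd, Finset.sum_eq_single i (fun j _ hj => by simp [hj]) (fun h => absurd (Finset.mem_univ i) h)]
  simp

theorem hd_single (i : Fin n) : hd θ d (Pi.single i 1) (Pi.single i 1) = d i := by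
  rw [hd_single_left, Pi.single_eq_same, mul_one]

theorem hd_single_right (i : Fin n) (y : Fin n → F) : hd θ d y (Pi.single i 1) = θ (y i) * d i := by
  rw [hd, Finset.sum_eq_single i (fun j _ hj => by simp [hj]) (fun h => absurd (Finset.mem_univ i) h)]
  simp

theorem refMat_mulVec (v x : Fin n → F) :
    refMat θ d v *ᵥ x = x - (2 * hd θ d v x / hd θ d v v) • v := by
  rw [refMat, sub_mulVec, one_mulVec, smul_mulVec, vecMulVec_mulVec]
  funext i
  simp only [Pi.sub_apply, Pi.smul_apply, op_smul_eq_smul, smul_eq_mul, dotProduct, hd]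
  ring

theorem refMat_self {v : Fin n → F} (hv : hd θ d v v ≠ 0) : refMat θ d v *ᵥ v = -v := by
  rw [refMat_mulVec, mul_div_assoc, div_self hv, mul_one, two_smul]
  abel

theorem refMat_fix {v x : Fin n → F} (h : hd θ d v x = 0) : refMat θ d v *ᵥ x = x := by
  rw [refMat_mulVec, h, mul_zero, zero_div, zero_smul, sub_zero]

theorem refMat_mul_self {v : Fin n → F} (hv : hd θ d v v ≠ 0) : refMat θ d v * refMat θ d v = 1 :=
  Matrix.ext_iff_mulVec.2 fun x => by
    rw [← mulVec_mulVec, one_mulVec, refMat_mulVec v x, mulVec_sub, mulVec_smul, refMat_self hv,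
      refMat_mulVec, smul_neg]
    abel

theorem det_refMat {v : Fin n → F} (hv : hd θ d v v ≠ 0) : (refMat θ d v).det = -1 := by
  have h : refMat θ d v = 1 + replicateCol Unit (-(2 / hd θ d v v) • v) *
      replicateRow Unit (fun j => θ (v j) * d j) := by
    rw [← vecMulVec_eq, refMat, sub_eq_add_neg, smul_vecMulVec, neg_smul]
  rw [h, Matrix.det_one_add_replicateCol_mul_replicateRow]
  have h1 : (fun j => θ (v j) * d j) ⬝ᵥ (-(2 / hd θ d v v) • v) = -(2 / hd θ d v v) * hd θ d v v := by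
    rw [dotProduct_smul, smul_eq_mul]
    rfl
  rw [h1, neg_mul, div_mul_cancel₀ _ hv]
  norm_num

variable (θ d) in
/-- A reflection as an invertible matrix. -/
def refGL (v : Fin n → F) (hv : hd θ d v v ≠ 0) : GL (Fin n) F :=
  ⟨refMat θ d v, refMat θ d v, refMat_mul_self hv, refMat_mul_self hv⟩

variable (θ d) in
/-- The product of two reflections. -/
def pr (u v : Fin n → F) (hu : hd θ d u u ≠ 0) (hv : hd θ d v v ≠ 0) : SL(n, F) :=
  ⟨refMat θ d u * refMat θ d v, by rw [det_mul, det_refMat hu, det_refMat hv]; norm_num⟩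

theorem pr_coe (u v : Fin n → F) (hu : hd θ d u u ≠ 0) (hv : hd θ d v v ≠ 0) :
    (pr θ d u v hu hv : Matrix (Fin n) (Fin n) F) = refMat θ d u * refMat θ d v := rfl

/-- A linear similarity conjugates reflections to reflections. -/
theorem mul_refMat {S : Matrix (Fin n) (Fin n) F} {c : F} (hc : c ≠ 0)
    (hS : ∀ x y, hd θ d (S *ᵥ x) (S *ᵥ y) = c * hd θ d x y) (v : Fin n → F) :
    S * refMat θ d v = refMat θ d (S *ᵥ v) * S :=
  Matrix.ext_iff_mulVec.2 fun x => by
    rw [← mulVec_mulVec, ← mulVec_mulVec, refMat_mulVec, refMat_mulVec, hS, hS, mulVec_sub, mulVec_smul,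
      mul_left_comm 2 c, mul_div_mul_left _ _ hc]

theorem map_mulVec' (A : Matrix (Fin n) (Fin n) F) (x : Fin n → F) :
    A.map θ *ᵥ (fun i => θ (x i)) = fun i => θ ((A *ᵥ x) i) := by
  funext i
  simp [Matrix.mulVec, dotProduct, map_sum]

end

variable (θ : F ≃+* F) (hθ : ∀ x, θ (θ x) = x) (d : Fin n → Fˣ) (hd' : ∀ i, θ (d i : F) = d i)

local notation "D" => fun i => (d i : F)

theorem sim_to_form {g : GL (Fin n) F} {c : Fˣ} (h : Sim θ (diagGL d) g c) (x y : Fin n → F) :
    hd θ D ((g : Matrix (Fin n) (Fin n) F) *ᵥ x) ((g : Matrix (Fin n) (Fin n) F) *ᵥ y) =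
      (c : F) * hd θ D x y := by
  have key : ∀ a b : Fin n → F, hd θ D a b =
      (fun i => θ (a i)) ⬝ᵥ ((diagGL d : GL (Fin n) F) : Matrix (Fin n) (Fin n) F) *ᵥ b := fun a b => by
    simp [hd, dotProduct, diagGL, mulVec_diagonal, mul_assoc]
  rw [key, key, ← map_mulVec', ← vecMul_transpose, ← dotProduct_mulVec, mulVec_mulVec, mulVec_mulVec,
    h, smul_mulVec, dotProduct_smul, smul_eq_mul]

theorem sim_of_form {g : GL (Fin n) F} {c : Fˣ}
    (h : ∀ x y, hd θ D ((g : Matrix (Fin n) (Fin n) F) *ᵥ x) ((g : Matrix (Fin n) (Fin n) F) *ᵥ y) =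
      (c : F) * hd θ D x y) : Sim θ (diagGL d) g c := by
  ext i j
  have h1 := h (Pi.single i 1) (Pi.single j 1)
  rw [mulVec_single_one, mulVec_single_one, hd_single_left] at h1
  rw [Matrix.mul_apply, Matrix.smul_apply]
  refine Eq.trans ?_ (h1.trans ?_)
  · simp [hd, diagGL, Matrix.mul_apply, Matrix.diagonal_apply]
  · simp [diagGL, Matrix.diagonal_apply, Pi.single_apply]

include hθ hd'

theorem hd_swap (x y : Fin n → F) : θ (hd θ D x y) = hd θ D y x := by
  simp only [hd, map_sum, map_mul, hθ, hd']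
  exact Finset.sum_congr rfl fun i _ => by ring

theorem hd_zero_symm {x y : Fin n → F} (h : hd θ D x y = 0) : hd θ D y x = 0 := by
  rw [← hd_swap θ hθ d hd' x y, h, map_zero]

theorem theta_two_div {v : Fin n → F} : θ (2 / hd θ D v v) = 2 / hd θ D v v := by
  rw [map_div₀, map_ofNat, hd_swap θ hθ d hd']

theorem refMat_form {v : Fin n → F} (hv : hd θ D v v ≠ 0) (x y : Fin n → F) :
    hd θ D (refMat θ D v *ᵥ x) (refMat θ D v *ᵥ y) = hd θ D x y := by
  simp only [refMat_mulVec, hd_sub_left, hd_sub_right, hd_smul_left, hd_smul_right, map_div₀, map_mul, map_ofNat,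
    hd_swap θ hθ d hd']
  field_simp
  ring

theorem refGL_sim {v : Fin n → F} (hv : hd θ D v v ≠ 0) : Sim θ (diagGL d) (refGL θ D v hv) 1 :=
  sim_of_form θ d fun x y => by
    rw [Units.val_one, one_mul]
    exact refMat_form θ hθ d hd' hv x y

theorem pr_sim {u v : Fin n → F} (hu : hd θ D u u ≠ 0) (hv : hd θ D v v ≠ 0) :
    Sim θ (diagGL d) (Matrix.SpecialLinearGroup.toGL (pr θ D u v hu hv)) 1 :=
  sim_of_form θ d fun x y => by
    show hd θ D ((refMat θ D u * refMat θ D v) *ᵥ x) ((refMat θ D u * refMat θ D v) *ᵥ y) = _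
    rw [← mulVec_mulVec, ← mulVec_mulVec, refMat_form θ hθ d hd' hu, refMat_form θ hθ d hd' hv, Units.val_one,
      one_mul]

/-- A vector nonzero and orthogonal to two given vectors. -/
theorem exists_perp (hn : 3 ≤ n) (u v : Fin n → F) :
    ∃ e, e ≠ 0 ∧ hd θ D u e = 0 ∧ hd θ D v e = 0 := by
  let L : (Fin n → F) →ₗ[F] F × F :=
    { toFun := fun e => (hd θ D u e, hd θ D v e)
      map_add' := fun x y => by simp [hd_add_right]
      map_smul' := fun c x => by simp [hd_smul_right] }
  have h : LinearMap.ker L ≠ ⊥ := LinearMap.ker_ne_bot_of_finrank_lt (by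
    rw [Module.finrank_prod, Module.finrank_self, Module.finrank_fin_fun]; omega)
  obtain ⟨e, he, he0⟩ := Submodule.exists_mem_ne_zero_of_ne_bot h
  have := LinearMap.mem_ker.1 he
  exact ⟨e, he0, congrArg Prod.fst this, congrArg Prod.snd this⟩

/-- An anisotropic vector orthogonal to an orthogonal anisotropic pair. -/
theorem exists_aniso_perp (h2 : (2 : F) ≠ 0) (hn : 3 ≤ n) {z v : Fin n → F} (hz : hd θ D z z ≠ 0)
    (hv : hd θ D v v ≠ 0) (hzv : hd θ D z v = 0) :
    ∃ e, hd θ D z e = 0 ∧ hd θ D v e = 0 ∧ hd θ D e e ≠ 0 := by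
  by_contra hc
  push Not at hc
  have hiso : ∀ a b, hd θ D z a = 0 → hd θ D v a = 0 → hd θ D z b = 0 → hd θ D v b = 0 → hd θ D a b = 0 := by
    intro a b ha ha' hb hb'
    have h1 := hc (a + hd θ D b a • b) (by rw [hd_add_right, hd_smul_right, ha, hb, mul_zero, add_zero])
      (by rw [hd_add_right, hd_smul_right, ha', hb', mul_zero, add_zero])
    simp only [hd_add_left, hd_add_right, hd_smul_left, hd_smul_right, hd_swap θ hθ d hd', hc a ha ha', hc b hb hb',
      mul_zero, zero_add, add_zero] at h1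
    rcases mul_eq_zero.1 (show (2 : F) * (hd θ D a b * hd θ D b a) = 0 by linear_combination h1) with h | h
    · exact absurd h h2
    rcases mul_eq_zero.1 h with h | h
    · exact h
    · exact hd_zero_symm θ hθ d hd' h
  obtain ⟨e, he0, hze, hve⟩ := exists_perp θ hθ d hd' hn z v
  refine he0 (funext fun i => ?_)
  set x : Fin n → F := Pi.single i 1
  set x' := x - (hd θ D z x / hd θ D z z) • z - (hd θ D v x / hd θ D v v) • v with hx'
  have hvz := hd_zero_symm θ hθ d hd' hzv
  have h1 := hiso e x' hze hve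
    (by rw [hx', hd_sub_right, hd_sub_right, hd_smul_right, hd_smul_right, hzv, div_mul_cancel₀ _ hz]; ring)
    (by rw [hx', hd_sub_right, hd_sub_right, hd_smul_right, hd_smul_right, hvz, div_mul_cancel₀ _ hv]; ring)
  rw [hx', hd_sub_right, hd_sub_right, hd_smul_right, hd_smul_right, hd_zero_symm θ hθ d hd' hze,
    hd_zero_symm θ hθ d hd' hve, mul_zero, mul_zero, sub_zero, sub_zero] at h1
  rw [show hd θ D e x = θ (e i) * (d i : F) from hd_single_right (θ := θ) (d := D) i e] at h1
  have h3 := (mul_eq_zero.1 h1).resolve_right (d i).ne_zero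
  exact θ.injective (h3.trans (map_zero θ).symm)

/-- Binary forms are universal, odd characteristic. -/
theorem exists_binary [Finite F] (h2 : (2 : F) ≠ 0) {A B : F} (hA : A ≠ 0) (hB : B ≠ 0) (a : F) :
    ∃ s t : F, A * s ^ 2 + B * t ^ 2 = a := by
  cases nonempty_fintype F
  have hch : ringChar F ≠ 2 := fun hc => h2 (by
    haveI : CharP F 2 := hc ▸ ringChar.charP F
    exact_mod_cast CharP.cast_eq_zero F 2)
  obtain ⟨s, t, hst⟩ := FiniteField.exists_root_sum_quadratic
    (f := Polynomial.C A * Polynomial.X ^ 2 - Polynomial.C a) (g := Polynomial.C B * Polynomial.X ^ 2)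
    (by rw [Polynomial.degree_sub_C (by rw [Polynomial.degree_C_mul_X_pow 2 hA]; norm_num),
      Polynomial.degree_C_mul_X_pow 2 hA]; rfl)
    (by rw [Polynomial.degree_C_mul_X_pow 2 hB]; rfl) (FiniteField.odd_card_of_char_ne_two hch)
  simp only [Polynomial.eval_sub, Polynomial.eval_mul, Polynomial.eval_C, Polynomial.eval_pow, Polynomial.eval_X] at hst
  exact ⟨s, t, by linear_combination hst⟩

/-- The norm to the fixed field is surjective. -/
theorem exists_norm [Finite F] (hθ1 : θ ≠ 1) {a : F} (ha : θ a = a) : ∃ t, t * θ t = a := by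
  by_cases ha0 : a = 0
  · exact ⟨0, by rw [ha0, zero_mul]⟩
  haveI : Fact (Nat.Prime 2) := ⟨Nat.prime_two⟩
  have h : orderOf θ = 2 := orderOf_eq_prime (RingEquiv.ext fun x => by rw [pow_two]; exact hθ x) hθ1
  obtain ⟨μ, hμ⟩ := exists_unorm_eq (by norm_num) h (Units.mk0 a ha0) ha
  refine ⟨(μ : F), ?_⟩
  have h1 := congrArg Units.val hμ
  simpa [unorm, mul_comm] using h1

/-- For two reflections there is an anisotropic vector orthogonal to its image. -/
theorem exists_orth_image [Finite F] (h2 : (2 : F) ≠ 0) (hn : 3 ≤ n) {u v : Fin n → F} (hu : hd θ D u u ≠ 0)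
    (hv : hd θ D v v ≠ 0) (huv : ∀ a : F, u ≠ a • v) :
    ∃ w, hd θ D w w ≠ 0 ∧ hd θ D w ((pr θ D u v hu hv : Matrix (Fin n) (Fin n) F) *ᵥ w) = 0 := by
  set c₀ := hd θ D v u with hc₀
  set g := c₀ / hd θ D v v with hg
  set z := u - g • v with hz
  have hvz : hd θ D v z = 0 := by rw [hz, hd_sub_right, hd_smul_right, hg, hc₀, div_mul_cancel₀ _ hv, sub_self]
  have hzv := hd_zero_symm θ hθ d hd' hvz
  have hu' : u = z + g • v := by rw [hz, sub_add_cancel]
  have hA : hd θ D u u = hd θ D z z + θ g * g * hd θ D v v := by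
    rw [hu']
    simp only [hd_add_left, hd_add_right, hd_smul_left, hd_smul_right, hvz, hzv]
    ring
  have hAθ := hd_swap θ hθ d hd' u u
  -- the case of a vector orthogonal to `v`
  have key : ∀ w, hd θ D v w = 0 → hd θ D w w = 2 * hd θ D z w * θ (hd θ D z w) / hd θ D u u →
      hd θ D z w ≠ 0 → hd θ D w w ≠ 0 ∧ hd θ D w ((pr θ D u v hu hv : Matrix (Fin n) (Fin n) F) *ᵥ w) = 0 := by
    intro w hvw hw hb
    have hwv := hd_zero_symm θ hθ d hd' hvw
    refine ⟨?_, ?_⟩
    · rw [hw]
      exact div_ne_zero (mul_ne_zero (mul_ne_zero h2 hb) fun h => hb (θ.injective (h.trans (map_zero θ).symm))) hu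
    · have huw : hd θ D u w = hd θ D z w := by
        rw [hu', hd_add_left, hd_smul_left, hvw, mul_zero, add_zero]
      have hwu : hd θ D w u = θ (hd θ D z w) := by rw [← huw, hd_swap θ hθ d hd']
      rw [pr_coe, ← mulVec_mulVec, refMat_fix hvw, refMat_mulVec, hd_sub_right, hd_smul_right, huw, hwu, hw]
      field_simp
      ring
  by_cases hC : hd θ D z z = 0
  · -- a degenerate plane
    obtain ⟨i, hi⟩ : ∃ i, z i ≠ 0 := by
      by_contra hall
      push Not at hall
      exact huv g (by rw [hu', show z = 0 from funext hall, zero_add])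
    have hzi : θ (z i) * (d i : F) ≠ 0 :=
      mul_ne_zero (fun h => hi (θ.injective (h.trans (map_zero θ).symm))) (d i).ne_zero
    obtain ⟨w₁, hw₁⟩ : ∃ w₁, hd θ D z w₁ = 1 := ⟨(θ (z i) * (d i : F))⁻¹ • Pi.single i 1, by
      rw [hd_smul_right, hd_single_right, inv_mul_cancel₀ hzi]⟩
    set w₀ := w₁ - (hd θ D v w₁ / hd θ D v v) • v with hw₀
    have hvw₀ : hd θ D v w₀ = 0 := by rw [hw₀, hd_sub_right, hd_smul_right, div_mul_cancel₀ _ hv, sub_self]
    have hzw₀ : hd θ D z w₀ = 1 := by
      rw [hw₀, hd_sub_right, hd_smul_right, hzv, mul_zero, sub_zero, hw₁]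
    have hw₀z : hd θ D w₀ z = 1 := by rw [← hd_swap θ hθ d hd', hzw₀, map_one]
    set t := (2 / hd θ D u u - hd θ D w₀ w₀) / 2 with ht
    have htθ : θ t = t := by
      rw [ht, map_div₀, map_sub, map_div₀, map_ofNat, hAθ, hd_swap θ hθ d hd']
    refine ⟨w₀ + t • z, key _ ?_ ?_ ?_⟩
    · rw [hd_add_right, hd_smul_right, hvw₀, hvz]; ring
    · simp only [hd_add_left, hd_add_right, hd_smul_left, hd_smul_right, hzw₀, hw₀z, hC, mul_zero, add_zero, map_one,
        htθ]
      rw [ht]
      field_simp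
      ring
    · rw [hd_add_right, hd_smul_right, hzw₀, hC]; simp
  · obtain ⟨e, hze, hve, hee⟩ := exists_aniso_perp θ hθ d hd' h2 hn hC hv hzv
    have hez := hd_zero_symm θ hθ d hd' hze
    have hev := hd_zero_symm θ hθ d hd' hve
    have hCθ := hd_swap θ hθ d hd' z z
    have heθ := hd_swap θ hθ d hd' e e
    by_cases hθ1 : θ = 1
    · -- quadratic case
      have hid : ∀ x, θ x = x := fun x => by rw [hθ1]; rfl
      set k := 2 * hd θ D z z / hd θ D u u - 1 with hk
      by_cases hk0 : k = 0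
      · refine ⟨z, key z hvz ?_ hC⟩
        rw [hid, eq_div_iff hu]
        rw [hk, sub_eq_zero, div_eq_iff hu, one_mul] at hk0
        linear_combination -hd θ D z z * hk0
      obtain ⟨s, t, hst⟩ := exists_binary θ hθ d hd' h2 hC hv (hd θ D e e / k)
      refine ⟨s • z + t • v + e, ?_, ?_⟩
      · have h1 : hd θ D (s • z + t • v + e) (s • z + t • v + e) = hd θ D e e / k + hd θ D e e := by
          simp only [hd_add_left, hd_add_right, hd_smul_left, hd_smul_right, hid, hvz, hzv, hze, hez, hve, hev,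
            mul_zero, add_zero, zero_add]
          linear_combination hst
        rw [h1]
        intro h0
        have h3 : hd θ D e e * (1 + k) = 0 := by field_simp at h0; linear_combination h0
        have h4 := (mul_eq_zero.1 h3).resolve_left hee
        rw [hk, add_sub_cancel, div_eq_zero_iff] at h4
        rcases h4 with h4 | h4
        · exact hC ((mul_eq_zero.1 h4).resolve_left h2)
        · exact hu h4
      · have hst' : hd θ D z z * s ^ 2 * k + hd θ D v v * t ^ 2 * k = hd θ D e e := by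
          rw [← add_mul, hst, div_mul_cancel₀ _ hk0]
        have hRv : refMat θ D v *ᵥ (s • z + t • v + e) = s • z - t • v + e := by
          rw [mulVec_add, mulVec_add, mulVec_smul, mulVec_smul, refMat_fix hvz, refMat_self hv, refMat_fix hve,
            smul_neg, sub_eq_add_neg]
        have hu1 : hd θ D u (s • z - t • v + e) = s * hd θ D z z - g * t * hd θ D v v := by
          rw [hu']
          simp only [hd_add_left, hd_add_right, hd_sub_right, hd_smul_left, hd_smul_right, hid, hvz, hzv, hze, hve]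
          ring
        rw [pr_coe, ← mulVec_mulVec, hRv, refMat_mulVec, hu1]
        conv_lhs => arg 4; arg 2; arg 2; rw [hu']
        simp only [hd_add_left, hd_add_right, hd_sub_right, hd_smul_left, hd_smul_right, hid, hvz, hzv, hze, hez,
          hve, hev, mul_zero, add_zero, zero_add, sub_zero]
        rw [hid] at hA
        rw [← hst', hk]
        field_simp
        rw [hA]
        ring
    · -- hermitian case
      set a := hd θ D z z * (2 * hd θ D z z / hd θ D u u - 1) with ha
      have haθ : θ (a / hd θ D e e) = a / hd θ D e e := by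
        rw [map_div₀, heθ, ha, map_mul, map_sub, map_div₀, map_mul, map_ofNat, map_one, hCθ, hAθ]
      obtain ⟨t, ht⟩ := exists_norm θ hθ d hd' hθ1 haθ
      refine ⟨z + t • e, key _ ?_ ?_ ?_⟩
      · rw [hd_add_right, hd_smul_right, hvz, hve]; ring
      · have h1 : hd θ D z (z + t • e) = hd θ D z z := by
          rw [hd_add_right, hd_smul_right, hze, mul_zero, add_zero]
        rw [h1, hCθ]
        simp only [hd_add_left, hd_add_right, hd_smul_left, hd_smul_right, hze, hez, mul_zero, add_zero, zero_add]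
        rw [eq_div_iff hee] at ht
        have h3 : t * (θ t * hd θ D e e) = a := by linear_combination ht
        rw [h3, ha]
        field_simp
        ring
      · rw [hd_add_right, hd_smul_right, hze, mul_zero, add_zero]
        exact hC

/-- The product of two orthogonal reflections is not a scalar. -/
theorem refMat_mul_ne_scalar (h2 : (2 : F) ≠ 0) (hn : 3 ≤ n) {u v : Fin n → F} (hv : hd θ D v v ≠ 0)
    (huv : hd θ D u v = 0) (c : F) : refMat θ D u * refMat θ D v ≠ Matrix.scalar (Fin n) c := by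
  intro hc
  obtain ⟨e, he0, hue, hve⟩ := exists_perp θ hθ d hd' hn u v
  have hc' : ∀ x, (refMat θ D u * refMat θ D v) *ᵥ x = c • x := fun x => by
    rw [hc, Matrix.scalar_apply]
    funext i
    simp [mulVec_diagonal]
  have h1 := hc' e
  rw [← mulVec_mulVec, refMat_fix hve, refMat_fix hue] at h1
  have hc1 : c = 1 := smul_left_injective F he0 (by show c • e = (1 : F) • e; rw [one_smul, ← h1])
  have h3 := hc' v
  rw [← mulVec_mulVec, refMat_self hv, mulVec_neg, refMat_fix huv, hc1, one_smul] at h3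
  have h4 : (2 : F) • v = 0 := by rw [two_smul]; exact eq_neg_iff_add_eq_zero.1 h3.symm
  exact hv (by rw [(smul_eq_zero.1 h4).resolve_left h2, hd_zero_right])

theorem pr_sq {u v : Fin n → F} (hu : hd θ D u u ≠ 0) (hv : hd θ D v v ≠ 0) (huv : hd θ D u v = 0) :
    pr θ D u v hu hv * pr θ D u v hu hv = 1 := by
  refine Subtype.ext (Matrix.ext_iff_mulVec.2 fun x => ?_)
  show ((refMat θ D u * refMat θ D v) * (refMat θ D u * refMat θ D v)) *ᵥ x = (1 : Matrix (Fin n) (Fin n) F) *ᵥ x
  have hcomm : refMat θ D v * refMat θ D u = refMat θ D u * refMat θ D v := by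
    refine Matrix.ext_iff_mulVec.2 fun y => ?_
    simp only [← mulVec_mulVec, refMat_mulVec, hd_sub_right, hd_smul_right, huv, hd_zero_symm θ hθ d hd' huv]
    simp only [mul_zero, sub_zero]
    abel
  rw [show refMat θ D u * refMat θ D v * (refMat θ D u * refMat θ D v) =
    refMat θ D u * (refMat θ D v * refMat θ D u) * refMat θ D v by simp only [mul_assoc], hcomm,
    ← mul_assoc (refMat θ D u), refMat_mul_self hu, one_mul, refMat_mul_self hv]

/-- A set of similitudes closed under the commutators with reflections, without orthogonal pairs of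
reflections, consists of scalars. -/
theorem scalar_of_closed [Finite F] (h2 : (2 : F) ≠ 0) (hn : 3 ≤ n) (P : Matrix (Fin n) (Fin n) F → Prop)
    (hsim : ∀ S, P S → ∃ c : F, c ≠ 0 ∧ ∀ x y, hd θ D (S *ᵥ x) (S *ᵥ y) = c * hd θ D x y)
    (hstep : ∀ S, P S → ∀ v, hd θ D v v ≠ 0 → P (refMat θ D (S *ᵥ v) * refMat θ D v))
    (hA : ∀ u v, hd θ D u u ≠ 0 → hd θ D v v ≠ 0 → hd θ D u v = 0 → ¬ P (refMat θ D u * refMat θ D v))
    {S : Matrix (Fin n) (Fin n) F} (hS : P S) : ∃ a, S = Matrix.scalar (Fin n) a := by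
  have hu : ∀ S, P S → ∀ v, hd θ D v v ≠ 0 → hd θ D (S *ᵥ v) (S *ᵥ v) ≠ 0 := fun S hS v hv => by
    obtain ⟨c, hc, hform⟩ := hsim S hS
    rw [hform]
    exact mul_ne_zero hc hv
  have hB : ∀ u v, hd θ D u u ≠ 0 → hd θ D v v ≠ 0 → (∀ a : F, u ≠ a • v) →
      ¬ P (refMat θ D u * refMat θ D v) := fun u v hu' hv huv h => by
    obtain ⟨w, hw, hxw⟩ := exists_orth_image θ hθ d hd' h2 hn hu' hv huv
    exact hA _ w (hu _ h w hw) hw (hd_zero_symm θ hθ d hd' hxw) (hstep _ h w hw)
  have hline : ∀ v, hd θ D v v ≠ 0 → ∃ a : F, S *ᵥ v = a • v := by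
    intro v hv
    by_contra hc
    push Not at hc
    exact hB _ v (hu S hS v hv) hv hc (hstep S hS v hv)
  choose! a ha using hline
  have hsingle : ∀ i : Fin n, hd θ D (Pi.single i 1) (Pi.single i 1) ≠ 0 := fun i => by
    rw [hd_single]; exact (d i).ne_zero
  set al : Fin n → F := fun i => a (Pi.single i 1)
  have hcol : ∀ i, S *ᵥ Pi.single i 1 = al i • Pi.single i 1 := fun i => ha _ (hsingle i)
  have hsum : ∀ (T : Finset (Fin n)), hd θ D (∑ i ∈ T, Pi.single i 1) (∑ i ∈ T, Pi.single i 1) ≠ 0 →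
      ∀ i ∈ T, ∀ j ∈ T, al i = al j := by
    intro T hT i hi j hj
    have h1 := ha _ hT
    rw [mulVec_sum, Finset.sum_congr rfl fun i _ => hcol i] at h1
    have h3 : ∀ l ∈ T, al l = a (∑ i ∈ T, Pi.single i 1) := fun l hl => by
      have h4 := congrFun h1 l
      simpa [Finset.sum_apply, Pi.single_apply, hl] using h4
    exact (h3 i hi).trans (h3 j hj).symm
  have hd2 : ∀ (T : Finset (Fin n)), hd θ D (∑ i ∈ T, Pi.single i 1) (∑ i ∈ T, Pi.single i 1) = ∑ i ∈ T, (d i : F) := by
    intro T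
    simp [hd, Finset.sum_apply, Pi.single_apply, Finset.sum_ite_mem]
  have heq : ∀ i j, al i = al j := by
    intro i j
    rcases eq_or_ne i j with rfl | hij
    · rfl
    by_cases h : (d i : F) + d j = 0
    · obtain ⟨l, -, hl⟩ := Finset.exists_mem_notMem_of_card_lt_card (s := ({i, j} : Finset (Fin n)))
        (t := Finset.univ) (by rw [Finset.card_univ, Fintype.card_fin, Finset.card_pair hij]; omega)
      simp only [Finset.mem_insert, Finset.mem_singleton, not_or] at hl
      refine hsum {i, j, l} ?_ i (by simp) j (by simp)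
      rw [hd2, Finset.sum_insert (by simp [hij, Ne.symm hl.1]), Finset.sum_pair (Ne.symm hl.2), ← add_assoc, h, zero_add]
      exact (d l).ne_zero
    · exact hsum {i, j} (by rw [hd2, Finset.sum_pair hij]; exact h) i (by simp) j (by simp)
  let i₀ : Fin n := ⟨0, by omega⟩
  have hS' : S = Matrix.scalar (Fin n) (al i₀) := by
    ext i j
    have h1 := congrFun (hcol j) i
    rw [mulVec_single_one] at h1
    rw [Matrix.scalar_apply, Matrix.diagonal_apply]
    rcases eq_or_ne i j with rfl | hij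
    · simpa [heq i i₀] using h1
    · simpa [hij] using h1
  exact ⟨al i₀, hS'⟩

/-- A matrix intertwining two embeddings of the fixed points is a scalar and the embeddings agree. -/
theorem scalar_of_rel {L : Type*} [Field L] (ι ι' : F →+* L) (h2 : (2 : F) ≠ 0) (hn : 3 ≤ n) {i₀ : Fin n}
    (hone : ∀ i, i ≠ i₀ → d i = 1)
    (hthree : ∃ a b c : Fin n, a ≠ b ∧ a ≠ c ∧ b ≠ c ∧ d a = 1 ∧ d b = 1 ∧ d c = 1)
    (b : GL (Fin n) L)
    (hrel : ∀ u v, ∀ hu : hd θ D u u ≠ 0, ∀ hv : hd θ D v v ≠ 0, ∃ l : L,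
      (b : Matrix (Fin n) (Fin n) L) * (pr θ D u v hu hv : Matrix (Fin n) (Fin n) F).map ι' =
        l • ((pr θ D u v hu hv : Matrix (Fin n) (Fin n) F).map ι * (b : Matrix (Fin n) (Fin n) L))) :
    b ∈ Subgroup.center (GL (Fin n) L) ∧ ι' = ι := by
  have h2L : (2 : L) ≠ 0 := by rw [← map_ofNat ι 2]; exact (_root_.map_ne_zero ι).2 h2
  set B : Matrix (Fin n) (Fin n) L := (b : Matrix (Fin n) (Fin n) L) with hB
  have hsingle : ∀ i : Fin n, hd θ D (Pi.single i 1) (Pi.single i 1) ≠ 0 := fun i => by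
    rw [hd_single]; exact (d i).ne_zero
  let ε : Fin n → Fin n → SL(n, F) := fun i j => pr θ D _ _ (hsingle i) (hsingle j)
  have hsgn : ∀ i : Fin n, refMat θ D (Pi.single i 1) = Matrix.diagonal fun l => if l = i then -1 else 1 := by
    intro i
    refine Matrix.ext_iff_mulVec.2 fun x => funext fun l => ?_
    rw [refMat_mulVec, hd_single_left, hd_single, mulVec_diagonal]
    rcases eq_or_ne l i with rfl | hl
    · rw [if_pos rfl, Pi.sub_apply, Pi.smul_apply, Pi.single_eq_same, smul_eq_mul, mul_one, ← mul_assoc,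
        mul_div_right_comm, mul_div_cancel_right₀ _ (d l).ne_zero]
      ring
    · simp [hl]
  let sgn : Fin n → Fin n → L := fun i l => if l = i then -1 else 1
  have hεmap : ∀ (κ : F →+* L) i j, (ε i j : Matrix (Fin n) (Fin n) F).map κ =
      Matrix.diagonal fun l => sgn i l * sgn j l := by
    intro κ i j
    show (refMat θ D _ * refMat θ D _).map κ = _
    rw [hsgn, hsgn, diagonal_mul_diagonal, diagonal_map (map_zero κ)]
    congr 1
    funext l
    show κ ((if l = i then (-1 : F) else 1) * if l = j then -1 else 1) = sgn i l * sgn j l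
    simp only [sgn]
    split_ifs <;> simp
  -- multipliers
  let up : (F →+* L) → SL(n, F) → GL (Fin n) L := fun κ s =>
    Units.map κ.mapMatrix.toMonoidHom (Matrix.SpecialLinearGroup.toGL s)
  haveI : Nonempty (Fin n) := ⟨i₀⟩
  have hBne : ∀ s : SL(n, F), (s : Matrix (Fin n) (Fin n) F).map ι * B ≠ 0 := fun s e =>
    not_isUnit_zero ((congrArg IsUnit e).mp (up ι s * b).isUnit)
  let R : SL(n, F) → L → Prop := fun s l => B * (s : Matrix (Fin n) (Fin n) F).map ι' =
    l • ((s : Matrix (Fin n) (Fin n) F).map ι * B)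
  have hRmul : ∀ s t l l', R s l → R t l' → R (s * t) (l * l') := fun s t l l' hs ht => by
    show B * _ = _
    rw [Matrix.SpecialLinearGroup.coe_mul, Matrix.map_mul, Matrix.map_mul, ← mul_assoc, hs, smul_mul,
      mul_assoc _ B, ht, Matrix.mul_smul, smul_smul, ← mul_assoc]
  have hRuniq : ∀ s l l', R s l → R s l' → l = l' := fun s l l' hs ht =>
    smul_left_injective L (hBne s) (hs.symm.trans ht)
  have hRne : ∀ s l, R s l → l ≠ 0 := fun s l hs e => by
    rw [e] at hs
    have h1 : B * (s : Matrix (Fin n) (Fin n) F).map ι' = 0 := by rw [hs, zero_smul]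
    exact not_isUnit_zero ((congrArg IsUnit h1).mp (b * up ι' s).isUnit)
  -- the involutions of a triple have multiplier one
  have htriple : ∀ a a' a'' : Fin n, a ≠ a' → a ≠ a'' → a' ≠ a'' → d a = 1 → d a' = 1 → d a'' = 1 →
      R (ε a a') 1 := by
    intro a a' a'' h01 h02 h12 ha ha' ha''
    have hu : hd θ D (Pi.single a 1 - Pi.single a' 1) (Pi.single a 1 - Pi.single a' 1) ≠ 0 := by
      simp only [hd_sub_left, hd_sub_right, hd_single_left, Pi.single_eq_same, Pi.single_eq_of_ne h01,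
        Pi.single_eq_of_ne h01.symm, ha, ha', Units.val_one]
      simpa [one_add_one_eq_two] using h2
    have hv : hd θ D (Pi.single a' 1 - Pi.single a'' 1) (Pi.single a' 1 - Pi.single a'' 1) ≠ 0 := by
      simp only [hd_sub_left, hd_sub_right, hd_single_left, Pi.single_eq_same, Pi.single_eq_of_ne h12,
        Pi.single_eq_of_ne h12.symm, ha', ha'', Units.val_one]
      simpa [one_add_one_eq_two] using h2
    set C := pr θ D _ _ hu hv
    have hswap : ∀ i j : Fin n, i ≠ j → d i = 1 → d j = 1 → refMat θ D (Pi.single i 1 - Pi.single j 1) *ᵥ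
        (Pi.single i 1 : Fin n → F) = Pi.single j 1 ∧
        refMat θ D (Pi.single i 1 - Pi.single j 1) *ᵥ (Pi.single j 1 : Fin n → F) = Pi.single i 1 := by
      intro i j hij hi hj
      have e1 : hd θ D (Pi.single i 1 - Pi.single j 1) (Pi.single i 1 - Pi.single j 1) = 2 := by
        simp only [hd_sub_left, hd_sub_right, hd_single_left, Pi.single_eq_same, Pi.single_eq_of_ne hij,
          Pi.single_eq_of_ne hij.symm, hi, hj, Units.val_one]
        norm_num
      constructor <;> rw [refMat_mulVec, e1, hd_sub_left, hd_single_left, hd_single_left]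
      · rw [Pi.single_eq_same, Pi.single_eq_of_ne hij.symm, hi, Units.val_one, mul_zero, sub_zero, mul_one,
          mul_one, div_self h2, one_smul, sub_sub_cancel]
      · rw [Pi.single_eq_same, Pi.single_eq_of_ne hij, hj, Units.val_one, mul_zero, zero_sub, mul_one,
          mul_neg_one, neg_div, div_self h2, neg_one_smul, sub_neg_eq_add, add_sub_cancel]
    have hfix : ∀ i j l : Fin n, l ≠ i → l ≠ j →
        refMat θ D (Pi.single i 1 - Pi.single j 1) *ᵥ (Pi.single l 1 : Fin n → F) = Pi.single l 1 := fun i j l hi hj =>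
      refMat_fix (by rw [hd_sub_left, hd_single_left, hd_single_left, Pi.single_eq_of_ne hi.symm,
        Pi.single_eq_of_ne hj.symm]; simp)
    have hCa : (C : Matrix (Fin n) (Fin n) F) *ᵥ Pi.single a 1 = Pi.single a' 1 := by
      rw [pr_coe, ← mulVec_mulVec, hfix a' a'' a h01 h02, (hswap a a' h01 ha ha').1]
    have hCa' : (C : Matrix (Fin n) (Fin n) F) *ᵥ Pi.single a' 1 = Pi.single a'' 1 := by
      rw [pr_coe, ← mulVec_mulVec, (hswap a' a'' h12 ha' ha'').1, hfix a a' a'' h02.symm h12.symm]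
    have hCa'' : (C : Matrix (Fin n) (Fin n) F) *ᵥ Pi.single a'' 1 = Pi.single a 1 := by
      rw [pr_coe, ← mulVec_mulVec, (hswap a' a'' h12 ha' ha'').2, (hswap a a' h01 ha ha').2]
    have hconj : ∀ i j i' j', (C : Matrix (Fin n) (Fin n) F) *ᵥ Pi.single i 1 = Pi.single i' 1 →
        (C : Matrix (Fin n) (Fin n) F) *ᵥ Pi.single j 1 = Pi.single j' 1 → C * ε i j = ε i' j' * C := by
      intro i j i' j' hi hj
      have hform : ∀ x y, hd θ D ((C : Matrix (Fin n) (Fin n) F) *ᵥ x) ((C : Matrix (Fin n) (Fin n) F) *ᵥ y) =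
          1 * hd θ D x y := fun x y => by
        rw [one_mul]
        exact (sim_to_form θ d (pr_sim θ hθ d hd' hu hv) x y).trans (one_mul _)
      refine Subtype.ext ?_
      show (C : Matrix (Fin n) (Fin n) F) * (refMat θ D _ * refMat θ D _) =
        refMat θ D _ * refMat θ D _ * (C : Matrix (Fin n) (Fin n) F)
      rw [← mul_assoc, mul_refMat (one_ne_zero) hform, hi, mul_assoc, mul_refMat (one_ne_zero) hform, hj, ← mul_assoc]
    obtain ⟨lc, hlc⟩ := hrel _ _ hu hv
    obtain ⟨l₁, hl₁⟩ := hrel _ _ (hsingle a) (hsingle a')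
    obtain ⟨l₂, hl₂⟩ := hrel _ _ (hsingle a') (hsingle a'')
    have e1 := hRuniq _ _ _ (hRmul C (ε a a') lc l₁ hlc hl₁)
      (by rw [hconj a a' a' a'' hCa hCa']; exact hRmul _ C l₂ lc hl₂ hlc)
    have e12 : l₁ = l₂ := mul_left_cancel₀ (hRne _ _ hlc) (e1.trans (mul_comm _ _))
    obtain ⟨l₃, hl₃⟩ := hrel _ _ (hsingle a'') (hsingle a)
    have e2 := hRuniq _ _ _ (hRmul C (ε a' a'') lc l₂ hlc hl₂)
      (by rw [hconj a' a'' a'' a hCa' hCa'']; exact hRmul _ C l₃ lc hl₃ hlc)
    have e23 : l₂ = l₃ := mul_left_cancel₀ (hRne _ _ hlc) (e2.trans (mul_comm _ _))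
    have hprod : ε a a' * ε a' a'' * ε a'' a = 1 := Subtype.ext (by
      show refMat θ D _ * refMat θ D _ * (refMat θ D _ * refMat θ D _) * (refMat θ D _ * refMat θ D _) = 1
      simp only [mul_assoc]
      rw [← mul_assoc (refMat θ D (Pi.single a' 1)), refMat_mul_self (hsingle a'), one_mul,
        ← mul_assoc (refMat θ D (Pi.single a'' 1)), refMat_mul_self (hsingle a''), one_mul,
        refMat_mul_self (hsingle a)])
    have hone' : R 1 1 := by show B * _ = _; simp
    have e3 := hRuniq _ _ _ (hRmul _ _ _ _ (hRmul (ε a a') (ε a' a'') l₁ l₂ hl₁ hl₂) hl₃) (by rw [hprod]; exact hone')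
    have hε2 : ε a a' * ε a a' = 1 := pr_sq θ hθ d hd' _ _ (by
      rw [hd_single_left, Pi.single_eq_of_ne h01, mul_zero])
    have e4 := hRuniq _ _ _ (hRmul _ _ _ _ hl₁ hl₁) (by rw [hε2]; exact hone')
    have : l₁ = 1 := by
      rw [← e23, ← e12, e4, one_mul] at e3
      exact e3
    exact this ▸ hl₁
  -- `B` is diagonal
  obtain ⟨x₁, x₂, x₃, h12, h13, h23, hx₁, hx₂, hx₃⟩ := hthree
  have hothers : ∀ a : Fin n, d a = 1 → ∃ a' a'', a ≠ a' ∧ a ≠ a'' ∧ a' ≠ a'' ∧ d a' = 1 ∧ d a'' = 1 := by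
    intro a ha
    by_cases h1 : a = x₁
    · exact ⟨x₂, x₃, h1 ▸ h12, h1 ▸ h13, h23, hx₂, hx₃⟩
    by_cases h3 : a = x₂
    · exact ⟨x₁, x₃, h3 ▸ h12.symm, h3 ▸ h23, h13, hx₁, hx₃⟩
    exact ⟨x₁, x₂, h1, h3, h12, hx₁, hx₂⟩
  have hoff : ∀ k l, k ≠ l → B k l = 0 := by
    intro k l hkl
    have key : ∀ a a', a ≠ a' → d a = 1 → d a' = 1 → (∃ a'', a ≠ a'' ∧ a' ≠ a'' ∧ d a'' = 1) →
        ((k = a ∧ l ≠ a') ∨ (l = a ∧ k ≠ a')) → B k l = 0 := by
      rintro a a' haa' ha ha' ⟨a'', h1, h3, h4⟩ hcase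
      have e := congrFun (congrFun (htriple a a' a'' haa' h1 h3 ha ha' h4) k) l
      rw [hεmap, hεmap, one_smul, mul_diagonal, diagonal_mul] at e
      simp only [sgn] at e
      rcases hcase with ⟨rfl, hl⟩ | ⟨rfl, hk⟩
      · simp [hkl.symm, hl, haa'] at e
        exact (mul_eq_zero.1 (show (2 : L) * B k l = 0 by linear_combination e)).resolve_left h2L
      · simp [hkl, hk, haa'] at e
        exact (mul_eq_zero.1 (show (2 : L) * B k l = 0 by linear_combination -e)).resolve_left h2L
    by_cases hk : d k = 1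
    · obtain ⟨a', a'', h1, h3, h4, h5, h6⟩ := hothers k hk
      by_cases hl : l = a'
      · exact key k a'' h3 hk h6 ⟨a', h1, h4.symm, h5⟩ (Or.inl ⟨rfl, hl ▸ h4⟩)
      · exact key k a' h1 hk h5 ⟨a'', h3, h4, h6⟩ (Or.inl ⟨rfl, hl⟩)
    · have hl1 : d l = 1 := hone l fun e => hk (hone k fun e' => hkl (e'.trans e.symm))
      obtain ⟨a', a'', h1, h3, h4, h5, h6⟩ := hothers l hl1
      exact key l a' h1 hl1 h5 ⟨a'', h3, h4, h6⟩ (Or.inr ⟨rfl, fun e => hk (e ▸ h5)⟩)
  have hdiagne : ∀ k, B k k ≠ 0 := fun k e => by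
    refine ((Matrix.isUnit_iff_isUnit_det _).1 b.isUnit).ne_zero (Matrix.det_eq_zero_of_column_eq_zero k fun i => ?_)
    rcases eq_or_ne i k with rfl | hik
    · exact e
    · exact hoff i k hik
  -- entries of the products of two reflections
  have key : ∀ (a c k : Fin n) (v : Fin n → F) (hv : hd θ D v v ≠ 0), a ≠ c → k ≠ a → d a = 1 → v a = 1 →
      v c = 0 → ι' (hd θ D v v) = ι (hd θ D v v) ∧ B k k * ι' (v k) = ι (v k) * B a a := by
    intro a c k v hv hac hka ha hva hvc
    obtain ⟨l, hl⟩ := hrel _ _ (hsingle a) hv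
    set s : Matrix (Fin n) (Fin n) F := (pr θ D _ v (hsingle a) hv : Matrix (Fin n) (Fin n) F) with hs
    have hent : ∀ i j, B i i * ι' (s i j) = l * (ι (s i j) * B j j) := by
      intro i j
      have e := congrFun (congrFun hl i) j
      rw [Matrix.smul_apply, smul_eq_mul, Matrix.mul_apply, Matrix.mul_apply,
        Finset.sum_eq_single i (fun x _ hx => by rw [hoff i x (Ne.symm hx), zero_mul])
          (fun h => absurd (Finset.mem_univ i) h),
        Finset.sum_eq_single j (fun x _ hx => by rw [hoff x j hx, mul_zero])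
          (fun h => absurd (Finset.mem_univ j) h), Matrix.map_apply, Matrix.map_apply] at e
      exact e
    have hsc : s c c = 1 := by
      have e : s *ᵥ Pi.single c 1 = Pi.single c 1 := by
        have h1 : hd θ D v (Pi.single c 1) = 0 := by rw [hd_single_right, hvc, map_zero, zero_mul]
        have h3 : hd θ D (Pi.single a 1) (Pi.single c 1) = 0 := by
          rw [hd_single_left, Pi.single_eq_of_ne hac, mul_zero]
        rw [hs, pr_coe, ← mulVec_mulVec, refMat_fix h1, refMat_fix h3]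
      have e2 := congrFun e c
      rwa [mulVec_single_one, Pi.single_eq_same] at e2
    have hl1 : l = 1 := by
      have e := hent c c
      rw [hsc, map_one, map_one, mul_one, one_mul] at e
      exact (mul_eq_right₀ (hdiagne c)).1 e.symm
    subst hl1
    set Q := hd θ D v v
    have hcolA : s *ᵥ Pi.single a 1 = (2 / Q - 1) • (Pi.single a 1 : Fin n → F) - (2 / Q) • (v - Pi.single a 1) := by
      rw [hs, pr_coe, ← mulVec_mulVec, refMat_mulVec v, hd_single_right, hva, map_one, ha, Units.val_one, one_mul,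
        mul_one, mulVec_sub, mulVec_smul, refMat_self (hsingle a), refMat_mulVec, hd_single_left, hd_single, ha,
        Units.val_one, hva, one_mul, mul_one, div_one]
      module
    have hsaa : s a a = 2 / Q - 1 := by
      have e2 := congrFun hcolA a
      rw [mulVec_single_one] at e2
      simpa [hva] using e2
    have hska : s k a = -(2 / Q * v k) := by
      have e2 := congrFun hcolA k
      rw [mulVec_single_one] at e2
      simpa [hka] using e2
    have e1 := hent a a
    rw [hsaa, one_mul, mul_comm] at e1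
    have e1' := mul_right_cancel₀ (hdiagne a) e1
    simp only [map_sub, map_div₀, map_ofNat, map_one, sub_left_inj, div_eq_mul_inv, map_inv₀, map_mul,
      mul_right_inj' h2L, _root_.inv_inj] at e1'
    refine ⟨e1', ?_⟩
    have e3 := hent k a
    rw [hska, map_neg, map_mul, map_div₀, map_ofNat, e1', one_mul, map_neg, map_mul, map_div₀, map_ofNat] at e3
    exact mul_left_cancel₀ (div_ne_zero h2L ((_root_.map_ne_zero ι).2 hv)) (by linear_combination -e3)
  -- equal diagonal entries inside a triple, and the field part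
  have hpair : ∀ a a' a'' : Fin n, a ≠ a' → a ≠ a'' → a' ≠ a'' → d a = 1 → d a' = 1 →
      ∀ c : F, 1 + c * θ c ≠ 0 → B a' a' * ι' c = ι c * B a a := by
    intro a a' a'' h01 h02 h12' ha ha' c hc
    have e := (key a a'' a' (Pi.single a 1 + c • Pi.single a' 1) (by
      simp only [hd_add_left, hd_add_right, hd_smul_left, hd_smul_right, hd_single_left, Pi.single_eq_same,
        Pi.single_eq_of_ne h01, Pi.single_eq_of_ne h01.symm, ha, ha', Units.val_one]
      intro h0
      apply hc
      linear_combination h0) h02 h01.symm ha (by simp [h01]) (by simp [h02.symm, h12'.symm])).2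
    simpa [h01.symm] using e
  have hsame : ∀ a a', d a = 1 → d a' = 1 → B a a = B a' a' := by
    intro a a' ha ha'
    rcases eq_or_ne a a' with rfl | hne
    · rfl
    obtain ⟨y, y', h1, h3, h4, h5, h6⟩ := hothers a ha
    have h2' : (1 : F) + 1 * θ 1 ≠ 0 := by rw [map_one, mul_one, one_add_one_eq_two]; exact h2
    by_cases hy : y = a'
    · simpa using (hpair a a' y' hne h3 (hy ▸ h4) ha ha' 1 h2').symm
    · simpa using (hpair a a' y hne h1 (Ne.symm hy) ha ha' 1 h2').symm
  have hτ : ∀ c, ι' c = ι c := by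
    have hc : ∀ c : F, 1 + c * θ c ≠ 0 → ι' c = ι c := fun c hc => by
      have e := hpair x₁ x₂ x₃ h12 h13 h23 hx₁ hx₂ c hc
      rw [hsame x₁ x₂ hx₁ hx₂, mul_comm (ι c)] at e
      exact mul_left_cancel₀ (hdiagne x₂) e
    intro c
    by_cases h1 : 1 + c * θ c ≠ 0
    · exact hc c h1
    push Not at h1
    by_cases h3 : 1 + (c + 1) * θ (c + 1) ≠ 0
    · have := hc (c + 1) h3
      rwa [map_add, map_add, map_one, map_one, add_left_inj] at this
    push Not at h3
    have h4 : 1 + (c - 1) * θ (c - 1) ≠ 0 := by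
      intro h4
      rw [map_add, map_one] at h3
      rw [map_sub, map_one] at h4
      exact h2 (by linear_combination h3 + h4 - 2 * h1)
    have := hc (c - 1) h4
    rwa [map_sub, map_sub, map_one, map_one, sub_left_inj] at this
  have hall : ∀ k, B k k = B x₁ x₁ := by
    intro k
    by_cases hk : d k = 1
    · exact hsame k x₁ hk hx₁
    have hk1 : k ≠ x₁ := fun e => hk (e ▸ hx₁)
    have hk2 : k ≠ x₂ := fun e => hk (e ▸ hx₂)
    have hk3 : k ≠ x₃ := fun e => hk (e ▸ hx₃)
    by_cases h1 : (1 : F) + (d k : F) ≠ 0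
    · have e := (key x₁ x₂ k (Pi.single x₁ 1 + Pi.single k 1) (by
        simp only [hd_add_left, hd_add_right, hd_single_left, Pi.single_eq_same, Pi.single_eq_of_ne hk1,
          Pi.single_eq_of_ne hk1.symm, hx₁, Units.val_one]
        simpa using h1) h12 hk1 hx₁ (by simp [hk1.symm]) (by simp [h12.symm, hk2.symm])).2
      simpa [hk1] using e
    · push Not at h1
      have e := (key x₁ x₃ k (Pi.single x₁ 1 + Pi.single x₂ 1 + Pi.single k 1) (by
        simp only [hd_add_left, hd_add_right, hd_single_left, Pi.single_eq_same, Pi.single_eq_of_ne hk1,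
          Pi.single_eq_of_ne hk1.symm, Pi.single_eq_of_ne hk2, Pi.single_eq_of_ne hk2.symm, Pi.single_eq_of_ne h12,
          Pi.single_eq_of_ne h12.symm, hx₁, hx₂, Units.val_one]
        intro h0
        exact one_ne_zero (α := F) (by linear_combination h0 - h1)) h13 hk1 hx₁ (by simp [h12, hk1.symm])
        (by simp [h13.symm, h23.symm, hk3.symm])).2
      simpa [hk1, hk2] using e
  refine ⟨?_, RingHom.ext hτ⟩
  have : b = GeneralLinearGroup.scalar (Fin n) (Units.mk0 _ (hdiagne x₁)) := Units.ext (Matrix.ext fun k l => by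
    show B k l = Matrix.scalar (Fin n) (B x₁ x₁) k l
    rw [Matrix.scalar_apply, Matrix.diagonal_apply]
    rcases eq_or_ne k l with rfl | hkl
    · rw [if_pos rfl]; exact hall k
    · rw [if_neg hkl]; exact hoff k l hkl)
  rw [this]
  exact scalar_mem_center _

variable (p : ℕ) [Fact p.Prime] [CharP F p]

include p

/-- No orthogonal pair of reflections is trivial in `PSL_n(F)`. -/
theorem pr_ne_one (h2 : (2 : F) ≠ 0) (hn : 3 ≤ n) {u v : Fin n → F} (hu : hd θ D u u ≠ 0) (hv : hd θ D v v ≠ 0)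
    (huv : hd θ D u v = 0) : mkP (pr θ D u v hu hv) ≠ 1 := by
  intro h
  obtain ⟨c, -, hc⟩ := Matrix.SpecialLinearGroup.mem_center_iff.1 ((QuotientGroup.eq_one_iff _).1 h)
  exact refMat_mul_ne_scalar θ hθ d hd' h2 hn hv huv c hc.symm

/-- No odd-order normal subgroup in the fixed points. -/
theorem oddCore_eq_bot [Finite F] (h2 : (2 : F) ≠ 0) (hn : 3 ≤ n) : oddCore θ (diagGL d) = ⊥ := by
  have h2n : 2 ≤ n := by omega
  -- multiplying by the conjugate under a reflection
  have step : ∀ (S : SL(n, F)), mkP S ∈ oddCore θ (diagGL d) → ∀ v, ∀ hv : hd θ D v v ≠ 0,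
      ∃ hu : hd θ D ((S : Matrix (Fin n) (Fin n) F) *ᵥ v) ((S : Matrix (Fin n) (Fin n) F) *ᵥ v) ≠ 0,
        mkP (pr θ D ((S : Matrix (Fin n) (Fin n) F) *ᵥ v) v hu hv) ∈ oddCore θ (diagGL d) := by
    intro S hS v hv
    obtain ⟨c, hc⟩ := sim_of_fixed p h2n (oddCore_fixed hS)
    have hform : ∀ x y, hd θ D ((S : Matrix (Fin n) (Fin n) F) *ᵥ x) ((S : Matrix (Fin n) (Fin n) F) *ᵥ y) =
        (c : F) * hd θ D x y := sim_to_form θ d hc
    have hu : hd θ D ((S : Matrix (Fin n) (Fin n) F) *ᵥ v) ((S : Matrix (Fin n) (Fin n) F) *ᵥ v) ≠ 0 := by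
      rw [hform]
      exact mul_ne_zero c.ne_zero hv
    refine ⟨hu, ?_⟩
    have h1 := (oddCore θ (diagGL d)).mul_mem hS
      ((oddCore θ (diagGL d)).inv_mem (delta_mem_oddCore (refGL_sim θ hθ d hd' hv) hS))
    rw [show mkP S = (S : PSL(n, F)) from rfl, delta_mkP,
      show (conjMat (refGL θ D v hv) S : PSL(n, F)) = mkP (conjMat (refGL θ D v hv) S) from rfl,
      show ((S : PSL(n, F))) = mkP S from rfl, ← map_inv, ← map_mul] at h1
    have e : pr θ D _ v hu hv = S * (conjMat (refGL θ D v hv) S)⁻¹ := by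
      rw [conjMat_inv]
      refine Subtype.ext ?_
      rw [pr_coe, Matrix.SpecialLinearGroup.coe_mul, conjMat_coe]
      show _ = (S : Matrix (Fin n) (Fin n) F) * (refMat θ D v * _ * refMat θ D v)
      rw [← mul_assoc, ← mul_assoc, mul_refMat c.ne_zero hform v, mul_assoc (refMat θ D _) _
        ((S⁻¹ : SL(n, F)) : Matrix (Fin n) (Fin n) F), ← Matrix.SpecialLinearGroup.coe_mul, mul_inv_cancel,
        Matrix.SpecialLinearGroup.coe_one, mul_one]
    rw [e]
    exact h1
  let P : Matrix (Fin n) (Fin n) F → Prop := fun S =>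
    ∃ s : SL(n, F), (s : Matrix (Fin n) (Fin n) F) = S ∧ mkP s ∈ oddCore θ (diagGL d)
  refine (Subgroup.eq_bot_iff_forall _).2 fun k hk => ?_
  obtain ⟨s, rfl⟩ := mkP_surjective k
  obtain ⟨a, ha⟩ := scalar_of_closed θ hθ d hd' h2 hn P
    (fun S ⟨s, hs, hsC⟩ => by
      obtain ⟨c, hc⟩ := sim_of_fixed p h2n (oddCore_fixed hsC)
      exact ⟨c, c.ne_zero, fun x y => hs ▸ sim_to_form θ d hc x y⟩)
    (fun S ⟨s, hs, hsC⟩ v hv => by
      obtain ⟨hu, h⟩ := step s hsC v hv
      exact ⟨_, by rw [pr_coe, hs], h⟩)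
    (fun u v hu hv huv ⟨s, hs, hsC⟩ => pr_ne_one θ hθ d hd' p h2 hn hu hv huv (eq_one_of_sq
      (show mkP (pr θ D u v hu hv) ∈ oddCore θ (diagGL d) from
        (show s = pr θ D u v hu hv from Subtype.ext hs) ▸ hsC)
      (by rw [← map_mul, pr_sq θ hθ d hd' hu hv huv, map_one])))
    (S := (s : Matrix (Fin n) (Fin n) F)) ⟨s, rfl, hk⟩
  refine (QuotientGroup.eq_one_iff _).2 (Matrix.SpecialLinearGroup.mem_center_iff.2 ⟨a, ?_, ha.symm⟩)
  have h1 := s.det_coe
  rw [ha] at h1
  simpa [Matrix.det_diagonal] using h1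

/-- Only trivial products `b τ` fix the fixed points. -/
theorem cent_diag [Finite F] (h2 : (2 : F) ≠ 0) (hn : 3 ≤ n) {i₀ : Fin n} (hone : ∀ i, i ≠ i₀ → d i = 1)
    (hthree : ∃ a b c : Fin n, a ≠ b ∧ a ≠ c ∧ b ≠ c ∧ d a = 1 ∧ d b = 1 ∧ d c = 1)
    (b : GL (Fin n) F) (τ : F ≃+* F)
    (h : ∀ k, gt θ (diagGL d) k = k → (delta b * fieldAut τ : MulAut PSL(n, F)) k = k) :
    (delta b * fieldAut τ : MulAut PSL(n, F)) = 1 := by
  have h2n : 2 ≤ n := by omega
  obtain ⟨hbc, hτ⟩ := scalar_of_rel θ hθ d hd' (RingHom.id F) τ.toRingHom h2 hn hone hthree b fun u v hu hv => by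
    obtain ⟨l, hl⟩ := exists_rel p (h _ (fixed_of_sim p h2n (pr_sim θ hθ d hd' hu hv)))
    exact ⟨l, hl⟩
  rw [delta_eq_one_of_mem_center hbc, show τ = 1 from RingEquiv.ext fun x => RingHom.congr_fun hτ x, map_one, one_mul]

/-- Readiness for diagonal forms. -/
theorem ready_diag [Finite F] (h2 : (2 : F) ≠ 0) (hn : 3 ≤ n) (hord : orderOf (gt θ (diagGL d)) = 2) {i₀ : Fin n}
    (hone : ∀ i, i ≠ i₀ → d i = 1)
    (hthree : ∃ a b c : Fin n, a ≠ b ∧ a ≠ c ∧ b ≠ c ∧ d a = 1 ∧ d b = 1 ∧ d c = 1) :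
    Ready (gt θ (diagGL d)) := by
  have h2n : 2 ≤ n := by omega
  refine ready_gt p h2n hord ?_ (oddCore_eq_bot θ hθ d hd' p h2 hn) (cent_diag θ hθ d hd' p h2 hn hone hthree)
  obtain ⟨a, b, -, hab, -⟩ := hthree
  have ha : hd θ D (Pi.single a 1) (Pi.single a 1) ≠ 0 := by rw [hd_single]; exact (d a).ne_zero
  have hb : hd θ D (Pi.single b 1) (Pi.single b 1) ≠ 0 := by rw [hd_single]; exact (d b).ne_zero
  have horth : hd θ D (Pi.single a 1) (Pi.single b 1) = 0 := by
    rw [hd_single_left, Pi.single_eq_of_ne hab, mul_zero]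
  exact ⟨mkP (pr θ D _ _ ha hb), pr_ne_one θ hθ d hd' p h2 hn ha hb horth,
    by rw [← map_mul, pr_sq θ hθ d hd' ha hb horth, map_one], fixed_of_sim p h2n (pr_sim θ hθ d hd' ha hb)⟩

end CfsgLib.AutPSL.LocalBal
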