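import Cfsg.Agent.Lib.AutPSL.Classes
import Cfsg.Agent.Lib.ClassicalAut.Balance
import Cfsg.Agent.Lib.Classical.Transvection
import Cfsg.Agent.Lib.Classical.Card

set_option autoImplicit false

/-!
Local balance for field automorphisms of `PSL_n(F)`.
-/

namespace CfsgLib.AutPSL.LocalBal

open Matrix
open scoped MatrixGroups LinearAlgebra.Projectivization
open CfsgLib.ClassicalAut.Balance (Fix)

universe u

/-- A normal subgroup of `SL_n` containing the centre is central or contains the commutator
subgroup. -/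
theorem commutator_le_or_le_center {ι F : Type*} [Fintype ι] [DecidableEq ι] [Field F] [Nontrivial ι]
    (N : Subgroup (SpecialLinearGroup ι F)) [N.Normal]
    (hZ : Subgroup.center (SpecialLinearGroup ι F) ≤ N) :
    N ≤ Subgroup.center (SpecialLinearGroup ι F) ∨ commutator (SpecialLinearGroup ι F) ≤ N := by
  let π := QuotientGroup.mk' (Subgroup.center (SpecialLinearGroup ι F))
  have : (N.map π).Normal := Subgroup.Normal.map inferInstance _ (QuotientGroup.mk'_surjective _)
  by_cases hN : MulAction.fixedPoints (N.map π) (ℙ F (ι → F)) = .univ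
  · refine Or.inl fun s hs => ?_
    have hline : ∀ v : ι → F, ∃ a : F, (s : Matrix ι ι F) *ᵥ v = a • v := by
      intro v
      by_cases hv : v = 0
      · exact ⟨0, by rw [hv, mulVec_zero, smul_zero]⟩
      have h := Set.eq_univ_iff_forall.1 hN (Projectivization.mk F v hv) ⟨π s, s, hs, rfl⟩
      change (π s) • Projectivization.mk F v hv = Projectivization.mk F v hv at h
      rw [show π s = ((s : SpecialLinearGroup ι F) : ProjectiveSpecialLinearGroup ι F) from rfl,
        Matrix.ProjectiveSpecialLinearGroup.smul_proj_mk, Projectivization.smul_mk,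
        Projectivization.mk_eq_mk_iff'] at h
      obtain ⟨a, ha⟩ := h
      exact ⟨a, by rw [ha]; rfl⟩
    rw [Matrix.SpecialLinearGroup.mem_center_iff]
    obtain ⟨i₀⟩ := (inferInstance : Nonempty ι)
    have hdiag : ∀ i j, i ≠ j → (s : Matrix ι ι F) i j = 0 ∧ (s : Matrix ι ι F) i i = (s : Matrix ι ι F) j j := by
      intro i j hij
      obtain ⟨a, ha⟩ := hline (Pi.single j 1)
      obtain ⟨a', ha'⟩ := hline (Pi.single i 1)
      obtain ⟨b, hb⟩ := hline (Pi.single i 1 + Pi.single j 1)
      have h1 := congrFun ha i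
      have h1' := congrFun ha j
      have h2 := congrFun ha' i
      have h2' := congrFun ha' j
      have h3 := congrFun hb i
      have h4 := congrFun hb j
      simp [Matrix.mulVec_add, hij, hij.symm] at h1 h1' h2 h2' h3 h4
      rw [h1, add_zero] at h3
      rw [h2', zero_add] at h4
      exact ⟨h1, h3.trans h4.symm⟩
    have hs' : (s : Matrix ι ι F) = Matrix.scalar ι ((s : Matrix ι ι F) i₀ i₀) := by
      ext i j
      rcases eq_or_ne i j with rfl | hij
      · rcases eq_or_ne i i₀ with rfl | hi
        · simp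
        · simpa using (hdiag i i₀ hi).2
      · simpa [hij] using (hdiag i j hij).1
    refine ⟨_, ?_, hs'.symm⟩
    have hd := s.det_coe
    rw [hs'] at hd
    simpa [Matrix.det_diagonal] using hd
  · refine Or.inr fun x hx => ?_
    have h : commutator (ProjectiveSpecialLinearGroup ι F) ≤ N.map π :=
      CfsgLib.Classical.pslIwasawa.commutator_le _ hN
    have h2 : π x ∈ commutator (ProjectiveSpecialLinearGroup ι F) := by
      have h3 : Subgroup.map π (commutator (SpecialLinearGroup ι F)) ≤
          commutator (ProjectiveSpecialLinearGroup ι F) := by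
        rw [_root_.commutator_def, Subgroup.map_commutator]
        exact Subgroup.commutator_mono le_top le_top
      exact h3 ⟨x, hx, rfl⟩
    obtain ⟨y, hy, hyx⟩ := h h2
    have h4 : y⁻¹ * x ∈ Subgroup.center (SpecialLinearGroup ι F) := QuotientGroup.eq.1 hyx
    simpa using N.mul_mem hy (hZ h4)

/-- The order of the centre of `SL_n(K)` times a prime divisor `r` of it still divides `|SL_n(K)|`. -/
theorem center_mul_dvd {K : Type*} [Field K] [Fintype K] {n r : ℕ} (hn : 2 ≤ n) (hr : r.Prime)
    (hrZ : r ∣ Nat.card (Subgroup.center (SpecialLinearGroup (Fin n) K))) :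
    Nat.card (Subgroup.center (SpecialLinearGroup (Fin n) K)) * r ∣
      Nat.card (SpecialLinearGroup (Fin n) K) := by
  have : Nonempty (Fin n) := ⟨⟨0, by omega⟩⟩
  set q := Fintype.card K
  have hq : 1 < q := Fintype.one_lt_card
  rw [CfsgLib.Classical.card_center_SL, Fintype.card_fin, Nat.card_eq_fintype_card] at hrZ ⊢
  have hz : Nat.gcd n (q - 1) * r ∣ (q - 1) * (q - 1) :=
    mul_dvd_mul (Nat.gcd_dvd_right _ _) (hrZ.trans (Nat.gcd_dvd_right _ _))
  rcases Nat.lt_or_ge n 3 with h3 | h3
  · obtain rfl : n = 2 := by omega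
    obtain rfl : r = 2 := (Nat.prime_dvd_prime_iff_eq hr Nat.prime_two).1 (hrZ.trans (Nat.gcd_dvd_left _ _))
    have h2q : 2 ∣ q - 1 := hrZ.trans (Nat.gcd_dvd_right _ _)
    have e : Nat.gcd 2 (q - 1) = 2 := Nat.gcd_eq_left h2q
    rw [e, CfsgLib.Classical.card_SL_two]
    refine Dvd.dvd.mul_left ?_ _
    obtain ⟨t, ht⟩ := h2q
    have hq2 : q = 2 * t + 1 := by omega
    show 2 * 2 ∣ q ^ 2 - 1
    rw [hq2, show (2 * t + 1) ^ 2 = 4 * (t * t + t) + 1 by ring, Nat.add_sub_cancel]
    exact dvd_mul_right _ _
  · refine hz.trans (Nat.dvd_of_mul_dvd_mul_left (by omega : 0 < q - 1) ?_)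
    rw [CfsgLib.Classical.sub_one_mul_card_SL (by omega)]
    let i₁ : Fin n := ⟨n - 1, by omega⟩
    let i₂ : Fin n := ⟨n - 2, by omega⟩
    let i₃ : Fin n := ⟨0, by omega⟩
    have h12 : i₁ ≠ i₂ := by simp [i₁, i₂]; omega
    have h13 : i₁ ≠ i₃ := by simp [i₁, i₃]; omega
    have h23 : i₂ ≠ i₃ := by simp [i₂, i₃]; omega
    refine dvd_trans ?_ (Finset.prod_dvd_prod_of_subset {i₁, i₂, i₃} Finset.univ _ (Finset.subset_univ _))
    rw [Finset.prod_insert (by simp [h12, h13]), Finset.prod_insert (by simp [h23]), Finset.prod_singleton]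
    have key : ∀ i ≤ n, q - 1 ∣ q ^ n - q ^ i := fun i hi => by
      rw [show q ^ n - q ^ i = q ^ i * (q ^ (n - i) - 1) by
        rw [Nat.mul_sub_one, ← pow_add, Nat.add_sub_cancel' hi]]
      exact Dvd.dvd.mul_left (Nat.sub_one_dvd_pow_sub_one q (n - i)) _
    exact mul_dvd_mul (key _ (by simp [i₁])) (mul_dvd_mul (key _ (by simp [i₂])) (key _ (by simp [i₃])))

variable {n : ℕ} {F : Type u} [Field F]

theorem conjMat_scalar (c : Fˣ) (s : SL(n, F)) : conjMat (GeneralLinearGroup.scalar (Fin n) c) s = s := by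
  apply Subtype.ext
  have h := congrArg Units.val (scalar_comm c (Matrix.SpecialLinearGroup.toGL s))
  rw [Units.val_mul, Units.val_mul] at h
  have h' : ((GeneralLinearGroup.scalar (Fin n) c : GL (Fin n) F) : Matrix (Fin n) (Fin n) F) * s.1 =
      s.1 * ((GeneralLinearGroup.scalar (Fin n) c : GL (Fin n) F) : Matrix (Fin n) (Fin n) F) := h
  show ((GeneralLinearGroup.scalar (Fin n) c : GL (Fin n) F) : Matrix (Fin n) (Fin n) F) * s.1 * _ = _
  rw [h', mul_assoc, Units.mul_inv, mul_one]

variable [Fintype F] (p : ℕ) [Fact p.Prime] [CharP F p]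

include p

/-- An element fixing the transvections over the fixed field is a power of the field automorphism. -/
theorem cent_field_of_transvections (hn : 2 ≤ n) {σ : F ≃+* F} {g : MulAut PSL(n, F)}
    (hfix : ∀ (i j : Fin n) (hij : i ≠ j) (c : F), σ c = c →
      g (Matrix.SpecialLinearGroup.transvection hij c : PSL(n, F)) =
        (Matrix.SpecialLinearGroup.transvection hij c : PSL(n, F))) :
    g ∈ Subgroup.zpowers (fieldAut σ) := by
  obtain ⟨b, τ, hb⟩ : ∃ (b : GL (Fin n) F) (τ : F ≃+* F), g = delta b * fieldAut τ := by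
    obtain ⟨b, τ, e, hb⟩ := exists_normal_form p hn g
    rcases graphPow_eq_or (n := n) (F := F) e with he | he
    · exact ⟨b, τ, by rw [hb, he, mul_one]⟩
    rcases Nat.lt_or_ge n 3 with h3 | h3
    · obtain rfl : n = 2 := by omega
      exact exists_normal_form_two p g
    exfalso
    have hcol : ∀ i j : Fin n, i ≠ j → ∀ a, a ≠ i → (b : Matrix (Fin n) (Fin n) F) a j = 0 := by
      intro i j hij a ha
      have h := hfix i j hij 1 (map_one σ)
      rw [hb, he, MulAut.mul_apply, MulAut.mul_apply, graphAut_transvection hij, fieldAut_mkP,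
        mapMat_transvection, delta_mkP] at h
      have h2 := congrFun (congrFun (conjMat_transvection_of_mk_eq p hij.symm hij h) a) i
      simpa [Matrix.mul_apply, Matrix.single_apply, Ne.symm ha] using h2
    have : Nonempty (Fin n) := ⟨⟨0, by omega⟩⟩
    let j : Fin n := ⟨0, by omega⟩
    let i : Fin n := ⟨1, by omega⟩
    let i' : Fin n := ⟨2, by omega⟩
    have hz : ∀ a, (b : Matrix (Fin n) (Fin n) F) a j = 0 := by
      intro a
      by_cases ha : a = i
      · exact hcol i' j (by simp [i', j]) a (by rw [ha]; simp [i, i'])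
      · exact hcol i j (by simp [i, j]) a ha
    exact ((Matrix.isUnit_iff_isUnit_det _).1 b.isUnit).ne_zero (Matrix.det_eq_zero_of_column_eq_zero j hz)
  have hrel : ∀ (i j : Fin n) (_ : i ≠ j) (c : F), σ c = c →
      (b : Matrix (Fin n) (Fin n) F) * Matrix.single i j (τ c) =
        Matrix.single i j c * (b : Matrix (Fin n) (Fin n) F) := by
    intro i j hij c hc
    have h := hfix i j hij c hc
    rw [hb, MulAut.mul_apply, fieldAut_mkP, mapMat_transvection, delta_mkP] at h
    exact conjMat_transvection_of_mk_eq p hij hij h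
  have hbc : b ∈ Subgroup.center (GL (Fin n) F) := mem_center_of_commute_single fun i j hij => by
    simpa using hrel i j hij 1 (map_one σ)
  rw [hb, delta_eq_one_of_mem_center hbc, one_mul]
  have hτ : ∀ c, σ c = c → τ c = c := by
    intro c hc
    let i : Fin n := ⟨0, by omega⟩
    let j : Fin n := ⟨1, by omega⟩
    have hij : i ≠ j := by simp [i, j]
    have h := hfix i j hij c hc
    rw [hb, delta_eq_one_of_mem_center hbc, one_mul, fieldAut_mkP, mapMat_transvection] at h
    exact transvection_mk_inj p hij h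
  let G := Subgroup.zpowers σ
  have : FaithfulSMul G F := ⟨fun {a b} h => Subtype.ext (RingEquiv.ext h)⟩
  have : Finite (F ≃+* F) := Finite.of_injective (fun e => (e : F → F)) DFunLike.coe_injective
  have : Fintype G := Fintype.ofFinite G
  let t : F ≃ₐ[FixedPoints.subfield G F] F :=
    AlgEquiv.ofRingEquiv (f := τ) fun c => hτ c (c.2 ⟨σ, Subgroup.mem_zpowers σ⟩)
  obtain ⟨e, he⟩ := (FixedPoints.toAlgAutMulEquiv G F).surjective t
  have he' : (e : F ≃+* F) = τ :=
    RingEquiv.ext fun x => congrArg (fun e : F ≃ₐ[FixedPoints.subfield G F] F => e x) he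
  obtain ⟨k, hk⟩ := Subgroup.mem_zpowers_iff.1 e.2
  exact ⟨k, by show fieldAut σ ^ k = fieldAut τ; rw [← map_zpow, hk, he']⟩

/-- An element fixing the fixed points is a power of the field automorphism. -/
theorem cent_field (hn : 2 ≤ n) {σ : F ≃+* F} (g : MulAut PSL(n, F))
    (hg : ∀ k, fieldAut σ k = k → g k = k) : g ∈ Subgroup.zpowers (fieldAut σ) :=
  cent_field_of_transvections p hn fun i j hij c hc => hg _ (by
    rw [fieldAut_mkP, mapMat_transvection, hc])

omit [Fintype F] in
/-- The inner automorphisms are faithful. -/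
theorem conj_eq_one (hn : 2 ≤ n) (k : PSL(n, F)) (h : MulAut.conj k = 1) : k = 1 := by
  obtain ⟨s, rfl⟩ := QuotientGroup.mk_surjective k
  obtain ⟨c, hc⟩ := mem_center_of_delta_eq_one p hn ((delta_toGL s).trans h)
  rw [QuotientGroup.eq_one_iff, Matrix.SpecialLinearGroup.mem_center_iff]
  have hM : (s : Matrix (Fin n) (Fin n) F) = Matrix.scalar (Fin n) (c : F) := congrArg Units.val hc
  have hd := s.det_coe
  rw [hM] at hd
  exact ⟨(c : F), by simpa [Matrix.det_diagonal] using hd, hM.symm⟩

omit [Fintype F] in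
theorem transvection_ne_one (hn : 2 ≤ n) {i j : Fin n} (hij : i ≠ j) :
    (Matrix.SpecialLinearGroup.transvection hij (1 : F) : PSL(n, F)) ≠ 1 := fun h => one_ne_zero (α := F)
  (transvection_mk_inj p hij (h.trans (by
    rw [show Matrix.SpecialLinearGroup.transvection hij (0 : F) = 1 from Subtype.ext (by
      simp [Matrix.SpecialLinearGroup.transvection_coe])]
    rfl)))

/-- The hypothesis on normal subgroups. -/
theorem normal_field (hn : 2 ≤ n) {σ : F ≃+* F} {r : ℕ} [Fact r.Prime] (hrp : r ≠ p)
    (hσ : orderOf σ = r) (hd : r ∣ Nat.card (Fix (fieldAut σ : MulAut PSL(n, F))))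
    (M : Subgroup (Fix (fieldAut σ : MulAut PSL(n, F)))) (hMn : M.Normal) (hMne : M ≠ ⊥) :
    r ∣ Nat.card M := by
  classical
  have hr : r.Prime := Fact.out
  have hp : p.Prime := Fact.out
  have : Nonempty (Fin n) := ⟨⟨0, by omega⟩⟩
  have : Nontrivial (Fin n) := Fin.nontrivial_iff_two_le.2 hn
  obtain ⟨f, -, hF⟩ := FiniteField.card F p
  let x : MulAut PSL(n, F) := fieldAut σ
  let L := Fix x
  let K := fixedField σ
  have : Fintype K := Fintype.ofFinite _
  let ι : K →+* F := K.subtype
  have : CharP K p := (RingHom.charP_iff ι Subtype.val_injective p).2 ‹_›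
  let θ : SL(n, K) →* SL(n, F) := Matrix.SpecialLinearGroup.map ι
  have hθσ : ∀ s, mapMat σ (θ s) = θ s := fun s => Subtype.ext (Matrix.ext fun i j => (s.1 i j).2)
  let h : SL(n, K) →* L := ((mkP).comp θ).codRestrict L fun s => by
    show x (mkP (θ s)) = mkP (θ s)
    exact (fieldAut_mkP σ (θ s)).trans (congrArg _ (hθσ s))
  have hker : ∀ s, h s = 1 ↔ s ∈ Subgroup.center SL(n, K) := by
    intro s
    have e1 : h s = 1 ↔ θ s ∈ Subgroup.center SL(n, F) :=
      Subtype.ext_iff.trans (QuotientGroup.eq_one_iff _)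
    rw [e1, Matrix.SpecialLinearGroup.mem_center_iff, Matrix.SpecialLinearGroup.mem_center_iff]
    constructor
    · rintro ⟨c, hc, hcs⟩
      obtain ⟨i₀⟩ := (inferInstance : Nonempty (Fin n))
      have hval : ι (s.1 i₀ i₀) = c := by
        refine (congrFun (congrFun hcs.symm i₀) i₀).trans ?_
        simp
      refine ⟨s.1 i₀ i₀, Subtype.val_injective ?_, ?_⟩
      · show ι (s.1 i₀ i₀ ^ _) = ι 1
        rw [map_pow, hval, hc, map_one]
      · ext i j
        refine Eq.trans ?_ (congrFun (congrFun hcs i) j)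
        show ι (Matrix.scalar (Fin n) (s.1 i₀ i₀) i j) = _
        rcases eq_or_ne i j with rfl | hij
        · simpa using hval
        · simp [hij]
    · rintro ⟨c, hc, hcs⟩
      refine ⟨ι c, by rw [← map_pow, hc, map_one], ?_⟩
      show _ = (s.1).map ι
      rw [← hcs]
      ext i j
      rcases eq_or_ne i j with rfl | hij
      · show (Matrix.scalar (Fin n) (ι c)) i i = ι ((Matrix.scalar (Fin n) c) i i)
        simp
      · show (Matrix.scalar (Fin n) (ι c)) i j = ι ((Matrix.scalar (Fin n) c) i j)
        simp [hij]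
  -- `r` divides the order of the fixed group
  have hS : r ∣ Nat.card SL(n, K) := by
    have hσ1 : σ ≠ 1 := fun e => hr.ne_one (by rw [← hσ, e, orderOf_one])
    have hcls : Cfsg.IsFieldAutClassPSL x :=
      ⟨1, σ, hσ1, isStdFieldAut_iff.2 (by simp [x])⟩
    have hxr : orderOf x = r := (orderOf_fieldAut p hn σ).trans hσ
    obtain ⟨-, hK⟩ := card_fixedField_eq hF hr.pos hσ
    obtain ⟨-, ⟨e⟩, -⟩ := field_centralizer p f hF hn hcls hr hxr K (by
      rw [← Nat.card_eq_fintype_card]; exact hK)
    refine hd.trans ?_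
    rw [← CfsgLib.Classical.card_PGL_eq_card_SL, ← Nat.card_congr e.toEquiv]
    refine Subgroup.card_dvd_of_injective ((MulAut.conj.comp L.subtype).codRestrict _ fun k => ?_)
      fun a b e => ?_
    · refine ⟨?_, Subgroup.mem_centralizer_singleton_iff.2 ?_⟩
      · obtain ⟨s, hs⟩ := mkP_surjective (k : PSL(n, F))
        rw [inndiagPSL_eq]
        exact ⟨Matrix.SpecialLinearGroup.toGL s, (delta_toGL s).trans (congrArg MulAut.conj hs)⟩
      · show MulAut.conj (k : PSL(n, F)) * x = x * MulAut.conj (k : PSL(n, F))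
        rw [CfsgLib.ClassicalAut.Balance.mul_conj x, show x (k : PSL(n, F)) = k from k.2]
    · have e' : MulAut.conj (a : PSL(n, F)) = MulAut.conj (b : PSL(n, F)) := congrArg Subtype.val e
      refine Subtype.ext (mul_inv_eq_one.1 (conj_eq_one p hn _ ?_))
      rw [map_mul, map_inv, e', mul_inv_cancel]
  set N := M.comap h
  have : N.Normal := hMn.comap h
  have hZN : Subgroup.center SL(n, K) ≤ N := fun s hs => by
    show h s ∈ M
    rw [(hker s).2 hs]
    exact one_mem _
  rcases commutator_le_or_le_center N hZN with hN | hN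
  · -- no elements outside the centre: `M` centralises the fixed transvections
    exfalso
    refine hMne ((Subgroup.eq_bot_iff_forall _).2 fun k hk => ?_)
    have hcomm : ∀ (i j : Fin n) (hij : i ≠ j) (c : F), σ c = c →
        MulAut.conj (k : PSL(n, F)) (Matrix.SpecialLinearGroup.transvection hij c : PSL(n, F)) =
          (Matrix.SpecialLinearGroup.transvection hij c : PSL(n, F)) := by
      intro i j hij c hc
      set t : SL(n, K) := Matrix.SpecialLinearGroup.transvection hij ⟨c, hc⟩
      have ht : θ t = Matrix.SpecialLinearGroup.transvection hij c := Subtype.ext (by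
        show (t.1).map ι = _
        simp only [t, Matrix.SpecialLinearGroup.transvection_coe]
        rw [Matrix.map_add _ (map_add ι), Matrix.map_one _ (map_zero _) (map_one _), Matrix.map_single]
        rfl)
      -- the conjugate of a fixed element by `k` is again one
      obtain ⟨s₀, hs₀⟩ := mkP_surjective (k : PSL(n, F))
      have hkx : Commute (delta (Matrix.SpecialLinearGroup.toGL s₀) : MulAut PSL(n, F)) x := by
        rw [delta_toGL, show mkP s₀ = (k : PSL(n, F)) from hs₀, commute_iff_eq,
          CfsgLib.ClassicalAut.Balance.mul_conj x, show x (k : PSL(n, F)) = k from k.2]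
      obtain ⟨lam, hlam⟩ := (commute_field_iff p hn σ _).1 hkx
      have hfix : mapMat σ (conjMat (Matrix.SpecialLinearGroup.toGL s₀) (θ t)) =
          conjMat (Matrix.SpecialLinearGroup.toGL s₀) (θ t) := by
        rw [mapMat_conjMat, hθσ, hlam, conjMat_mul_left,
          conjMat_scalar lam]
      have hent : ∀ i j, σ ((conjMat (Matrix.SpecialLinearGroup.toGL s₀) (θ t)).1 i j) =
          (conjMat (Matrix.SpecialLinearGroup.toGL s₀) (θ t)).1 i j := fun i j => by
        have h1 := congrFun (congrFun (congrArg Subtype.val hfix) i) j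
        exact h1
      let M₀ : Matrix (Fin n) (Fin n) K := fun i j => ⟨_, hent i j⟩
      have hdet : M₀.det = 1 := Subtype.val_injective (by
        show ι M₀.det = ι 1
        rw [RingHom.map_det, map_one]
        exact (conjMat (Matrix.SpecialLinearGroup.toGL s₀) (θ t)).2)
      let A₀ : SL(n, K) := ⟨M₀, hdet⟩
      have hs' : k * h t * k⁻¹ = h A₀ := Subtype.ext (by
        show (k : PSL(n, F)) * mkP (θ t) * (k : PSL(n, F))⁻¹ = mkP (θ A₀)
        rw [show θ A₀ = conjMat (Matrix.SpecialLinearGroup.toGL s₀) (θ t) from Subtype.ext rfl,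
          ← hs₀, conjMat_toGL, map_mul, map_mul, map_inv])
      have hin : h (A₀ * t⁻¹) ∈ M := by
        rw [map_mul, map_inv, ← hs', mul_assoc, mul_assoc]
        refine M.mul_mem hk ?_
        simpa [mul_assoc] using hMn.conj_mem k⁻¹ (M.inv_mem hk) (h t)
      have h1 := (hker _).2 (hN hin)
      rw [map_mul, map_inv, mul_inv_eq_one, ← hs'] at h1
      have h2 := congrArg Subtype.val h1
      show (k : PSL(n, F)) * _ * (k : PSL(n, F))⁻¹ = _
      rw [← ht]
      exact h2
    have hk' : MulAut.conj (k : PSL(n, F)) ∈ Subgroup.zpowers x := cent_field_of_transvections p hn hcomm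
    obtain ⟨i, hi⟩ := Subgroup.mem_zpowers_iff.1 hk'
    obtain ⟨s, hs⟩ := mkP_surjective (k : PSL(n, F))
    have h1 : (delta (Matrix.SpecialLinearGroup.toGL s))⁻¹ * fieldAut (σ ^ i) = (1 : MulAut PSL(n, F)) := by
      rw [map_zpow, show fieldAut σ ^ i = MulAut.conj (k : PSL(n, F)) from hi, delta_toGL,
        show mkP s = (k : PSL(n, F)) from hs, inv_mul_cancel]
    obtain ⟨-, h2⟩ := mem_center_of_delta_fieldAut p hn (g := (Matrix.SpecialLinearGroup.toGL s)⁻¹)
      (by rw [map_inv]; exact h1)
    refine Subtype.ext (conj_eq_one p hn _ ?_)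
    rw [← hi]
    show x ^ i = 1
    rw [← map_zpow, h2, map_one]
  · -- the normal subgroup has index a power of the characteristic
    have hab : ∀ a : Abelianization SL(n, K), a ^ p = 1 := by
      intro a
      obtain ⟨s, rfl⟩ := QuotientGroup.mk_surjective a
      have hs : s ∈ Subgroup.closure {A : SL(n, K) |
          ∃ (i j : Fin n) (h : i ≠ j) (c : K), A = SpecialLinearGroup.transvection h c} := by
        rw [CfsgLib.Classical.closure_transvection_eq_top]; trivial
      show Abelianization.of s ^ p = 1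
      induction hs using Subgroup.closure_induction with
      | mem y hy =>
        obtain ⟨i, j, hij, c, rfl⟩ := hy
        rw [← map_pow, transvection_pow p hij c, map_one]
      | one => rw [map_one, one_pow]
      | mul y z _ _ hy hz => rw [map_mul, mul_pow, hy, hz, one_mul]
      | inv y _ hy => rw [map_inv, inv_pow, hy, inv_one]
    obtain ⟨j, hj⟩ := IsPGroup.iff_card.1 (show IsPGroup p (Abelianization SL(n, K)) from fun a =>
      ⟨1, by rw [pow_one]; exact hab a⟩)
    have hidx : N.index ∣ p ^ j := hj ▸ Subgroup.index_dvd_of_le hN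
    set z := Nat.card (Subgroup.center SL(n, K))
    have hpz : ¬ p ∣ z := by
      rw [show z = _ from CfsgLib.Classical.card_center_SL]
      intro hpz
      obtain ⟨e, he, hcard⟩ := FiniteField.card K p
      have h1 : p ∣ Nat.card K - 1 := hpz.trans (Nat.gcd_dvd_right _ _)
      have h2 : p ∣ Nat.card K := by rw [Nat.card_eq_fintype_card, hcard]; exact dvd_pow_self p e.ne_zero
      have h3 := Nat.dvd_sub h2 h1
      rw [show Nat.card K - (Nat.card K - 1) = 1 by have := Nat.card_pos (α := K); omega] at h3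
      exact hp.ne_one (Nat.dvd_one.1 h3)
    let hN' : N →* M := (h.comp N.subtype).codRestrict M fun y => y.2
    have hker2 : Nat.card hN'.ker ∣ z :=
      Subgroup.card_dvd_of_injective
        ((N.subtype.comp hN'.ker.subtype).codRestrict _ fun y =>
          (hker _).1 (congrArg (fun w : M => (w : L)) y.2))
        fun a b e => Subtype.ext (Subtype.ext (congrArg (fun w : Subgroup.center SL(n, K) => (w : SL(n, K))) e))
    have hsplit : Nat.card N = Nat.card hN'.range * Nat.card hN'.ker := by
      rw [← Nat.card_congr (QuotientGroup.quotientKerEquivRange hN').toEquiv,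
        ← Subgroup.card_eq_card_quotient_mul_card_subgroup]
    refine dvd_trans ?_ (Subgroup.card_subgroup_dvd_card hN'.range)
    have hdiv : ∀ d, ¬ p ∣ d → d ∣ Nat.card SL(n, K) → d ∣ Nat.card N := fun d hd1 hd2 =>
      (Nat.Coprime.coprime_dvd_right hidx ((hp.coprime_iff_not_dvd.2 hd1).symm.pow_right j)).dvd_of_dvd_mul_right
        (by rwa [Subgroup.card_mul_index])
    have hpr : ¬ p ∣ r := fun e => hrp ((Nat.prime_dvd_prime_iff_eq hp hr).1 e).symm
    by_cases hrz : r ∣ z
    · have h1 := hdiv (z * r) (fun e => ((Nat.Prime.dvd_mul hp).1 e).elim hpz hpr) (center_mul_dvd hn hr hrz)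
      rw [hsplit] at h1
      obtain ⟨b, hb⟩ := hker2
      have h2 : Nat.card hN'.range * Nat.card hN'.ker ∣ Nat.card hN'.range * z :=
        mul_dvd_mul_left _ ⟨b, hb⟩
      have h3 := h1.trans h2
      rw [mul_comm _ z] at h3
      exact Nat.dvd_of_mul_dvd_mul_left Nat.card_pos h3
    · have h1 := hdiv r hpr hS
      rw [hsplit] at h1
      exact ((hr.dvd_mul).1 h1).resolve_right fun e => hrz (e.trans hker2)

end CfsgLib.AutPSL.LocalBal
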