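import Cfsg.Agent.Lib.AutPSL.Descent

set_option autoImplicit false

/-!
Hermitian matrices over a finite field are congruent to the identity.
-/

namespace CfsgLib.AutPSL

open Matrix
open scoped MatrixGroups

variable {n : ℕ} {F : Type*} [Field F]

/-- The sesquilinear form of a matrix. -/
def sesq (σ : F ≃+* F) (H : Matrix (Fin n) (Fin n) F) (u w : Fin n → F) : F :=
  u ⬝ᵥ (H *ᵥ fun j => σ (w j))

variable {σ : F ≃+* F} {H : Matrix (Fin n) (Fin n) F}

theorem sesq_add_left (u u' w : Fin n → F) :
    sesq σ H (u + u') w = sesq σ H u w + sesq σ H u' w := add_dotProduct _ _ _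

theorem sesq_smul_left (c : F) (u w : Fin n → F) :
    sesq σ H (c • u) w = c * sesq σ H u w := smul_dotProduct _ _ _

theorem sesq_sum_left {ι : Type*} (s : Finset ι) (u : ι → Fin n → F) (w : Fin n → F) :
    sesq σ H (∑ i ∈ s, u i) w = ∑ i ∈ s, sesq σ H (u i) w := sum_dotProduct _ _ _

theorem sesq_swap (hσ : ∀ x, σ (σ x) = x) (hH : (H.map σ)ᵀ = H) (u w : Fin n → F) :
    σ (sesq σ H u w) = sesq σ H w u := by
  have h1 : σ (sesq σ H u w) = (fun j => σ (u j)) ⬝ᵥ (H.map σ *ᵥ w) := by
    show σ.toRingHom (u ⬝ᵥ (H *ᵥ fun j => σ (w j))) = _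
    rw [RingHom.map_dotProduct]
    congr 1
    funext i
    show σ.toRingHom ((H *ᵥ fun j => σ (w j)) i) = _
    rw [RingHom.map_mulVec]
    simp [hσ, Function.comp_def]
  rw [h1, sesq, dotProduct_mulVec, dotProduct_comm]
  congr 1
  conv_rhs => rw [← hH]
  rw [mulVec_transpose]

variable [Finite F]

/-- A hermitian matrix is `h σ(h)ᵀ`. -/
theorem exists_hermitian_factor (hσ : orderOf σ = 2) (hdet : H.det ≠ 0)
    (hH : (H.map σ)ᵀ = H) :
    ∃ h : GL (Fin n) F,
      H = (h : Matrix (Fin n) (Fin n) F) * ((h : Matrix (Fin n) (Fin n) F).map σ)ᵀ := by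
  have hσσ : ∀ x, σ (σ x) = x := fun x => by
    have h2 : σ ^ 2 = 1 := hσ ▸ pow_orderOf_eq_one σ
    rw [sq] at h2
    exact DFunLike.congr_fun h2 x
  have hσne : ∃ c, σ c ≠ c := by
    by_contra hcon
    simp only [not_exists, not_not] at hcon
    rw [show σ = 1 from RingEquiv.ext hcon, orderOf_one] at hσ
    omega
  have hdet' : (H.map σ).det ≠ 0 := by rw [← Matrix.det_transpose, hH]; exact hdet
  have hsw := sesq_swap hσσ hH
  -- build an orthonormal family
  have key : ∀ k ≤ n, ∃ e : Fin k → Fin n → F,
      ∀ i j, sesq σ H (e i) (e j) = if i = j then 1 else 0 := by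
    intro k
    induction k with
    | zero => exact fun _ => ⟨fun i => i.elim0, fun i => i.elim0⟩
    | succ k ih =>
      intro hk
      obtain ⟨e, he⟩ := ih (by omega)
      let π : (Fin n → F) → (Fin n → F) := fun x => x - ∑ i, sesq σ H x (e i) • e i
      have hπ : ∀ x j, sesq σ H (π x) (e j) = 0 := by
        intro x j
        have h1 : sesq σ H (π x) (e j) + sesq σ H (∑ i, sesq σ H x (e i) • e i) (e j) =
            sesq σ H x (e j) := by
          rw [← sesq_add_left, sub_add_cancel]
        rw [sesq_sum_left, Finset.sum_eq_single j (fun i _ hi => by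
          rw [sesq_smul_left, he, if_neg hi, mul_zero]) (fun h => absurd (Finset.mem_univ j) h),
          sesq_smul_left, he, if_pos rfl, mul_one] at h1
        exact add_eq_right.1 h1
      have hπ' : ∀ x j, sesq σ H (e j) (π x) = 0 := fun x j => by
        rw [← hsw, hπ, map_zero]
      obtain ⟨w, hw, hw0⟩ : ∃ w, (∀ j, sesq σ H w (e j) = 0) ∧ sesq σ H w w ≠ 0 := by
        by_contra hcon
        have hall : ∀ w, (∀ j, sesq σ H w (e j) = 0) → sesq σ H w w = 0 := fun w hw => by
          by_contra h; exact hcon ⟨w, hw, h⟩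
        have hpol : ∀ u v, (∀ j, sesq σ H u (e j) = 0) → (∀ j, sesq σ H v (e j) = 0) →
            sesq σ H u v = 0 := by
          intro u v hu hv
          have hsum : ∀ c : F,
              c * sesq σ H v u + σ c * sesq σ H u v = 0 := by
            intro c
            have h0 := hall (u + c • v) (fun j => by
              rw [sesq_add_left, sesq_smul_left, hu, hv, mul_zero, add_zero])
            have hr : ∀ a, sesq σ H a (u + c • v) = sesq σ H a u + σ c * sesq σ H a v := by
              intro a
              rw [← hsw, sesq_add_left, sesq_smul_left, map_add, map_mul, hsw, hsw]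
            rw [sesq_add_left, sesq_smul_left, hr, hr, hall u hu, hall v hv] at h0
            linear_combination h0
          have h1 := hsum 1
          rw [map_one, one_mul, one_mul] at h1
          obtain ⟨c, hc⟩ := hσne
          have h2 : (σ c - c) * sesq σ H u v = 0 := by linear_combination hsum c - c * h1
          exact (mul_eq_zero.1 h2).resolve_left (sub_ne_zero.2 hc)
        -- every projection vanishes
        have hzero : ∀ x, π x = 0 := by
          intro x
          have hv : ∀ v, sesq σ H (π x) v = 0 := by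
            intro v
            have h3 := hpol (π x) (π v) (hπ x) (hπ v)
            rw [← hsw, map_eq_zero_iff σ σ.injective] at h3 ⊢
            have h4 : sesq σ H v (π x) = sesq σ H (π v) (π x) +
                sesq σ H (∑ i, sesq σ H v (e i) • e i) (π x) := by
              rw [← sesq_add_left, sub_add_cancel]
            rw [h4, h3, sesq_sum_left, zero_add]
            exact Finset.sum_eq_zero fun i _ => by rw [sesq_smul_left, hπ', mul_zero]
          by_contra hne
          obtain ⟨i, hi⟩ := Function.ne_iff.1 hne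
          have hzero' : π x ᵥ* H = 0 := by
            funext l
            have := hv (Pi.single l 1)
            rw [sesq, show (fun j => σ ((Pi.single l 1 : Fin n → F) j)) = Pi.single l 1 from
              funext fun j => by by_cases h : j = l <;> simp [h], dotProduct_mulVec] at this
            simpa using this
          exact hdet (Matrix.exists_vecMul_eq_zero_iff.1 ⟨π x, hne, hzero'⟩)
        have hspan : Submodule.span F (Set.range e) = ⊤ := by
          rw [eq_top_iff]
          intro x _
          rw [sub_eq_zero.1 (hzero x)]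
          exact Submodule.sum_mem _ fun i _ =>
            Submodule.smul_mem _ _ (Submodule.subset_span ⟨i, rfl⟩)
        have := finrank_range_le_card (R := F) e
        rw [Set.finrank, hspan, finrank_top, Module.finrank_fin_fun, Fintype.card_fin] at this
        omega
      have hfix : σ (sesq σ H w w) = sesq σ H w w := hsw w w
      obtain ⟨d, hd⟩ := exists_unorm_eq (by norm_num) hσ (Units.mk0 _ hw0)⁻¹ (by simp [hfix])
      have hdd : (d : F) * σ d * sesq σ H w w = 1 := by
        have := congrArg Units.val hd
        simp [unorm] at this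
        rw [this, inv_mul_cancel₀ hw0]
      have hwr : ∀ a, sesq σ H a ((d : F) • w) = σ d * sesq σ H a w := fun a => by
        rw [← hsw, sesq_smul_left, map_mul, hsw]
      refine ⟨Fin.cons ((d : F) • w) e, fun i j => ?_⟩
      refine Fin.cases ?_ (fun i' => ?_) i <;> refine Fin.cases ?_ (fun j' => ?_) j
      · simp only [Fin.cons_zero, if_pos]
        rw [sesq_smul_left, hwr]
        linear_combination hdd
      · simp only [Fin.cons_zero, Fin.cons_succ]
        rw [if_neg (Fin.succ_ne_zero j').symm, sesq_smul_left, hw, mul_zero]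
      · simp only [Fin.cons_zero, Fin.cons_succ]
        rw [if_neg (Fin.succ_ne_zero i'), hwr, ← hsw, hw, map_zero, mul_zero]
      · simp only [Fin.cons_succ, he, Fin.succ_inj]
  obtain ⟨e, he⟩ := key n le_rfl
  let P : Matrix (Fin n) (Fin n) F := Matrix.of e
  have hP : P * H * (P.map σ)ᵀ = 1 := by
    ext i j
    rw [Matrix.mul_assoc, Matrix.mul_apply', Matrix.one_apply]
    exact he i j
  have hPdet : P.det ≠ 0 := fun h => by
    have := congrArg Matrix.det hP
    rw [Matrix.det_mul, Matrix.det_mul, h, zero_mul, zero_mul, Matrix.det_one] at this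
    exact zero_ne_one this
  set Q := Matrix.GeneralLinearGroup.mkOfDetNeZero P hPdet
  refine ⟨Q⁻¹, ?_⟩
  have hPu : IsUnit P.det := isUnit_iff_ne_zero.2 hPdet
  have hQ : ((Q⁻¹ : GL (Fin n) F) : Matrix (Fin n) (Fin n) F) * P = 1 := Q.inv_mul
  have hQ' : (P.map σ)ᵀ * (((Q⁻¹ : GL (Fin n) F) : Matrix (Fin n) (Fin n) F).map σ)ᵀ = 1 := by
    rw [← Matrix.transpose_mul, ← Matrix.map_mul, hQ, Matrix.map_one _ (map_zero σ) (map_one σ),
      Matrix.transpose_one]
  calc H = ((Q⁻¹ : GL (Fin n) F) : Matrix (Fin n) (Fin n) F) * (P * H * (P.map σ)ᵀ) *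
        (((Q⁻¹ : GL (Fin n) F) : Matrix (Fin n) (Fin n) F).map σ)ᵀ := by
          rw [← Matrix.mul_assoc, ← Matrix.mul_assoc, hQ, Matrix.one_mul, Matrix.mul_assoc, hQ',
            Matrix.mul_one]
    _ = _ := by rw [hP, Matrix.mul_one]

end CfsgLib.AutPSL
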