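import Mathlib
import Cfsg.Agent.Lib.Classical.DiscClass
import Cfsg.Agent.Lib.Classical.Forms
import Cfsg.Agent.Lib.Classical.InvolutionData

set_option autoImplicit false

/-!
Congruence classes of invertible symmetric and alternating matrices over a finite field.
-/

namespace CfsgLib.AutPSL.Congr

open Matrix

universe u

variable {ι κ : Type*} [Fintype ι] [DecidableEq ι] [Fintype κ] [DecidableEq κ] {F : Type u} [Field F]

theorem congr_dot (h M : Matrix ι ι F) (u v : ι → F) :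
    (h *ᵥ u) ⬝ᵥ (M *ᵥ (h *ᵥ v)) = u ⬝ᵥ ((hᵀ * M * h) *ᵥ v) := by
  rw [Matrix.mulVec_mulVec, Matrix.mul_assoc, ← Matrix.mulVec_mulVec v hᵀ (M * h),
    dotProduct_mulVec u hᵀ, Matrix.vecMul_transpose]

omit [DecidableEq ι] in
theorem eq_of_bil {A B : Matrix ι ι F}
    (h : ∀ u v : ι → F, u ⬝ᵥ (A *ᵥ v) = u ⬝ᵥ (B *ᵥ v)) : A = B := by
  classical
  ext i j
  simpa using h (Pi.single i 1) (Pi.single j 1)

omit [DecidableEq ι] in
theorem dot_comm {A : Matrix ι ι F} (hA : Aᵀ = A) (u v : ι → F) :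
    u ⬝ᵥ (A *ᵥ v) = v ⬝ᵥ (A *ᵥ u) := by
  rw [dotProduct_mulVec, ← Matrix.mulVec_transpose, hA, dotProduct_comm]

omit [DecidableEq ι] in
theorem eq_of_quad (h2 : (2 : F) ≠ 0) {A B : Matrix ι ι F} (hA : Aᵀ = A) (hB : Bᵀ = B)
    (h : ∀ v : ι → F, v ⬝ᵥ (A *ᵥ v) = v ⬝ᵥ (B *ᵥ v)) : A = B := by
  refine eq_of_bil fun u v => mul_left_cancel₀ h2 ?_
  have h1 := h (u + v)
  simp only [mulVec_add, dotProduct_add, add_dotProduct] at h1
  linear_combination h1 - h u - h v + dot_comm hA u v - dot_comm hB u v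

/-- A family with the Gram matrix `N` gives a congruence to `N`. -/
theorem exists_congr_of_family {M : Matrix ι ι F} {N : Matrix κ κ F} (hN : N.det ≠ 0)
    (b : κ → ι → F) (hb : ∀ i j, b i ⬝ᵥ (M *ᵥ b j) = N i j) (e : ι ≃ κ) :
    ∃ a : GL ι F, (a : Matrix ι ι F)ᵀ * M * (a : Matrix ι ι F) = N.submatrix e e := by
  let A : Matrix ι ι F := Matrix.of fun r i => b (e i) r
  have h : Aᵀ * M * A = N.submatrix e e := by
    ext i j
    rw [Matrix.submatrix_apply, ← hb, Matrix.mul_assoc, Matrix.mul_apply']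
    rfl
  have hA : A.det ≠ 0 := fun h0 => by
    have := congrArg Matrix.det h
    rw [Matrix.det_mul, h0, mul_zero, Matrix.det_submatrix_equiv_self] at this
    exact hN this.symm
  exact ⟨GeneralLinearGroup.mkOfDetNeZero A hA, h⟩

omit [DecidableEq ι] in
theorem transpose_congr {M : Matrix ι ι F} (a : Matrix ι ι F) (hM : Mᵀ = M) :
    (aᵀ * M * a)ᵀ = aᵀ * M * a := by
  rw [Matrix.transpose_mul, Matrix.transpose_mul, Matrix.transpose_transpose, hM, Matrix.mul_assoc]

/-- Symmetric matrices in odd characteristic are congruent as soon as the determinants agree up to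
squares. -/
theorem exists_congr_sym [Finite F] (h2 : (2 : F) ≠ 0) {n : ℕ} {M M' : Matrix (Fin n) (Fin n) F}
    (hM : Mᵀ = M) (hM' : M'ᵀ = M') (hd : M.det ≠ 0) (hd' : M'.det ≠ 0)
    (hsq : IsSquare (M.det * M'.det)) :
    ∃ a : GL (Fin n) F, (a : Matrix (Fin n) (Fin n) F)ᵀ * M * (a : Matrix (Fin n) (Fin n) F) = M' := by
  have key : ∀ A : Matrix (Fin n) (Fin n) F, Aᵀ = A →
      ∀ Q : QuadraticForm F (Fin n → F), (∀ v, Q v = v ⬝ᵥ (A *ᵥ v)) →
      LinearMap.toMatrix₂' F (QuadraticMap.polarBilin Q) = (2 : F) • A := by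
    intro A hA Q hQ
    ext i j
    rw [LinearMap.toMatrix₂'_apply]
    show QuadraticMap.polar ⇑Q _ _ = _
    have h1 := dot_comm hA (Pi.single i 1) (Pi.single j 1)
    have h2 : Pi.single i 1 ⬝ᵥ (A *ᵥ Pi.single j 1) = A i j := by simp
    simp only [QuadraticMap.polar, hQ, mulVec_add, dotProduct_add, add_dotProduct,
      Matrix.smul_apply, smul_eq_mul]
    linear_combination -h1 + 2 * h2
  let Q : Matrix (Fin n) (Fin n) F → QuadraticForm F (Fin n → F) := fun A =>
    LinearMap.BilinMap.toQuadraticMap (Matrix.toLinearMap₂' F A)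
  have hQ : ∀ A v, Q A v = v ⬝ᵥ (A *ᵥ v) := fun A v => Matrix.toLinearMap₂'_apply' A v v
  have hnd : ∀ A : Matrix (Fin n) (Fin n) F, Aᵀ = A → A.det ≠ 0 →
      (QuadraticMap.polarBilin (Q A)).Nondegenerate := by
    intro A hA hd
    rw [← Matrix.toLinearMap₂'_toMatrix' (R := F) (QuadraticMap.polarBilin (Q A)),
      key A hA (Q A) (hQ A), Matrix.nondegenerate_toLinearMap₂'_iff]
    refine Matrix.nondegenerate_of_det_ne_zero ?_
    rw [Matrix.det_smul]
    exact mul_ne_zero (pow_ne_zero _ h2) hd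
  have hs : IsSquare ((LinearMap.toMatrix₂' F (QuadraticMap.polarBilin (Q M'))).det *
      (LinearMap.toMatrix₂' F (QuadraticMap.polarBilin (Q M))).det) := by
    simp only [key M' hM' (Q M') (hQ M'), key M hM (Q M) (hQ M), Matrix.det_smul]
    obtain ⟨r, hr⟩ := hsq
    exact ⟨2 ^ Fintype.card (Fin n) * r, by linear_combination (2 ^ Fintype.card (Fin n)) ^ 2 * hr⟩
  obtain ⟨g, hg⟩ := (Classical.DiscClass.exists_isometry_iff h2 _ _ (hnd M' hM' hd')
    (hnd M hM hd)).2 hs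
  have he : (LinearMap.toMatrix' g.toLinearMap)ᵀ * M * LinearMap.toMatrix' g.toLinearMap = M' := by
    refine eq_of_quad h2 (transpose_congr _ hM) hM' fun v => ?_
    rw [← congr_dot, LinearMap.toMatrix'_mulVec, LinearEquiv.coe_coe, ← hQ, hg, hQ]
  exact ⟨GeneralLinearGroup.mkOfDetNeZero _ (by
    rw [LinearMap.det_toMatrix']; exact (LinearEquiv.isUnit_det' g).ne_zero), he⟩

/-- Alternating matrices are congruent to the standard one. -/
theorem exists_congr_alt {M : Matrix ι ι F} (hA : ∀ v : ι → F, v ⬝ᵥ (M *ᵥ v) = 0)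
    (hd : M.det ≠ 0) :
    ∃ (m : ℕ) (e : ι ≃ Fin m ⊕ Fin m) (a : GL ι F),
      (a : Matrix ι ι F)ᵀ * M * (a : Matrix ι ι F) = (Matrix.J (Fin m) F).submatrix e e := by
  let B : LinearMap.BilinForm F (ι → F) := Matrix.toLinearMap₂' F (-M)
  have hB : ∀ u v, B u v = -(u ⬝ᵥ (M *ᵥ v)) := fun u v => by
    rw [Matrix.toLinearMap₂'_apply', neg_mulVec, dotProduct_neg]
  have halt : B.IsAlt := fun v => by rw [hB, hA, neg_zero]
  obtain ⟨m, b, h12, h11, h22⟩ := Forms.exists_symplectic_basis_nondeg B halt fun v hv => by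
    have : v ᵥ* M = 0 := by
      funext j
      have := hv (Pi.single j 1)
      rw [hB, neg_eq_zero, dotProduct_mulVec] at this
      simpa using this
    exact Matrix.eq_zero_of_vecMul_eq_zero hd this
  have hcard : Fintype.card ι = Fintype.card (Fin m ⊕ Fin m) := by
    rw [← Module.finrank_eq_card_basis b, Module.finrank_fintype_fun_eq_card]
  refine ⟨m, Fintype.equivOfCardEq hcard, exists_congr_of_family (Matrix.isUnit_det_J _ _).ne_zero b
    (fun i j => ?_) _⟩
  have e : b i ⬝ᵥ (M *ᵥ b j) = -B (b i) (b j) := by rw [hB, neg_neg]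
  rw [e]
  rcases i with i | i <;> rcases j with j | j
  · simp [h11, Matrix.J]
  · simp [h12, Matrix.J, Matrix.one_apply]
  · rw [← halt.neg_eq, h12]
    simp [Matrix.J, Matrix.one_apply, eq_comm]
  · simp [h22, Matrix.J]

/-- In characteristic two the non-alternating symmetric matrices form one congruence class. -/
theorem exists_congr_two [Finite F] [CharP F 2] {ι : Type} [Fintype ι] [DecidableEq ι]
    {M M' : Matrix ι ι F} (hM : Mᵀ = M) (hM' : M'ᵀ = M') (hd : M.det ≠ 0) (hd' : M'.det ≠ 0)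
    (hn : ∃ i, M i i ≠ 0) (hn' : ∃ i, M' i i ≠ 0) :
    ∃ a : GL ι F, (a : Matrix ι ι F)ᵀ * M * (a : Matrix ι ι F) = M' := by
  have key : ∀ A : Matrix ι ι F, Aᵀ = A → A.det ≠ 0 → (∃ i, A i i ≠ 0) →
      ∃ a : GL ι F, (a : Matrix ι ι F)ᵀ * A * (a : Matrix ι ι F) = 1 := by
    intro A hA hd hn
    let B : LinearMap.BilinForm F (ι → F) := Matrix.toLinearMap₂' F A
    have hB : ∀ u v, B u v = u ⬝ᵥ (A *ᵥ v) := fun u v => Matrix.toLinearMap₂'_apply' A u v
    obtain ⟨b, hb⟩ := CfsgLib.Classical.InvolutionData.exists_orthonormal (Fintype.card ι) (ι → F) B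
      ⟨fun x y => by rw [hB, hB, dot_comm hA], fun x hx => Matrix.eq_zero_of_vecMul_eq_zero hd (by
        funext j
        have := hx (Pi.single j 1)
        rw [hB, dotProduct_mulVec] at this
        simpa using this)⟩
      (Module.finrank_fintype_fun_eq_card F) (Or.inr fun h => by
        obtain ⟨i, hi⟩ := hn
        have := h (Pi.single i 1)
        rw [hB] at this
        exact hi (by simpa using this))
    obtain ⟨a, ha⟩ := exists_congr_of_family (M := A) (N := (1 : Matrix (Fin _) (Fin _) F))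
      (by simp) b (fun i j => by rw [← hB, hb, Matrix.one_apply]) (Fintype.equivFin ι)
    exact ⟨a, by rw [ha, Matrix.submatrix_one_equiv]⟩
  obtain ⟨a, ha⟩ := key M hM hd hn
  obtain ⟨b, hb⟩ := key M' hM' hd' hn'
  refine ⟨a * b⁻¹, ?_⟩
  have hbb : (b : Matrix ι ι F) * ((b⁻¹ : GL ι F) : Matrix ι ι F) = 1 := b.mul_inv
  calc _ = ((b⁻¹ : GL ι F) : Matrix ι ι F)ᵀ * 1 * ((b⁻¹ : GL ι F) : Matrix ι ι F) := by
        rw [Units.val_mul, Matrix.transpose_mul, ← ha]; noncomm_ring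
    _ = ((b : Matrix ι ι F) * ((b⁻¹ : GL ι F) : Matrix ι ι F))ᵀ * M' *
          ((b : Matrix ι ι F) * ((b⁻¹ : GL ι F) : Matrix ι ι F)) := by
        rw [← hb, Matrix.transpose_mul]; noncomm_ring
    _ = M' := by rw [hbb, Matrix.transpose_one, one_mul, mul_one]

end CfsgLib.AutPSL.Congr
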