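import Cfsg.Agent.Lib.AutPSL.Twisted

set_option autoImplicit false

/-!
Class splitting of field and graph-field automorphisms, and their centralisers in `Inndiag`.
-/

namespace CfsgLib.AutPSL

open Matrix
open scoped MatrixGroups

variable {n : ℕ} {F : Type*} [Field F]

theorem range_pow_sup {G : Type*} [CommGroup G] (a b : ℕ) :
    (powMonoidHom a : G →* G).range ⊔ (powMonoidHom b : G →* G).range =
      (powMonoidHom (Nat.gcd a b) : G →* G).range := by
  refine le_antisymm (sup_le ?_ ?_) ?_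
  · rintro _ ⟨c, rfl⟩
    exact ⟨c ^ (a / Nat.gcd a b), by
      show (c ^ (a / Nat.gcd a b)) ^ Nat.gcd a b = c ^ a
      rw [← pow_mul, Nat.div_mul_cancel (Nat.gcd_dvd_left a b)]⟩
  · rintro _ ⟨c, rfl⟩
    exact ⟨c ^ (b / Nat.gcd a b), by
      show (c ^ (b / Nat.gcd a b)) ^ Nat.gcd a b = c ^ b
      rw [← pow_mul, Nat.div_mul_cancel (Nat.gcd_dvd_right a b)]⟩
  · rintro _ ⟨c, rfl⟩
    show c ^ Nat.gcd a b ∈ _
    rw [← zpow_natCast c (Nat.gcd a b), Nat.gcd_eq_gcd_ab, _root_.zpow_add, mul_comm (a : ℤ),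
      mul_comm (b : ℤ), _root_.zpow_mul, _root_.zpow_mul, zpow_natCast, zpow_natCast]
    exact Subgroup.mul_mem_sup ⟨_, rfl⟩ ⟨_, rfl⟩

theorem index_range_pow {G : Type*} [CommGroup G] [Finite G] [IsCyclic G] (d : ℕ) :
    (powMonoidHom d : G →* G).range.index = Nat.gcd (Nat.card G) d := by
  rw [← IsCyclic.card_powMonoidHom_ker G d]
  have h1 := Subgroup.card_mul_index (powMonoidHom d : G →* G).range
  have h2 := Subgroup.card_eq_card_quotient_mul_card_subgroup (powMonoidHom d : G →* G).ker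
  rw [Nat.card_congr (QuotientGroup.quotientKerEquivRange (powMonoidHom d : G →* G)).toEquiv] at h2
  exact Nat.eq_of_mul_eq_mul_left Nat.card_pos (h1.trans h2)

/-- A subgroup of a cyclic group is a group of powers. -/
theorem eq_range_pow {G : Type*} [CommGroup G] [Finite G] [IsCyclic G] (H : Subgroup G) (m : ℕ)
    (hm : Nat.card H * m = Nat.card G) : H = (powMonoidHom m : G →* G).range := by
  have hmd : m ∣ Nat.card G := Dvd.intro_left _ hm
  have hmG : (powMonoidHom m : G →* G).range.index = m := by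
    rw [index_range_pow, Nat.gcd_eq_right hmd]
  have hle1 : (powMonoidHom m : G →* G).range ≤ (powMonoidHom (Nat.card H) : G →* G).ker := by
    rintro _ ⟨c, rfl⟩
    show (c ^ m) ^ Nat.card H = 1
    rw [← pow_mul, mul_comm, hm, pow_card_eq_one']
  have hle2 : H ≤ (powMonoidHom (Nat.card H) : G →* G).ker := fun c hc => by
    show c ^ Nat.card H = 1
    exact congrArg Subtype.val (pow_card_eq_one' (x := (⟨c, hc⟩ : H)))
  have hker : Nat.card (powMonoidHom (Nat.card H) : G →* G).ker = Nat.card H := by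
    rw [IsCyclic.card_powMonoidHom_ker, Nat.gcd_eq_right (Dvd.intro _ hm)]
  have hr : Nat.card (powMonoidHom m : G →* G).range = Nat.card H := by
    have h3 := Subgroup.card_mul_index (powMonoidHom m : G →* G).range
    rw [hmG, ← hm] at h3
    exact Nat.eq_of_mul_eq_mul_right
      (Nat.pos_of_ne_zero fun e => (Nat.card_pos (α := G)).ne' (by rw [← hm, e, mul_zero])) h3
  rw [Subgroup.eq_of_le_of_card_ge hle2 hker.le,
    Subgroup.eq_of_le_of_card_ge hle1 (hker.trans hr.symm).le]

variable [Finite F]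

omit [Finite F] in
/-- Counting the `Inn`-classes inside an `Inndiag`-class by determinants. -/
theorem splitClassCount_eq {x₀ x : MulAut PSL(n, F)} (hn : 0 < n) (a : GL (Fin n) F)
    (hx : x = delta a * x₀ * (delta a)⁻¹) (P : Subgroup Fˣ)
    (hP1 : ∀ g : GL (Fin n) F, Commute (delta g) x₀ → GeneralLinearGroup.det g ∈ P)
    (hP2 : ∀ c ∈ P, ∃ g : GL (Fin n) F,
      GeneralLinearGroup.det g = c ∧ Commute (delta g : MulAut PSL(n, F)) x₀) :
    Cfsg.splitClassCount (Cfsg.inndiagPSL n F) (Cfsg.Inn PSL(n, F)) x = P.index := by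
  set i₀ : Fin n := ⟨0, hn⟩
  -- when are two conjugates `Inn`-conjugate
  have key : ∀ g g' : GL (Fin n) F,
      Cfsg.IsConjUnder (Cfsg.Inn PSL(n, F)) (delta g * x * (delta g)⁻¹)
        (delta g' * x * (delta g')⁻¹) ↔
      GeneralLinearGroup.det g / GeneralLinearGroup.det g' ∈ P := by
    intro g g'
    subst hx
    constructor
    · rintro ⟨_, ⟨y, rfl⟩, he⟩
      obtain ⟨s, rfl⟩ := QuotientGroup.mk_surjective y
      rw [show (MulAut.conj (s : PSL(n, F)) : MulAut PSL(n, F)) =
        delta (SpecialLinearGroup.toGL s) from (delta_toGL s).symm] at he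
      set k := (g' * a)⁻¹ * (SpecialLinearGroup.toGL s * (g * a)) with hk
      have hcomm : Commute (delta k : MulAut PSL(n, F)) x₀ := by
        rw [commute_iff_eq, ← mul_inv_eq_iff_eq_mul, hk]
        simp only [map_mul, map_inv, _root_.mul_inv_rev, inv_inv]
        have h5 := congrArg
          (fun z => (delta a)⁻¹ * ((delta g')⁻¹ * z * delta g') * delta a) he
        simp only [mul_assoc, inv_mul_cancel_left, inv_mul_cancel, mul_one] at h5 ⊢
        exact h5.symm
      have hdet := hP1 k hcomm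
      have hs : GeneralLinearGroup.det (SpecialLinearGroup.toGL s) = 1 := Units.ext s.2
      rw [hk, map_mul, map_inv, map_mul, map_mul, map_mul, hs, one_mul] at hdet
      convert hdet using 1
      apply Units.ext
      simp only [Units.val_mul, Units.val_div_eq_div_val, Units.val_inv_eq_inv_val]
      field_simp
      exact (mul_div_mul_right _ _ (Units.ne_zero _)).symm
    · intro h
      obtain ⟨k, hk, hcomm⟩ := hP2 _ h
      set s₀ := g' * a * k * (g * a)⁻¹ with hs₀
      have hdet : (s₀ : Matrix (Fin n) (Fin n) F).det = 1 := by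
        rw [← GeneralLinearGroup.val_det_apply]
        have : GeneralLinearGroup.det s₀ = 1 := by
          rw [hs₀, map_mul, map_mul, map_mul, map_inv, hk, map_mul]
          apply Units.ext
          simp only [Units.val_mul, Units.val_div_eq_div_val, Units.val_inv_eq_inv_val, Units.val_one]
          field_simp
          exact div_self (mul_ne_zero (mul_ne_zero (Units.ne_zero _) (Units.ne_zero _)) (Units.ne_zero _))
        rw [this, Units.val_one]
      let s : SL(n, F) := ⟨_, hdet⟩
      refine ⟨MulAut.conj (s : PSL(n, F)), ⟨_, rfl⟩, ?_⟩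
      rw [show (MulAut.conj (s : PSL(n, F)) : MulAut PSL(n, F)) = delta s₀ from
        (delta_toGL s).symm.trans (congrArg delta (Units.ext rfl)), hs₀]
      simp only [map_mul, map_inv, _root_.mul_inv_rev, inv_inv]
      simp only [mul_assoc, inv_mul_cancel_left]
      rw [← mul_assoc x₀ ((delta k)⁻¹), ← mul_assoc (delta k),
        show delta k * (x₀ * (delta k)⁻¹) = x₀ by rw [← mul_assoc, hcomm.eq, mul_inv_cancel_right]]
  unfold Cfsg.splitClassCount
  let T := {y : MulAut PSL(n, F) // Cfsg.IsConjUnder (Cfsg.inndiagPSL n F) x y}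
  let R : T → T → Prop := fun y z => Cfsg.IsConjUnder (Cfsg.Inn PSL(n, F)) y.1 z.1
  have heq : Equivalence R := by
    refine ⟨fun y => ⟨1, one_mem _, by simp⟩, ?_, ?_⟩
    · rintro y z ⟨h, hh, e⟩
      exact ⟨h⁻¹, inv_mem hh, by rw [e]; simp [mul_assoc]⟩
    · rintro y z w ⟨h, hh, e⟩ ⟨h', hh', e'⟩
      exact ⟨h' * h, mul_mem hh' hh, by rw [e', e]; simp [mul_assoc]⟩
  let F0 : Fˣ → Quot R := fun c => Quot.mk R ⟨delta (detGL i₀ c) * x * (delta (detGL i₀ c))⁻¹,
    delta (detGL i₀ c), by rw [inndiagPSL_eq]; exact ⟨_, rfl⟩, rfl⟩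
  have hF0 : ∀ c c', c⁻¹ * c' ∈ P → F0 c = F0 c' := fun c c' h => Quot.sound ((key _ _).2 (by
    rw [det_detGL, det_detGL, div_eq_mul_inv, mul_comm]
    have h2 := inv_mem h
    rwa [_root_.mul_inv_rev, inv_inv] at h2))
  let Φ : Fˣ ⧸ P → Quot R := fun q => Quotient.liftOn' q F0
    (fun c c' h => hF0 c c' (QuotientGroup.leftRel_apply.1 h))
  have hbij : Function.Bijective Φ := by
    constructor
    · intro q q'
      refine QuotientGroup.induction_on q fun c => QuotientGroup.induction_on q' fun c' h => ?_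
      have h2 : Relation.EqvGen R _ _ := Quot.eqvGen_exact h
      rw [heq.eqvGen_iff] at h2
      have h3 := (key _ _).1 h2
      rw [det_detGL, det_detGL, div_eq_mul_inv] at h3
      rw [QuotientGroup.eq]
      have h4 := inv_mem h3
      rwa [_root_.mul_inv_rev, inv_inv, mul_comm] at h4
    · intro q
      refine Quot.inductionOn q ?_
      rintro ⟨y, h, hh, rfl⟩
      rw [inndiagPSL_eq] at hh
      obtain ⟨g, rfl⟩ := hh
      refine ⟨((GeneralLinearGroup.det g : Fˣ) : Fˣ ⧸ P), Quot.sound ?_⟩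
      refine (key _ _).2 ?_
      rw [det_detGL, div_self']
      exact one_mem P
  rw [Subgroup.index]
  exact (Nat.card_congr (Equiv.ofBijective Φ hbij)).symm

omit [Finite F] in
/-- The centraliser in `Inndiag` of a conjugate of `x₀`, as a quotient of a matrix group. -/
theorem exists_centralizer_hom {x₀ x : MulAut PSL(n, F)} (a : GL (Fin n) F)
    (hx : x = delta a * x₀ * (delta a)⁻¹) {U : Type*} [Group U] (θ : U →* GL (Fin n) F)
    (h1 : ∀ u, Commute (delta (θ u) : MulAut PSL(n, F)) x₀)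
    (h2 : ∀ g : GL (Fin n) F, Commute (delta g : MulAut PSL(n, F)) x₀ →
      ∃ u c, g = GeneralLinearGroup.scalar (Fin n) c * θ u) :
    ∃ ψ : U →* ↥(Cfsg.inndiagPSL n F ⊓ Subgroup.centralizer {x}), Function.Surjective ψ ∧
      ∀ u, (ψ u : MulAut PSL(n, F)) = delta (a * θ u * a⁻¹) := by
  have hmem : ∀ u, delta (a * θ u * a⁻¹) ∈ Cfsg.inndiagPSL n F ⊓ Subgroup.centralizer {x} := by
    intro u
    refine ⟨by rw [inndiagPSL_eq]; exact ⟨_, rfl⟩, ?_⟩
    show delta _ ∈ Subgroup.centralizer _
    rw [Subgroup.mem_centralizer_iff]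
    intro y hy
    rw [Set.mem_singleton_iff] at hy
    subst hy
    have hh : ∀ z, x₀ * (delta (θ u) * z) = delta (θ u) * (x₀ * z) := fun z => by
      rw [← mul_assoc, (h1 u).symm.eq, mul_assoc]
    rw [hx]
    simp only [map_mul, map_inv, mul_assoc, inv_mul_cancel_left, hh]
  let ψ : U →* ↥(Cfsg.inndiagPSL n F ⊓ Subgroup.centralizer {x}) :=
    MonoidHom.codRestrict ((delta.comp (MulAut.conj a).toMonoidHom).comp θ) _ hmem
  refine ⟨ψ, ?_, fun u => rfl⟩
  rintro ⟨y, hy1, hy2⟩
  rw [inndiagPSL_eq] at hy1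
  obtain ⟨g, rfl⟩ := hy1
  have hy2' : x * delta g = delta g * x := Subgroup.mem_centralizer_iff.1 hy2 x rfl
  rw [hx] at hy2'
  have hc : Commute (delta (a⁻¹ * g * a) : MulAut PSL(n, F)) x₀ := by
    rw [commute_iff_eq]
    have := congrArg (fun z => (delta a)⁻¹ * z * delta a) hy2'
    simp only [map_mul, map_inv, mul_assoc, inv_mul_cancel_left, inv_mul_cancel, mul_one] at this ⊢
    exact this.symm
  obtain ⟨u, c, hu⟩ := h2 _ hc
  refine ⟨u, Subtype.ext ?_⟩
  show delta (a * θ u * a⁻¹) = delta g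
  have : g = GeneralLinearGroup.scalar (Fin n) c * (a * θ u * a⁻¹) := by
    rw [← mul_assoc, ← mul_assoc, scalar_comm c a, mul_assoc a, ← hu]
    simp [mul_assoc]
  conv_rhs => rw [this, map_mul delta, delta_eq_one_of_mem_center (scalar_mem_center c), one_mul]

variable (p : ℕ) [hp : Fact p.Prime] [CharP F p]

omit [Finite F] in
include hp in
theorem commute_field_iff (hn : 2 ≤ n) (σ : F ≃+* F) (g : GL (Fin n) F) :
    Commute (delta g : MulAut PSL(n, F)) (fieldAut σ) ↔
      ∃ lam : Fˣ, mapGL σ g = GeneralLinearGroup.scalar (Fin n) lam * g := by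
  rw [commute_iff_eq, fieldAut_mul_delta, mul_right_cancel_iff]
  constructor
  · intro h
    obtain ⟨c, hc⟩ := mem_center_of_delta_eq_one p hn (g := mapGL σ g * g⁻¹)
      (by rw [map_mul, map_inv, ← h, mul_inv_cancel])
    exact ⟨c, mul_inv_eq_iff_eq_mul.1 hc⟩
  · rintro ⟨lam, h⟩
    rw [h, map_mul, delta_eq_one_of_mem_center (scalar_mem_center lam), one_mul]

omit [Finite F] in
include hp in
theorem commute_graphField_iff (hn : 2 ≤ n) (σ : F ≃+* F) (g : GL (Fin n) F) :
    Commute (delta g : MulAut PSL(n, F)) (fieldAut σ * graphAut) ↔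
      ∃ lam : Fˣ, g * starGL σ g = GeneralLinearGroup.scalar (Fin n) lam := by
  rw [commute_iff_eq, mul_assoc (fieldAut σ) graphAut, graphAut_mul_delta, ← mul_assoc (fieldAut σ),
    fieldAut_mul_delta, mul_assoc (delta (mapGL σ (contra g))), mul_right_cancel_iff]
  constructor
  · intro h
    obtain ⟨c, hc⟩ := mem_center_of_delta_eq_one p hn (g := g * starGL σ g)
      (by rw [map_mul, starGL, map_inv, ← h, mul_inv_cancel])
    exact ⟨c, hc⟩
  · rintro ⟨lam, h⟩
    have h2 : delta (g * starGL σ g) = (1 : MulAut PSL(n, F)) := by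
      rw [h, delta_eq_one_of_mem_center (scalar_mem_center lam)]
    rw [map_mul, starGL, map_inv, mul_inv_eq_one] at h2
    exact h2

end CfsgLib.AutPSL
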