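import Cfsg.Agent.Lib.AutPSL.Predicates
import Cfsg.Agent.Lib.AutPSL.Split
import Cfsg.Agent.Lib.AutPSL.GraphCongr

set_option autoImplicit false

/-!
Graph automorphisms of `PSL_n(F)` are `s ↦ M⁻¹ (sᵀ)⁻¹ M`; conjugacy under `Inndiag` is congruence up to
scalars and the centraliser is the group of similitudes of `M` modulo scalars.
-/

namespace CfsgLib.AutPSL.Graph

open Matrix
open scoped MatrixGroups

variable {n : ℕ} {F : Type*} [Field F]

/-- Reindexing of invertible matrices. -/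
def reGL {ι : Type*} [Fintype ι] [DecidableEq ι] (e : ι ≃ Fin n) : GL ι F ≃* GL (Fin n) F :=
  Units.mapEquiv (Matrix.reindexAlgEquiv F F e).toMulEquiv

@[simp] theorem reGL_coe {ι : Type*} [Fintype ι] [DecidableEq ι] (e : ι ≃ Fin n) (g : GL ι F) :
    (reGL e g : Matrix (Fin n) (Fin n) F) = (g : Matrix ι ι F).submatrix e.symm e.symm := rfl

/-- The automorphism attached to an invertible matrix. -/
def gm (M : GL (Fin n) F) : MulAut PSL(n, F) := delta M⁻¹ * graphAut

/-- Congruence up to a scalar. -/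
def Cong {ι : Type*} [Fintype ι] (M M' : Matrix ι ι F) [DecidableEq ι] : Prop :=
  ∃ (a : GL ι F) (c : Fˣ), M' = (c : F) • ((a : Matrix ι ι F)ᵀ * M * (a : Matrix ι ι F))

theorem coe_scalar_mul (c : Fˣ) (g : GL (Fin n) F) :
    ((GeneralLinearGroup.scalar (Fin n) c * g : GL (Fin n) F) : Matrix (Fin n) (Fin n) F) =
      (c : F) • (g : Matrix (Fin n) (Fin n) F) := by
  rw [Units.val_mul]
  show Matrix.scalar (Fin n) (c : F) * _ = _
  rw [Matrix.scalar_apply, ← Matrix.smul_one_eq_diagonal, smul_mul, one_mul]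

theorem contra_mul (g h : GL (Fin n) F) : contra (g * h) = contra g * contra h :=
  Units.ext (by
    show ((g * h)⁻¹ : GL (Fin n) F).val.transpose = _
    rw [_root_.mul_inv_rev, Units.val_mul, Matrix.transpose_mul]
    rfl)

theorem contra_inv_coe (g : GL (Fin n) F) :
    (contra g⁻¹ : Matrix (Fin n) (Fin n) F) = (g : Matrix (Fin n) (Fin n) F)ᵀ := by
  show ((g⁻¹)⁻¹ : GL (Fin n) F).val.transpose = _
  rw [inv_inv]

theorem contra_inv' (g : GL (Fin n) F) : contra g⁻¹ = (contra g)⁻¹ :=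
  Units.ext rfl

/-- `aᵀ M a` as an invertible matrix. -/
def cong (a M : GL (Fin n) F) : GL (Fin n) F := contra a⁻¹ * M * a

theorem cong_coe (a M : GL (Fin n) F) : (cong a M : Matrix (Fin n) (Fin n) F) =
    (a : Matrix (Fin n) (Fin n) F)ᵀ * M * a := by
  rw [cong, Units.val_mul, Units.val_mul, contra_inv_coe]

theorem conj_gm (a M : GL (Fin n) F) :
    delta a * gm M * (delta a)⁻¹ = gm (cong a⁻¹ M) := by
  rw [gm, gm, cong, inv_inv, ← map_inv delta, ← mul_assoc (delta a), ← map_mul delta,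
    mul_assoc _ graphAut, graphAut_mul_delta, ← mul_assoc, ← map_mul delta, contra_inv']
  congr 2
  simp [_root_.mul_inv_rev, mul_assoc]

section

variable (p : ℕ) [hp : Fact p.Prime] [CharP F p]

include hp in
theorem delta_eq_delta_iff (hn : 2 ≤ n) {g g' : GL (Fin n) F} :
    (delta g : MulAut PSL(n, F)) = delta g' ↔
      ∃ c : Fˣ, (g : Matrix (Fin n) (Fin n) F) = (c : F) • (g' : Matrix (Fin n) (Fin n) F) := by
  constructor
  · intro h
    obtain ⟨c, hc⟩ := mem_center_of_delta_eq_one p hn (g := g * g'⁻¹)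
      (by rw [map_mul, map_inv, h, mul_inv_cancel])
    refine ⟨c, ?_⟩
    rw [mul_inv_eq_iff_eq_mul] at hc
    rw [hc, coe_scalar_mul]
  · rintro ⟨c, hc⟩
    have : g = GeneralLinearGroup.scalar (Fin n) c * g' := Units.ext (by rw [coe_scalar_mul, hc])
    rw [this, map_mul, delta_eq_one_of_mem_center (scalar_mem_center c), one_mul]

include hp in
theorem gm_eq_gm_iff (hn : 2 ≤ n) {M M' : GL (Fin n) F} :
    gm M = gm M' ↔ ∃ c : Fˣ, (M' : Matrix (Fin n) (Fin n) F) = (c : F) • (M : Matrix (Fin n) (Fin n) F) := by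
  rw [gm, gm, mul_left_inj, map_inv, map_inv, _root_.inv_inj, eq_comm]
  exact delta_eq_delta_iff p hn

theorem isGraphAutClass_gm (hn : 3 ≤ n) (M : GL (Fin n) F) : Cfsg.IsGraphAutClassPSL (gm M) :=
  ⟨hn, delta M⁻¹, graphAut, isInnerDiagonal_iff.2 ⟨_, rfl⟩, isInverseTranspose_iff.2 rfl, rfl⟩

theorem exists_gm {β : MulAut PSL(n, F)} (h : Cfsg.IsGraphAutClassPSL β) :
    ∃ M : GL (Fin n) F, β = gm M := by
  obtain ⟨-, δ, γ, hδ, hγ, rfl⟩ := h
  obtain ⟨g, rfl⟩ := isInnerDiagonal_iff.1 hδ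
  rw [isInverseTranspose_iff.1 hγ]
  exact ⟨g⁻¹, by rw [gm, inv_inv]⟩

theorem gm_one : gm (1 : GL (Fin n) F) = graphAut := by rw [gm, inv_one, map_one, one_mul]

include hp in
theorem orderOf_gm_iff [Finite F] (hn : 3 ≤ n) (M : GL (Fin n) F) :
    orderOf (gm M) = 2 ↔ (M : Matrix (Fin n) (Fin n) F)ᵀ = M ∨
      (M : Matrix (Fin n) (Fin n) F)ᵀ = -(M : Matrix (Fin n) (Fin n) F) := by
  have hne : gm M ≠ 1 := fun h => by
    refine delta_fieldAut_ne_graphAut p hn M (1 : F ≃+* F) ?_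
    rw [map_one, mul_one]
    rw [gm, map_inv, mul_eq_one_iff_eq_inv, _root_.inv_inj] at h
    rw [h]
  have hsq : gm M ^ 2 = delta (M⁻¹ * contra M⁻¹) := by
    rw [pow_two, gm, mul_assoc, ← mul_assoc graphAut, graphAut_mul_delta, mul_assoc (delta (contra _)),
      graphAut_mul_self, mul_one, map_mul]
  have h2 : gm M ^ 2 = 1 ↔ ∃ c : Fˣ, (M : Matrix (Fin n) (Fin n) F)ᵀ = (c : F) • (M : Matrix (Fin n) (Fin n) F) := by
    rw [hsq, map_mul, map_inv, inv_mul_eq_one, eq_comm, delta_eq_delta_iff p (by omega), contra_inv_coe]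
  constructor
  · intro h
    obtain ⟨c, hc⟩ := h2.1 (by have := pow_orderOf_eq_one (gm M); rwa [h] at this)
    have h3 := congrArg Matrix.transpose hc
    rw [Matrix.transpose_transpose, Matrix.transpose_smul, hc, smul_smul] at h3
    have hne0 : (M : Matrix (Fin n) (Fin n) F) ≠ 0 := fun h0 => by
      haveI : Nonempty (Fin n) := ⟨⟨0, by omega⟩⟩
      have := M.isUnit
      rw [h0] at this
      exact not_isUnit_zero this
    have hcc : (c : F) * c = 1 := by
      by_contra hcc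
      apply hne0
      have h4 : ((c : F) * c - 1) • (M : Matrix (Fin n) (Fin n) F) = 0 := by
        rw [sub_smul, one_smul, ← h3, sub_self]
      exact (smul_eq_zero.1 h4).resolve_left (sub_ne_zero.2 hcc)
    rcases mul_self_eq_one_iff.1 hcc with h | h
    · exact Or.inl (by rw [hc, h, one_smul])
    · exact Or.inr (by rw [hc, h, neg_one_smul])
  · intro h
    refine orderOf_eq_prime (h2.2 ?_) hne
    rcases h with h | h
    · exact ⟨1, by rw [h, Units.val_one, one_smul]⟩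
    · exact ⟨-1, by rw [h, Units.val_neg, Units.val_one, neg_one_smul]⟩

include hp in
theorem commute_gm_iff (hn : 2 ≤ n) (h M : GL (Fin n) F) :
    Commute (delta h) (gm M) ↔ ∃ c : Fˣ,
      (h : Matrix (Fin n) (Fin n) F)ᵀ * M * h = (c : F) • (M : Matrix (Fin n) (Fin n) F) := by
  rw [commute_iff_eq, ← mul_inv_eq_iff_eq_mul, conj_gm, eq_comm, gm_eq_gm_iff p hn, cong_coe]
  constructor
  · rintro ⟨c, hc⟩
    refine ⟨c⁻¹, ?_⟩
    set H : Matrix (Fin n) (Fin n) F := ↑h with hH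
    set H' : Matrix (Fin n) (Fin n) F := ↑(h⁻¹) with hH'
    set N : Matrix (Fin n) (Fin n) F := ↑M with hN
    have hh : H' * H = 1 := h.inv_mul
    have e : Hᵀ * (H'ᵀ * N * H') * H = N := by
      calc _ = (H' * H)ᵀ * N * (H' * H) := by rw [Matrix.transpose_mul]; noncomm_ring
        _ = _ := by rw [hh, Matrix.transpose_one, one_mul, mul_one]
    rw [hc, Matrix.mul_smul, Matrix.smul_mul] at e
    conv_rhs => rw [← e, smul_smul]
    simp
  · rintro ⟨c, hc⟩
    refine ⟨c⁻¹, ?_⟩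
    set H : Matrix (Fin n) (Fin n) F := ↑h with hH
    set H' : Matrix (Fin n) (Fin n) F := ↑(h⁻¹) with hH'
    set N : Matrix (Fin n) (Fin n) F := ↑M with hN
    have hh : H * H' = 1 := h.mul_inv
    have e : H'ᵀ * (Hᵀ * N * H) * H' = N := by
      calc _ = (H * H')ᵀ * N * (H * H') := by rw [Matrix.transpose_mul]; noncomm_ring
        _ = _ := by rw [hh, Matrix.transpose_one, one_mul, mul_one]
    rw [hc, Matrix.mul_smul, Matrix.smul_mul] at e
    conv_rhs => rw [← e, smul_smul]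
    simp

include hp in
theorem isConjUnder_iff (hn : 2 ≤ n) (M M' : GL (Fin n) F) :
    Cfsg.IsConjUnder (Cfsg.inndiagPSL n F) (gm M) (gm M') ↔
      Cong (M : Matrix (Fin n) (Fin n) F) (M' : Matrix (Fin n) (Fin n) F) := by
  simp only [Cfsg.IsConjUnder, inndiagPSL_eq, MonoidHom.mem_range]
  constructor
  · rintro ⟨_, ⟨a, rfl⟩, h⟩
    rw [conj_gm, eq_comm, gm_eq_gm_iff p hn] at h
    obtain ⟨c, hc⟩ := h
    exact ⟨a⁻¹, c, by rw [hc, cong_coe]⟩
  · rintro ⟨a, c, h⟩
    refine ⟨delta a⁻¹, ⟨_, rfl⟩, ?_⟩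
    rw [conj_gm, eq_comm, gm_eq_gm_iff p hn, cong_coe, inv_inv]
    exact ⟨c, h⟩

include hp in
/-- The centraliser of a graph automorphism, read on a model. -/
theorem centralizer_equiv {ι : Type} [Fintype ι] [DecidableEq ι] (hn : 2 ≤ n) (e : ι ≃ Fin n)
    (M₀ : GL ι F) (H : Subgroup (GL ι F))
    (hH : ∀ h : GL ι F, h ∈ H ↔ ∃ c : Fˣ,
      (h : Matrix ι ι F)ᵀ * M₀ * h = (c : F) • (M₀ : Matrix ι ι F))
    {M : GL (Fin n) F} (hM : Cong (reGL e M₀ : Matrix (Fin n) (Fin n) F) (M : Matrix (Fin n) (Fin n) F)) :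
    Nonempty (↥(Cfsg.inndiagPSL n F ⊓ Subgroup.centralizer {gm M}) ≃* Cfsg.projQuot H) := by
  obtain ⟨b, hb, hx⟩ := (isConjUnder_iff p hn (reGL e M₀) M).2 hM
  rw [inndiagPSL_eq] at hb
  obtain ⟨a, rfl⟩ := hb
  have key : ∀ h : GL ι F, Commute (delta (reGL e h)) (gm (reGL e M₀)) ↔ h ∈ H := by
    intro h
    rw [commute_gm_iff p hn, hH]
    refine exists_congr fun c => ?_
    rw [reGL_coe, reGL_coe, Matrix.transpose_submatrix, Matrix.submatrix_mul_equiv,
      Matrix.submatrix_mul_equiv]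
    exact ⟨fun hh => Matrix.ext fun i j => by simpa using congrFun (congrFun hh (e i)) (e j),
      fun hh => by rw [hh]; rfl⟩
  obtain ⟨ψ, hψs, hψ⟩ := exists_centralizer_hom a hx ((reGL e).toMonoidHom.comp H.subtype)
    (fun u => (key u).2 u.2) (fun g hg => by
      refine ⟨⟨(reGL e).symm g, (key _).1 ((reGL e).apply_symm_apply g |>.symm ▸ hg)⟩, 1, ?_⟩
      rw [map_one, one_mul]
      exact ((reGL e).apply_symm_apply g).symm)
  have hker : ψ.ker = (Cfsg.Geo.scalars ι F).subgroupOf H := by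
    ext u
    rw [MonoidHom.mem_ker, Subgroup.mem_subgroupOf, ← OneMemClass.coe_eq_one, hψ, map_mul, map_mul,
      map_inv, conj_eq_one_iff, ← map_one delta, delta_eq_delta_iff p hn, Cfsg.Geo.mem_scalars_iff]
    refine exists_congr fun c => ?_
    show (reGL e (u : GL ι F) : Matrix (Fin n) (Fin n) F) = _ ↔ _
    rw [reGL_coe, Units.val_one]
    constructor
    · intro hh
      ext i j
      simpa [Matrix.one_apply] using congrFun (congrFun hh (e i)) (e j)
    · intro hh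
      rw [hh, Matrix.submatrix_smul]
      simp
  exact ⟨(QuotientGroup.quotientKerEquivOfSurjective ψ hψs).symm.trans
    (QuotientGroup.quotientMulEquivOfEq hker)⟩

include hp in
/-- Splitting of the class under inner automorphisms, read on a model. -/
theorem split_gm [Finite F] {ι : Type} [Fintype ι] [DecidableEq ι] (hn : 2 ≤ n) (e : ι ≃ Fin n)
    (M₀ : GL ι F) (P : Subgroup Fˣ)
    (hP1 : ∀ (h : GL ι F) (c : Fˣ), (h : Matrix ι ι F)ᵀ * M₀ * h = (c : F) • (M₀ : Matrix ι ι F) →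
      GeneralLinearGroup.det h ∈ P)
    (hP2 : ∀ d ∈ P, ∃ (h : GL ι F) (c : Fˣ),
      (h : Matrix ι ι F)ᵀ * M₀ * h = (c : F) • (M₀ : Matrix ι ι F) ∧ GeneralLinearGroup.det h = d)
    {M : GL (Fin n) F} (hM : Cong (reGL e M₀ : Matrix (Fin n) (Fin n) F) (M : Matrix (Fin n) (Fin n) F)) :
    Cfsg.splitClassCount (Cfsg.inndiagPSL n F) (Cfsg.Inn PSL(n, F)) (gm M) = P.index := by
  obtain ⟨b, hb, hx⟩ := (isConjUnder_iff p hn (reGL e M₀) M).2 hM
  rw [inndiagPSL_eq] at hb
  obtain ⟨a, rfl⟩ := hb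
  have hdet : ∀ h : GL ι F, GeneralLinearGroup.det (reGL e h) = GeneralLinearGroup.det h := fun h =>
    Units.ext (by simp only [GeneralLinearGroup.val_det_apply, reGL_coe, Matrix.det_submatrix_equiv_self])
  have key : ∀ h : GL ι F, Commute (delta (reGL e h)) (gm (reGL e M₀)) ↔ ∃ c : Fˣ,
      (h : Matrix ι ι F)ᵀ * M₀ * h = (c : F) • (M₀ : Matrix ι ι F) := by
    intro h
    rw [commute_gm_iff p hn]
    refine exists_congr fun c => ?_
    rw [reGL_coe, reGL_coe, Matrix.transpose_submatrix, Matrix.submatrix_mul_equiv,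
      Matrix.submatrix_mul_equiv]
    exact ⟨fun hh => Matrix.ext fun i j => by simpa using congrFun (congrFun hh (e i)) (e j),
      fun hh => by rw [hh]; rfl⟩
  refine splitClassCount_eq (by omega) a hx P (fun g hg => ?_) fun d hd => ?_
  · obtain ⟨h, rfl⟩ := (reGL e).surjective g
    obtain ⟨c, hc⟩ := (key h).1 hg
    rw [hdet]
    exact hP1 h c hc
  · obtain ⟨h, c, hc, rfl⟩ := hP2 d hd
    exact ⟨reGL e h, hdet h, (key h).2 ⟨c, hc⟩⟩

end

end CfsgLib.AutPSL.Graph
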