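import Cfsg.Agent.Lib.AutPSL.BalanceField
import Cfsg.Agent.Lib.AutPSL.GraphClass

set_option autoImplicit false

/-!
Local balance for automorphisms of `PSL_n(F)` of order two involving inverse-transpose: the general part.
-/

namespace CfsgLib.AutPSL.LocalBal

open Matrix
open scoped MatrixGroups
open CfsgLib.ClassicalAut.Balance (Fix)

universe u

variable {n : ℕ} {F : Type u} [Field F]

/-- What is needed for local balance at an automorphism of order two. -/
structure Ready (x : MulAut PSL(n, F)) : Prop where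
  inv : ∃ k, k ≠ 1 ∧ k * k = 1 ∧ x k = k
  odd : ∀ M : Subgroup (Fix x), M.Normal → M ≠ ⊥ → 2 ∣ Nat.card M
  cent : ∀ g : MulAut PSL(n, F), (∀ k, x k = k → g k = k) → g ∈ Subgroup.zpowers x

theorem Ready.two_dvd {x : MulAut PSL(n, F)} [Finite F] (h : Ready x) : 2 ∣ Nat.card (Fix x) := by
  obtain ⟨k, hk, hkk, hxk⟩ := h.inv
  have h1 : orderOf (⟨k, hxk⟩ : Fix x) = 2 :=
    orderOf_eq_prime (Subtype.ext (by rw [pow_two]; exact hkk)) fun e => hk (congrArg Subtype.val e)
  exact h1 ▸ orderOf_dvd_natCard _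

theorem Ready.conj [Finite F] {x : MulAut PSL(n, F)} (h : Ready x) (a : MulAut PSL(n, F)) :
    Ready (a * x * a⁻¹) := by
  have hfix : ∀ k, x k = k → (a * x * a⁻¹) (a k) = a k := fun k hk => by
    show a (x (a.symm (a k))) = a k
    rw [a.symm_apply_apply, hk]
  refine ⟨?_, fun M hn hne => ?_, fun g hg => ?_⟩
  · obtain ⟨k, hk, hkk, hxk⟩ := h.inv
    exact ⟨a k, fun e => hk (a.injective (e.trans (map_one a).symm)), by rw [← map_mul, hkk, map_one],
      hfix k hxk⟩
  · haveI : Fact (Nat.Prime 2) := ⟨Nat.prime_two⟩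
    refine CfsgLib.ClassicalAut.Balance.hM_conj (p := 2) (fun _ => h.odd) ?_ M hn hne
    obtain ⟨k, hk, hkk, hxk⟩ := h.inv
    have h1 : orderOf (⟨a k, hfix k hxk⟩ : Fix (a * x * a⁻¹)) = 2 :=
      orderOf_eq_prime (Subtype.ext (by
        rw [pow_two]
        show a k * a k = 1
        rw [← map_mul, hkk, map_one])) fun e => hk (a.injective ((congrArg Subtype.val e).trans (map_one a).symm))
    exact h1 ▸ orderOf_dvd_natCard _
  · have h1 : a⁻¹ * g * a ∈ Subgroup.zpowers x := h.cent _ fun k hk => by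
      show a.symm (g (a k)) = k
      rw [hg _ (hfix k hk), a.symm_apply_apply]
    obtain ⟨i, hi⟩ := Subgroup.mem_zpowers_iff.1 h1
    refine Subgroup.mem_zpowers_iff.2 ⟨i, ?_⟩
    rw [conj_zpow, hi]
    simp [mul_assoc]

/-- The core of the centraliser of a ready element is trivial. -/
theorem Ready.core_bot [Finite F] (p : ℕ) [Fact p.Prime] [CharP F p] (hn : 2 ≤ n) {x : MulAut PSL(n, F)}
    (h : Ready x) (A : Subgroup (MulAut PSL(n, F))) (hinn : ∀ k, MulAut.conj k ∈ A) (hxA : x ∈ A)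
    (hord : orderOf x = 2) : Cfsg.pPrimeCore 2 ↥(A ⊓ Subgroup.centralizer {x}) = ⊥ := by
  haveI : Fact (Nat.Prime 2) := ⟨Nat.prime_two⟩
  obtain ⟨k, hk, -, hxk⟩ := h.inv
  by_contra hne
  have h1 := (CfsgLib.ClassicalAut.Balance.pPrimeCore_ne_bot_iff A hinn
    (fun k hk => conj_eq_one p hn k hk) hxA hord ⟨k, hk, hxk⟩ (fun _ => h.odd) h.cent).1 hne
  exact (Nat.Prime.coprime_iff_not_dvd Nat.prime_two).1 h1 h.two_dvd

section Form

theorem eq_one_or_mul_eq_one : ∀ e : Multiplicative (ZMod 2), e = 1 ∨ e * Multiplicative.ofAdd 1 = 1 := by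
  decide

variable (θ : F ≃+* F)

/-- The automorphism attached to a form. -/
def gt (M : GL (Fin n) F) : MulAut PSL(n, F) := delta M⁻¹ * fieldAut θ * graphAut

/-- Similitudes of a form. -/
def Sim (M g : GL (Fin n) F) (c : Fˣ) : Prop :=
  ((g : Matrix (Fin n) (Fin n) F).map θ)ᵀ * M * g = (c : F) • (M : Matrix (Fin n) (Fin n) F)

theorem contra_mapGL (g : GL (Fin n) F) : contra (mapGL θ g) = mapGL θ (contra g) :=
  Units.ext (by
    show ((((mapGL θ g)⁻¹ : GL (Fin n) F)) : Matrix (Fin n) (Fin n) F)ᵀ = _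
    rw [← map_inv]
    exact Matrix.transpose_map (f := ⇑θ))

variable {θ}

theorem sim_iff {M g : GL (Fin n) F} {c : Fˣ} :
    Sim θ M g c ↔ mapGL θ (contra g) = M * g * M⁻¹ * GeneralLinearGroup.scalar (Fin n) c⁻¹ := by
  have h1 : Sim θ M g c ↔
      contra (mapGL θ g)⁻¹ * M * g = GeneralLinearGroup.scalar (Fin n) c * M := by
    rw [Units.ext_iff, Units.val_mul, Units.val_mul, Graph.contra_inv_coe, Graph.coe_scalar_mul]
    rfl
  rw [h1, Graph.contra_inv', contra_mapGL, map_inv]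
  constructor
  · intro h
    rw [mul_assoc, inv_mul_eq_iff_eq_mul] at h
    have h3 : M * g * M⁻¹ = mapGL θ (contra g) * GeneralLinearGroup.scalar (Fin n) c := by
      rw [h]
      simp [mul_assoc]
    rw [h3, mul_assoc, mul_inv_cancel, mul_one]
  · intro h
    rw [h, _root_.mul_inv_rev, inv_inv]
    simp [mul_assoc]

variable (p : ℕ) [Fact p.Prime] [CharP F p]

theorem gt_mul_delta (M g : GL (Fin n) F) :
    gt θ M * delta g = delta (M⁻¹ * mapGL θ (contra g)) * (fieldAut θ * graphAut) := by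
  rw [gt, mul_assoc _ graphAut, graphAut_mul_delta, ← mul_assoc, mul_assoc (delta M⁻¹) (fieldAut θ),
    fieldAut_mul_delta, map_mul delta M⁻¹]
  simp only [mul_assoc]

theorem Sim.commute {M g : GL (Fin n) F} {c : Fˣ} (h : Sim θ M g c) :
    gt θ M * delta g = delta g * gt θ M := by
  rw [gt_mul_delta, sim_iff.1 h, gt, map_mul delta, map_mul delta, map_mul delta, map_mul delta,
    delta_eq_one_of_mem_center (scalar_mem_center _)]
  simp [mul_assoc]

include p

theorem exists_sim (hn : 2 ≤ n) {M g : GL (Fin n) F} (h : gt θ M * delta g = delta g * gt θ M) :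
    ∃ c, Sim θ M g c := by
  rw [gt_mul_delta, gt, mul_assoc (delta M⁻¹), ← mul_assoc (delta g), mul_left_inj, ← map_mul] at h
  obtain ⟨c, hc⟩ := (Graph.delta_eq_delta_iff p hn).1 h
  refine ⟨c⁻¹, sim_iff.2 ?_⟩
  rw [inv_inv, ← scalar_comm]
  have h2 : M⁻¹ * mapGL θ (contra g) = GeneralLinearGroup.scalar (Fin n) c * (g * M⁻¹) :=
    Units.ext (by rw [Graph.coe_scalar_mul]; exact hc)
  rw [inv_mul_eq_iff_eq_mul] at h2
  rw [h2, ← mul_assoc M, ← scalar_comm, mul_assoc, ← mul_assoc M g]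

/-- Lifts of fixed points are similitudes. -/
theorem sim_of_fixed (hn : 2 ≤ n) {M : GL (Fin n) F} {s : SL(n, F)}
    (h : gt θ M (mkP s) = mkP s) : ∃ c, Sim θ M (Matrix.SpecialLinearGroup.toGL s) c := by
  refine exists_sim p hn ?_
  rw [delta_toGL, CfsgLib.ClassicalAut.Balance.mul_conj, h]

/-- Similitudes give fixed points. -/
theorem fixed_of_sim (hn : 2 ≤ n) {M : GL (Fin n) F} {s : SL(n, F)} {c : Fˣ}
    (h : Sim θ M (Matrix.SpecialLinearGroup.toGL s) c) : gt θ M (mkP s) = mkP s := by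
  have h1 := h.commute
  rw [delta_toGL, CfsgLib.ClassicalAut.Balance.mul_conj, mul_left_inj] at h1
  refine mul_inv_eq_one.1 (conj_eq_one p hn _ ?_)
  rw [map_mul, map_inv, h1, mul_inv_cancel]

omit [Fact p.Prime] [CharP F p] p in
variable (θ) in
/-- The largest odd-order normal subgroup of the fixed points, seen in `PSL_n(F)`. -/
def oddCore (M : GL (Fin n) F) : Subgroup PSL(n, F) :=
  (Cfsg.pPrimeCore 2 (Fix (gt θ M))).map (Fix (gt θ M)).subtype

omit [Fact p.Prime] [CharP F p] p in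
theorem oddCore_fixed {M : GL (Fin n) F} {k : PSL(n, F)} (hk : k ∈ oddCore θ M) : gt θ M k = k := by
  obtain ⟨k', -, rfl⟩ := hk
  exact k'.2

omit [Fact p.Prime] [CharP F p] p in
theorem eq_one_of_sq [Finite F] {M : GL (Fin n) F} {k : PSL(n, F)} (hk : k ∈ oddCore θ M)
    (h : k * k = 1) : k = 1 := by
  obtain ⟨k', hk', rfl⟩ := hk
  have h1 : orderOf (⟨k', hk'⟩ : Cfsg.pPrimeCore 2 (Fix (gt θ M))) ∣ 2 :=
    orderOf_dvd_of_pow_eq_one (Subtype.ext (Subtype.ext (by rw [pow_two]; exact h)))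
  have h3 := Nat.dvd_gcd (orderOf_dvd_natCard _) h1
  rw [(CfsgLib.Transfer.pPrimeCore_coprime (G := Fix (gt θ M)) 2).gcd_eq_one, Nat.dvd_one,
    orderOf_eq_one_iff] at h3
  exact congrArg Subtype.val (congrArg Subtype.val h3)

omit [Fact p.Prime] [CharP F p] p in
/-- Similitudes act on the odd core. -/
theorem delta_mem_oddCore [Finite F] {M g : GL (Fin n) F} {c : Fˣ} (hg : Sim θ M g c) {k : PSL(n, F)}
    (hk : k ∈ oddCore θ M) : delta g k ∈ oddCore θ M := by
  have hfix : ∀ y, gt θ M y = y ↔ gt θ M (delta g y) = delta g y := fun y => by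
    rw [← MulAut.mul_apply, hg.commute, MulAut.mul_apply, EmbeddingLike.apply_eq_iff_eq]
  let e : Fix (gt θ M) ≃* Fix (gt θ M) :=
    { toFun := fun y => ⟨delta g y, (hfix y).1 y.2⟩
      invFun := fun y => ⟨(delta g).symm y, (hfix _).2 (by rw [(delta g).apply_symm_apply]; exact y.2)⟩
      left_inv := fun y => Subtype.ext ((delta g).symm_apply_apply _)
      right_inv := fun y => Subtype.ext ((delta g).apply_symm_apply _)
      map_mul' := fun y z => Subtype.ext (map_mul (delta g) _ _) }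
  obtain ⟨k', hk', rfl⟩ := hk
  refine ⟨e k', CfsgLib.Transfer.le_pPrimeCore
    (Subgroup.Normal.map (CfsgLib.Transfer.pPrimeCore_normal 2 _) e.toMonoidHom e.surjective) ?_
    ⟨k', hk', rfl⟩, rfl⟩
  rw [← Nat.card_congr (Subgroup.equivMapOfInjective _ e.toMonoidHom e.injective).toEquiv]
  exact CfsgLib.Transfer.pPrimeCore_coprime 2

/-- The relation satisfied by a lift of a fixed point. -/
theorem exists_rel {b : GL (Fin n) F} {τ : F ≃+* F} {s : SL(n, F)}
    (h : (delta b * fieldAut τ : MulAut PSL(n, F)) (mkP s) = mkP s) :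
    ∃ l : F, (b : Matrix (Fin n) (Fin n) F) * (s : Matrix (Fin n) (Fin n) F).map τ =
      l • ((s : Matrix (Fin n) (Fin n) F) * (b : Matrix (Fin n) (Fin n) F)) := by
  rw [MulAut.mul_apply, show mkP s = (s : PSL(n, F)) from rfl, fieldAut_mkP, delta_mkP] at h
  have hz : s⁻¹ * conjMat b (mapMat τ s) ∈ Subgroup.center SL(n, F) := QuotientGroup.eq.1 h.symm
  rw [Matrix.SpecialLinearGroup.mem_center_iff] at hz
  obtain ⟨l, -, hl⟩ := hz
  refine ⟨l, ?_⟩
  have h1 := congrArg (fun A => (s : Matrix (Fin n) (Fin n) F) * A * (b : Matrix (Fin n) (Fin n) F)) hl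
  simp only [← Matrix.SpecialLinearGroup.coe_mul, mul_inv_cancel_left] at h1
  rw [conjMat_coe, mapMat_coe, Units.inv_mul_cancel_right, Matrix.scalar_apply,
    ← Matrix.smul_one_eq_diagonal, Matrix.mul_smul, mul_one, Matrix.smul_mul] at h1
  exact h1.symm

/-- Readiness from the two computations. -/
theorem ready_gt [Finite F] (hn : 2 ≤ n) {M : GL (Fin n) F} (hord : orderOf (gt θ M) = 2)
    (hinv : ∃ k, k ≠ 1 ∧ k * k = 1 ∧ gt θ M k = k) (hC : oddCore θ M = ⊥)
    (hc : ∀ (b : GL (Fin n) F) (τ : F ≃+* F),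
      (∀ k, gt θ M k = k → (delta b * fieldAut τ : MulAut PSL(n, F)) k = k) →
        (delta b * fieldAut τ : MulAut PSL(n, F)) = 1) : Ready (gt θ M) := by
  haveI : Fact (Nat.Prime 2) := ⟨Nat.prime_two⟩
  refine ⟨hinv, fun N hN hne => ?_, fun g hg => ?_⟩
  · by_contra h2
    refine hne ((Subgroup.eq_bot_iff_forall _).2 fun k hk => Subtype.ext ?_)
    show (k : PSL(n, F)) = 1
    rw [← Subgroup.mem_bot, ← hC]
    exact ⟨k, CfsgLib.Transfer.le_pPrimeCore hN
      ((Nat.prime_two.coprime_iff_not_dvd).2 h2).symm hk, rfl⟩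
  · have h01 := eq_one_or_mul_eq_one
    set e₁ : Multiplicative (ZMod 2) := Multiplicative.ofAdd 1
    have hx : gt θ M = delta M⁻¹ * fieldAut θ * graphPow e₁ := by rw [gt, graphPow_ofAdd_one]
    obtain ⟨b, τ, e, he⟩ := exists_normal_form p hn g
    rcases h01 e with h | h
    · have h1 : g = delta b * fieldAut τ := by rw [he, h, map_one, mul_one]
      rw [h1, hc b τ (h1 ▸ hg)]
      exact one_mem _
    · obtain ⟨b', τ', h1⟩ : ∃ b' τ', g * gt θ M = delta b' * fieldAut τ' := by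
        refine ⟨b * mapGL τ (contraPow e M⁻¹), τ * θ, ?_⟩
        rw [he, hx, mul_normal_form, h, map_one graphPow, mul_one]
      have h2 := hc b' τ' fun k hk => by rw [← h1, MulAut.mul_apply, hk, hg k hk]
      rw [← h1, mul_eq_one_iff_eq_inv] at h2
      rw [h2]
      exact inv_mem (Subgroup.mem_zpowers _)

end Form

end CfsgLib.AutPSL.LocalBal
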