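import Cfsg.Prelude.Def_LieTypeDatum
import Cfsg.Agent.Lib.AutPSL.GraphCongr
import Cfsg.Agent.Lib.Classical.OddEvenSymp

set_option autoImplicit false

/-!
Similitude groups of the standard symmetric and alternating matrices.
-/

namespace CfsgLib.AutPSL.Models

open Matrix

variable {F : Type*} [Field F]

section general

variable {ι : Type} [Fintype ι] [DecidableEq ι]

theorem similarity_iff (M : Matrix ι ι F) {f : (ι → F) → (ι → F) → F}
    (hf : ∀ u v, f u v = u ⬝ᵥ (M *ᵥ v)) (h : GL ι F) :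
    h ∈ Cfsg.Geo.similarityGroup f ↔
      ∃ c : Fˣ, (h : Matrix ι ι F)ᵀ * M * h = (c : F) • M := by
  refine exists_congr fun c => ⟨fun hh => Congr.eq_of_bil fun u v => ?_, fun hh u v => ?_⟩
  · rw [← Congr.congr_dot, ← hf, hh, hf, smul_mulVec, dotProduct_smul, smul_eq_mul]
  · rw [hf, hf, Congr.congr_dot, hh, smul_mulVec, dotProduct_smul, smul_eq_mul]

theorem quadSimilarity_iff (h2 : (2 : F) ≠ 0) {A : Matrix ι ι F} (hA : Aᵀ = A) {Q : (ι → F) → F}
    (hQ : ∀ v, 2 * Q v = v ⬝ᵥ (A *ᵥ v)) (h : GL ι F) :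
    h ∈ Cfsg.Geo.quadSimilarityGroup Q ↔
      ∃ c : Fˣ, (h : Matrix ι ι F)ᵀ * A * h = (c : F) • A := by
  refine exists_congr fun c => ⟨fun hh => ?_, fun hh v => mul_left_cancel₀ h2 ?_⟩
  · refine Congr.eq_of_quad h2 (Congr.transpose_congr _ hA) (by rw [transpose_smul, hA]) fun v => ?_
    rw [← Congr.congr_dot, ← hQ, hh, smul_mulVec, dotProduct_smul, smul_eq_mul, ← hQ]
    ring
  · rw [hQ, Congr.congr_dot, hh, smul_mulVec, dotProduct_smul, smul_eq_mul, ← hQ]
    ring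

theorem coe_scalar (c : Fˣ) :
    ((GeneralLinearGroup.scalar ι c : GL ι F) : Matrix ι ι F) = (c : F) • 1 := by
  show Matrix.scalar ι (c : F) = _
  rw [Matrix.scalar_apply, Matrix.smul_one_eq_diagonal]

theorem scalar_mem (c : Fˣ) : GeneralLinearGroup.scalar ι c ∈ Cfsg.Geo.scalars ι F :=
  (Cfsg.Geo.mem_scalars_iff _).2 ⟨c, coe_scalar c⟩

theorem scalar_similitude (M : Matrix ι ι F) (c : Fˣ) :
    ((GeneralLinearGroup.scalar ι c : GL ι F) : Matrix ι ι F)ᵀ * M *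
      (GeneralLinearGroup.scalar ι c : GL ι F) = ((c ^ 2 : Fˣ) : F) • M := by
  rw [coe_scalar, transpose_smul, transpose_one, smul_mul, one_mul, Matrix.mul_smul, mul_one, smul_smul,
    Units.val_pow_eq_pow_val, pow_two]

theorem det_scalar (c : Fˣ) :
    GeneralLinearGroup.det (GeneralLinearGroup.scalar ι c : GL ι F) = c ^ Fintype.card ι :=
  Units.ext (by
    rw [GeneralLinearGroup.val_det_apply, coe_scalar, det_smul, det_one, mul_one,
      Units.val_pow_eq_pow_val])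

/-- A group of similitudes which is an isometry group times the scalars. -/
theorem projQuot_equiv {K : Type*} [Group K] (H : Subgroup (GL ι F)) (f : K →* GL ι F)
    (hmem : ∀ k, f k ∈ H) (hsc : ∀ k, f k ∈ Cfsg.Geo.scalars ι F → k = 1)
    (hsurj : ∀ h ∈ H, ∃ (c : Fˣ) (k : K), h = GeneralLinearGroup.scalar ι c * f k) :
    Nonempty (Cfsg.projQuot H ≃* K) := by
  let φ : K →* Cfsg.projQuot H := (QuotientGroup.mk' _).comp (f.codRestrict H hmem)
  refine ⟨(MulEquiv.ofBijective φ ⟨(injective_iff_map_eq_one φ).2 fun k hk => hsc k ?_, fun x => ?_⟩).symm⟩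
  · exact Subgroup.mem_subgroupOf.1 ((QuotientGroup.eq_one_iff _).1 hk)
  · obtain ⟨⟨h, hh⟩, rfl⟩ := QuotientGroup.mk_surjective x
    obtain ⟨c, k, rfl⟩ := hsurj h hh
    refine ⟨k, QuotientGroup.eq.2 (Subgroup.mem_subgroupOf.2 ?_)⟩
    have : ((f.codRestrict H hmem k : GL ι F))⁻¹ *
        (GeneralLinearGroup.scalar ι c * f k) = GeneralLinearGroup.scalar ι c := by
      show (f k)⁻¹ * _ = _
      apply Units.ext
      rw [Units.val_mul, Units.val_mul, coe_scalar, smul_mul, one_mul, Matrix.mul_smul, Units.inv_mul]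
    show (f.codRestrict H hmem k : GL ι F)⁻¹ * _ ∈ _
    rw [this]
    exact scalar_mem c

end general

/-! ### The matrices -/

/-- The standard alternating matrix. -/
noncomputable def jGL (m : ℕ) (F : Type*) [Field F] : GL (Fin m ⊕ Fin m) F :=
  GeneralLinearGroup.mkOfDetNeZero (Matrix.J (Fin m) F) (isUnit_det_J _ _).ne_zero

@[simp] theorem jGL_coe (m : ℕ) :
    (jGL m F : Matrix (Fin m ⊕ Fin m) (Fin m ⊕ Fin m) F) = Matrix.J (Fin m) F := rfl

theorem mem_GSp_iff {m : ℕ} (h : GL (Fin m ⊕ Fin m) F) :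
    h ∈ Cfsg.GSp m F ↔ ∃ c : Fˣ, (h : Matrix (Fin m ⊕ Fin m) (Fin m ⊕ Fin m) F)ᵀ * jGL m F * h =
      (c : F) • (jGL m F : Matrix (Fin m ⊕ Fin m) (Fin m ⊕ Fin m) F) :=
  similarity_iff _ (fun _ _ => rfl) h

/-- The similitude `diag(c,1)` of the alternating matrix. -/
noncomputable def diagC (m : ℕ) (c : Fˣ) : GL (Fin m ⊕ Fin m) F :=
  GeneralLinearGroup.mkOfDetNeZero (Matrix.fromBlocks ((c : F) • 1) 0 0 1) (by
    rw [Matrix.det_fromBlocks_zero₁₂, det_smul, det_one, mul_one, mul_one]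
    exact pow_ne_zero _ c.ne_zero)

theorem diagC_similitude (m : ℕ) (c : Fˣ) :
    (diagC m c : Matrix (Fin m ⊕ Fin m) (Fin m ⊕ Fin m) F)ᵀ * jGL m F * diagC m c =
      (c : F) • (jGL m F : Matrix (Fin m ⊕ Fin m) (Fin m ⊕ Fin m) F) := by
  simp [diagC, GeneralLinearGroup.mkOfDetNeZero, Matrix.J, fromBlocks_transpose, fromBlocks_multiply,
    fromBlocks_smul]

theorem det_diagC (m : ℕ) (c : Fˣ) : GeneralLinearGroup.det (diagC m c) = c ^ m :=
  Units.ext (by
    rw [GeneralLinearGroup.val_det_apply, Units.val_pow_eq_pow_val]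
    show (Matrix.fromBlocks ((c : F) • (1 : Matrix (Fin m) (Fin m) F)) 0 0 1).det = _
    rw [Matrix.det_fromBlocks_zero₁₂, det_smul, det_one, mul_one, mul_one, Fintype.card_fin])

theorem det_similitude_J {m : ℕ} (h : GL (Fin m ⊕ Fin m) F) (c : Fˣ)
    (hh : (h : Matrix (Fin m ⊕ Fin m) (Fin m ⊕ Fin m) F)ᵀ * jGL m F * h =
      (c : F) • (jGL m F : Matrix (Fin m ⊕ Fin m) (Fin m ⊕ Fin m) F)) :
    GeneralLinearGroup.det h = c ^ m := by
  set D : Matrix (Fin m ⊕ Fin m) (Fin m ⊕ Fin m) F := ↑(diagC m c⁻¹) with hD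
  set H : Matrix (Fin m ⊕ Fin m) (Fin m ⊕ Fin m) F := ↑h with hH
  set J : Matrix (Fin m ⊕ Fin m) (Fin m ⊕ Fin m) F := ↑(jGL m F) with hJ
  have hd := diagC_similitude (F := F) m c⁻¹
  rw [← hD, ← hJ] at hd
  have hmem : H * D ∈ Matrix.symplecticGroup (Fin m) F := by
    rw [SymplecticGroup.mem_iff']
    show (H * D)ᵀ * J * (H * D) = J
    calc _ = Dᵀ * (Hᵀ * J * H) * D := by rw [transpose_mul]; noncomm_ring
      _ = J := by rw [hh, Matrix.mul_smul, smul_mul, hd, smul_smul]; simp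
  have h1 : GeneralLinearGroup.det h * GeneralLinearGroup.det (diagC m c⁻¹) = 1 := Units.ext (by
    rw [Units.val_mul, GeneralLinearGroup.val_det_apply, GeneralLinearGroup.val_det_apply, ← det_mul,
      SymplecticGroup.det_eq_one hmem, Units.val_one])
  rw [det_diagC, inv_pow, mul_inv_eq_one] at h1
  exact h1

/-- The symmetric matrix of the hyperbolic form. -/
def plusA (m : ℕ) (F : Type*) [Field F] : Matrix (Fin m ⊕ Fin m) (Fin m ⊕ Fin m) F :=
  Matrix.fromBlocks 0 1 1 0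

/-- The symmetric matrix of the minus form. -/
def minusA (k : ℕ) (F : Type*) [Field F] (a b : F) :
    Matrix ((Fin k ⊕ Fin k) ⊕ Fin 2) ((Fin k ⊕ Fin k) ⊕ Fin 2) F :=
  Matrix.fromBlocks (plusA k F) 0 0 !![2, a; a, 2 * b]

/-- The symmetric matrix of the odd-dimensional form. -/
def oddA (m : ℕ) (F : Type*) [Field F] :
    Matrix (Unit ⊕ (Fin m ⊕ Fin m)) (Unit ⊕ (Fin m ⊕ Fin m)) F :=
  Matrix.fromBlocks (Matrix.diagonal fun _ => 2) 0 0 (plusA m F)

theorem plusA_transpose (m : ℕ) : (plusA m F)ᵀ = plusA m F := by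
  simp [plusA, fromBlocks_transpose]

theorem minusA_transpose (k : ℕ) (a b : F) : (minusA k F a b)ᵀ = minusA k F a b := by
  rw [minusA, fromBlocks_transpose, plusA_transpose, transpose_zero, transpose_zero]
  congr 1
  ext i j
  fin_cases i <;> fin_cases j <;> simp

theorem oddA_transpose (m : ℕ) : (oddA m F)ᵀ = oddA m F := by
  simp [oddA, fromBlocks_transpose, plusA_transpose]

theorem dot_plusA (m : ℕ) (v : Fin m ⊕ Fin m → F) :
    v ⬝ᵥ (plusA m F *ᵥ v) = 2 * ∑ i, v (.inl i) * v (.inr i) := by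
  rw [plusA, fromBlocks_mulVec]
  simp [dotProduct, Fintype.sum_sum_type, Finset.mul_sum, ← Finset.sum_add_distrib]
  exact Finset.sum_congr rfl fun i _ => by ring

theorem quad_plus (m : ℕ) (v : Fin m ⊕ Fin m → F) :
    2 * Cfsg.quadFormPlus m F v = v ⬝ᵥ (plusA m F *ᵥ v) :=
  (dot_plusA m v).symm

theorem quad_minus (k : ℕ) (a b : F) (v : (Fin k ⊕ Fin k) ⊕ Fin 2 → F) :
    2 * Cfsg.quadFormMinus k F a b v = v ⬝ᵥ (minusA k F a b *ᵥ v) := by
  rw [minusA, fromBlocks_mulVec]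
  have h := dot_plusA k (v ∘ Sum.inl)
  simp [dotProduct, Fintype.sum_sum_type, Fin.sum_univ_two, Cfsg.quadFormMinus, Matrix.mulVec] at h ⊢
  linear_combination -h

theorem quad_odd (m : ℕ) (v : Unit ⊕ (Fin m ⊕ Fin m) → F) :
    2 * Cfsg.quadFormOdd m F v = v ⬝ᵥ (oddA m F *ᵥ v) := by
  rw [oddA, fromBlocks_mulVec]
  have h := dot_plusA m (v ∘ Sum.inr)
  simp [dotProduct, Fintype.sum_sum_type, Cfsg.quadFormOdd, Matrix.mulVec, Matrix.diagonal] at h ⊢
  linear_combination -h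

theorem det_plusA (m : ℕ) : (plusA m F).det = (-1) ^ m := by
  have hT : (plusA m F) * Matrix.fromBlocks 1 0 1 1 =
      Matrix.fromBlocks (1 : Matrix (Fin m) (Fin m) F) 1 1 0 := by
    simp [plusA, fromBlocks_multiply]
  have h := congrArg Matrix.det hT
  rw [det_mul, det_fromBlocks_zero₁₂, det_one, mul_one, mul_one, det_fromBlocks_one₁₁] at h
  simpa [Matrix.det_neg] using h

theorem det_minusA (k : ℕ) (a b : F) : (minusA k F a b).det = (-1) ^ k * (4 * b - a ^ 2) := by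
  rw [minusA, det_fromBlocks_zero₁₂, det_plusA, det_fin_two]
  simp
  ring

theorem det_oddA (m : ℕ) : (oddA m F).det = 2 * (-1) ^ m := by
  simp [oddA, det_fromBlocks_zero₁₂, det_plusA]

/-! ### Characteristic two -/

section two

variable [CharP F 2] [Finite F]

theorem exists_sqrt (c : Fˣ) : ∃ d : Fˣ, c = d ^ 2 := by
  cases nonempty_fintype F
  obtain ⟨r, hr⟩ := FiniteField.isSquare_of_char_two (ringChar.eq F 2) (c : F)
  refine ⟨Units.mk0 r fun h => c.ne_zero (by rw [hr, h, mul_zero]), Units.ext ?_⟩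
  rw [Units.val_pow_eq_pow_val, pow_two, Units.val_mk0]
  exact hr

theorem eq_one_of_sq {c : Fˣ} (h : c ^ 2 = 1) : c = 1 := Units.ext (by
  have h' : (c : F) ^ 2 = 1 := by rw [← Units.val_pow_eq_pow_val, h, Units.val_one]
  have : ((c : F) - 1) ^ 2 = 0 := by
    rw [CharTwo.sub_eq_add, CharTwo.add_sq, h', one_pow, CharTwo.add_self_eq_zero]
  rw [Units.val_one]
  exact sub_eq_zero.1 (sq_eq_zero_iff.1 this))

omit [Finite F] in
/-- The elements fixing the form, up to scalars, in characteristic two. -/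
theorem isometry_part [Finite F] {ι : Type} [Fintype ι] [DecidableEq ι] {M : Matrix ι ι F} {h : GL ι F}
    {c : Fˣ} (hh : (h : Matrix ι ι F)ᵀ * M * h = (c : F) • M) :
    ∃ d : Fˣ, ∃ k : GL ι F, h = GeneralLinearGroup.scalar ι d * k ∧
      (k : Matrix ι ι F)ᵀ * M * k = M := by
  obtain ⟨d, rfl⟩ := exists_sqrt c
  refine ⟨d, GeneralLinearGroup.scalar ι d⁻¹ * h, ?_, ?_⟩
  · rw [← mul_assoc, ← map_mul, mul_inv_cancel, map_one, one_mul]
  · rw [Units.val_mul, coe_scalar, smul_mul, one_mul, transpose_smul, smul_mul, smul_mul, Matrix.mul_smul, hh,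
      smul_smul, smul_smul]
    simp [pow_two, ← mul_assoc]

theorem eq_one_of_scalar {ι : Type} [Fintype ι] [DecidableEq ι] {M : Matrix ι ι F} (hM : M ≠ 0)
    {k : GL ι F} (hk : (k : Matrix ι ι F)ᵀ * M * k = M) (hs : k ∈ Cfsg.Geo.scalars ι F) : k = 1 := by
  obtain ⟨s, hs⟩ := (Cfsg.Geo.mem_scalars_iff k).1 hs
  have h2 : ((s : F) ^ 2 - 1) • M = 0 := by
    rw [sub_smul, one_smul, sub_eq_zero, pow_two]
    conv_rhs => rw [← hk]
    simp [hs, smul_smul, transpose_smul]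
  have h3 : s = 1 := eq_one_of_sq (Units.ext (by
    rw [Units.val_pow_eq_pow_val, Units.val_one]
    exact sub_eq_zero.1 ((smul_eq_zero.1 h2).resolve_right hM)))
  apply Units.ext
  rw [hs, h3, Units.val_one, one_smul, Units.val_one]

/-- `1 ⊕ J`. -/
def oddN (m : ℕ) (F : Type*) [Field F] :
    Matrix (Unit ⊕ (Fin m ⊕ Fin m)) (Unit ⊕ (Fin m ⊕ Fin m)) F :=
  Matrix.fromBlocks 1 0 0 (Matrix.J (Fin m) F)

/-- The matrix unit at the first coordinate. -/
def evenE (m : ℕ) (F : Type*) [Field F] (i : Fin m) : Matrix (Fin m ⊕ Fin m) (Fin m ⊕ Fin m) F :=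
  Matrix.single (.inl i) (.inl i) 1

/-- `J + E`. -/
def evenN (m : ℕ) (F : Type*) [Field F] (i : Fin m) : Matrix (Fin m ⊕ Fin m) (Fin m ⊕ Fin m) F :=
  Matrix.J (Fin m) F + evenE m F i

omit [Finite F] in
theorem J_symm (m : ℕ) : (Matrix.J (Fin m) F)ᵀ = Matrix.J (Fin m) F := by
  rw [Matrix.J_transpose, ← neg_one_smul F (Matrix.J (Fin m) F), CharTwo.neg_eq, one_smul]

omit [Finite F] in
theorem J_sq (m : ℕ) : Matrix.J (Fin m) F * Matrix.J (Fin m) F = 1 := by
  rw [Matrix.J_squared, ← neg_one_smul F (1 : Matrix (Fin m ⊕ Fin m) (Fin m ⊕ Fin m) F), CharTwo.neg_eq, one_smul]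

end two

end CfsgLib.AutPSL.Models
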