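import Cfsg.Agent.Lib.AutPSL.BalanceGraph
import Cfsg.Agent.Lib.AutPSL.GraphModels
import Cfsg.Agent.Lib.Classical.SympTrans

set_option autoImplicit false
set_option linter.unusedSectionVars false

/-!
Local balance at graph automorphisms of `PSL_n(F)` of symplectic type, odd characteristic.
-/

namespace CfsgLib.AutPSL.LocalBal

open Matrix
open scoped MatrixGroups
open CfsgLib.Classical.SympTrans CfsgLib.AutPSL.Models CfsgLib.AutPSL.Graph
open Cfsg (sympForm sympTransvection)

universe u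

variable {n : ℕ} {F : Type u} [Field F] {m : ℕ}

local notation "V" => (Fin m ⊕ Fin m → F)
local notation "G" => Matrix.symplecticGroup (Fin m) F

theorem det_symp (h2 : (2 : F) ≠ 0) (hm : 2 ≤ m) (g : G) :
    (g : Matrix (Fin m ⊕ Fin m) (Fin m ⊕ Fin m) F).det = 1 := by
  have hu : IsUnit (g : Matrix (Fin m ⊕ Fin m) (Fin m ⊕ Fin m) F).det := SymplecticGroup.symplectic_det g.2
  let f : G →* Fˣ :=
    { toFun := fun g => (SymplecticGroup.symplectic_det g.2).unit
      map_one' := Units.ext (by simp)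
      map_mul' := fun a b => Units.ext (by simp [det_mul]) }
  have h : commutator G ≤ f.ker := Abelianization.commutator_subset_ker f
  have h1 := h ((commutator_eq_top (F := F) (m := m) (Or.inr (Or.inl ⟨hm, h2⟩))).symm ▸ Subgroup.mem_top g)
  exact congrArg Units.val (MonoidHom.mem_ker.1 h1)

variable (h2 : (2 : F) ≠ 0) (hm : 2 ≤ m) (e : Fin m ⊕ Fin m ≃ Fin n)

/-- The symplectic group inside `SL_n`. -/
def toSL : G →* SL(n, F) where
  toFun g := ⟨(g : Matrix (Fin m ⊕ Fin m) (Fin m ⊕ Fin m) F).submatrix e.symm e.symm, by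
    rw [det_submatrix_equiv_self, det_symp h2 hm]⟩
  map_one' := Subtype.ext (submatrix_one_equiv _)
  map_mul' a b := Subtype.ext (submatrix_mul_equiv a.1 b.1 e.symm e.symm e.symm).symm

theorem toSL_coe (g : G) : (toSL h2 hm e g : Matrix (Fin n) (Fin n) F) =
    (g : Matrix (Fin m ⊕ Fin m) (Fin m ⊕ Fin m) F).submatrix e.symm e.symm := rfl

/-- The form matrix. -/
noncomputable def jn : GL (Fin n) F := reGL e (jGL m F)

theorem sim_iff_symp {g : GL (Fin n) F} {c : Fˣ} :
    Sim (1 : F ≃+* F) (jn e) g c ↔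
      ∀ u v : V, sympForm m F (((g : Matrix (Fin n) (Fin n) F).submatrix e e) *ᵥ u)
        (((g : Matrix (Fin n) (Fin n) F).submatrix e e) *ᵥ v) = (c : F) * sympForm m F u v := by
  set S : Matrix (Fin m ⊕ Fin m) (Fin m ⊕ Fin m) F := (g : Matrix (Fin n) (Fin n) F).submatrix e e
  have hS : (g : Matrix (Fin n) (Fin n) F) = S.submatrix e.symm e.symm := by
    simp [S, submatrix_submatrix]
  have hmap : ((g : Matrix (Fin n) (Fin n) F).map ⇑(1 : F ≃+* F)) = g := rfl
  have h1 : Sim (1 : F ≃+* F) (jn e) g c ↔ Sᵀ * J (Fin m) F * S = (c : F) • J (Fin m) F := by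
    rw [Sim, hmap, jn, reGL_coe, jGL_coe, hS, transpose_submatrix, submatrix_mul_equiv, submatrix_mul_equiv]
    constructor
    · intro hh
      ext i j
      simpa using congrFun (congrFun hh (e i)) (e j)
    · intro hh
      rw [hh]
      rfl
  rw [h1]
  constructor
  · intro hh u v
    rw [sympForm, sympForm, mulVec_mulVec, ← vecMul_transpose, ← dotProduct_mulVec, mulVec_mulVec, ← mul_assoc, hh,
      smul_mulVec, dotProduct_smul, smul_eq_mul]
  · intro hh
    refine Congr.eq_of_bil fun u v => ?_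
    rw [smul_mulVec, dotProduct_smul, smul_eq_mul, ← mulVec_mulVec, ← mulVec_mulVec, dotProduct_mulVec u Sᵀ,
      vecMul_transpose]
    exact hh u v

theorem toSL_sim (g : G) : Sim (1 : F ≃+* F) (jn e) (Matrix.SpecialLinearGroup.toGL (toSL h2 hm e g)) 1 := by
  refine (sim_iff_symp e).2 fun u v => ?_
  have : ((toSL h2 hm e g : Matrix (Fin n) (Fin n) F)).submatrix e e =
      (g : Matrix (Fin m ⊕ Fin m) (Fin m ⊕ Fin m) F) := by simp [toSL_coe, submatrix_submatrix]
  rw [Units.val_one, one_mul]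
  show sympForm m F ((toSL h2 hm e g : Matrix (Fin n) (Fin n) F).submatrix e e *ᵥ u)
    ((toSL h2 hm e g : Matrix (Fin n) (Fin n) F).submatrix e e *ᵥ v) = _
  rw [this]
  exact f_app g u v

theorem neg_one_central : ((-1 : Matrix (Fin m ⊕ Fin m) (Fin m ⊕ Fin m) F)).submatrix e.symm e.symm =
    Matrix.scalar (Fin n) (-1 : F) := by
  ext i j
  rcases eq_or_ne i j with rfl | h
  · simp
  · simp [h]

theorem mkP_symJ (p : ℕ) [Fact p.Prime] [CharP F p] :
    mkP (toSL h2 hm e (SymplecticGroup.symJ (Fin m) F)) ≠ 1 ∧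
      mkP (toSL h2 hm e (SymplecticGroup.symJ (Fin m) F)) * mkP (toSL h2 hm e (SymplecticGroup.symJ (Fin m) F)) = 1 := by
  constructor
  · intro h
    obtain ⟨c, -, hc⟩ := Matrix.SpecialLinearGroup.mem_center_iff.1 ((QuotientGroup.eq_one_iff _).1 h)
    have h1 := congrFun (congrFun hc (e (.inl ⟨0, by omega⟩))) (e (.inr ⟨0, by omega⟩))
    simp [toSL_coe, Matrix.J] at h1
  · rw [← map_mul, ← map_mul]
    refine (QuotientGroup.eq_one_iff _).2 (Matrix.SpecialLinearGroup.mem_center_iff.2 ⟨-1, ?_, ?_⟩)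
    · rw [← Fintype.card_congr e, Fintype.card_sum]
      simp [← two_mul]
    · show _ = ((SymplecticGroup.symJ (Fin m) F * SymplecticGroup.symJ (Fin m) F : G) :
        Matrix (Fin m ⊕ Fin m) (Fin m ⊕ Fin m) F).submatrix e.symm e.symm
      rw [← neg_one_central e]
      exact congrArg (fun A => A.submatrix e.symm e.symm) (J_squared (Fin m) F).symm

theorem exists_perp_two (hm : 2 ≤ m) (u v : V) : ∃ z : V, z ≠ 0 ∧ sympForm m F z u = 0 ∧ sympForm m F z v = 0 := by
  let L : V →ₗ[F] F × F :=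
    { toFun := fun z => (sympForm m F z u, sympForm m F z v)
      map_add' := fun x y => by simp [f_add_left]
      map_smul' := fun c x => by simp [f_smul_left] }
  have h : LinearMap.ker L ≠ ⊥ := LinearMap.ker_ne_bot_of_finrank_lt (by
    rw [Module.finrank_prod, Module.finrank_self, Module.finrank_pi, Fintype.card_sum, Fintype.card_fin]; omega)
  obtain ⟨z, hz, hz0⟩ := Submodule.exists_mem_ne_zero_of_ne_bot h
  have := LinearMap.mem_ker.1 hz
  exact ⟨z, hz0, congrArg Prod.fst this, congrArg Prod.snd this⟩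

include h2 hm in
/-- A similitude whose commutators with transvections map to an odd-order normalised subgroup is a scalar. -/
theorem scalar_of_odd {X : Type*} [Group X] (f : G →* X) (C : Subgroup X)
    (hnorm : ∀ g, ∀ k ∈ C, f g * k * (f g)⁻¹ ∈ C) (hodd : ∀ k ∈ C, k * k = 1 → k = 1)
    (hJ : f (SymplecticGroup.symJ (Fin m) F) ≠ 1)
    (hJJ : f (SymplecticGroup.symJ (Fin m) F) * f (SymplecticGroup.symJ (Fin m) F) = 1)
    {S₀ : Matrix (Fin m ⊕ Fin m) (Fin m ⊕ Fin m) F} {c : F}
    (hstep : ∀ v : V, v ≠ 0 → f (T (S₀ *ᵥ v) c⁻¹ * (T v (1 : F))⁻¹) ∈ C) :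
    ∃ a, S₀ = Matrix.scalar (Fin m ⊕ Fin m) a := by
  haveI : (C.comap f).Normal := ⟨fun x hx g => by
    show f (g * x * g⁻¹) ∈ C
    rw [map_mul, map_mul, map_inv]
    exact hnorm g _ hx⟩
  have hNc : C.comap f ≤ Subgroup.center G := by
    rcases CfsgLib.Classical.SympTrans.commutator_le_or_le_center (C.comap f) with h | h
    · exact h
    exfalso
    rw [commutator_eq_top (Or.inr (Or.inl ⟨hm, h2⟩))] at h
    exact hJ (hodd _ (h (Subgroup.mem_top (SymplecticGroup.symJ (Fin m) F))) hJJ)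
  have hline : ∀ v : V, ∃ a : F, S₀ *ᵥ v = a • v := by
    intro v
    by_cases hv : v = 0
    · exact ⟨0, by rw [hv, mulVec_zero, smul_zero]⟩
    set u := S₀ *ᵥ v
    have hx : T u c⁻¹ * (T v (1 : F))⁻¹ ∈ C.comap f := hstep v hv
    have hcen := Subgroup.mem_center_iff.1 (hNc hx)
    set x := T u c⁻¹ * (T v (1 : F))⁻¹ with hx'
    obtain ⟨z, hz0, hzu, hzv⟩ := exists_perp_two hm u v
    have hTz : app (T v (1 : F)) z = z := by rw [app_T, hzv, mul_zero, zero_smul, add_zero]
    have hxz : app x z = z := by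
      have h1 : app (T v (1 : F))⁻¹ z = z := by
        have := app_inv (T v (1 : F)) z
        rwa [hTz] at this
      rw [hx', app_mul, h1, app_T, hzu, mul_zero, zero_smul, add_zero]
    have hx1 : x = 1 := ext_app fun y => by
      rw [app_one]
      by_cases hy : y = 0
      · rw [hy, app, mulVec_zero]
      obtain ⟨g, hg⟩ := exists_app_eq hz0 hy
      rw [← hg, ← app_mul, ← hcen g, app_mul, hxz]
    rw [hx', mul_inv_eq_one] at hx1
    obtain ⟨y, -, hy⟩ := exists_f_ne (mem_W_zero v) hv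
    have hy' : sympForm m F y v ≠ 0 := by rw [f_swap]; exact neg_ne_zero.2 hy
    have h1 := congrArg (fun g => app g y) hx1
    simp only [app_T, one_mul, add_right_inj] at h1
    have hne : c⁻¹ * sympForm m F y u ≠ 0 := fun h0 => by
      rw [h0, zero_smul] at h1
      exact (smul_ne_zero hy' hv) h1.symm
    refine ⟨(c⁻¹ * sympForm m F y u)⁻¹ * sympForm m F y v, ?_⟩
    rw [← smul_smul, ← h1, smul_smul, inv_mul_cancel₀ hne, one_smul]
  choose a ha using hline
  let i₀ : Fin m ⊕ Fin m := .inl ⟨0, by omega⟩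
  have hcol : ∀ i j : Fin m ⊕ Fin m, S₀ i j = if i = j then a (Pi.single j 1) else 0 := fun i j => by
    have h1 := congrFun (ha (Pi.single j 1)) i
    rw [mulVec_single_one] at h1
    simpa [Pi.single_apply] using h1
  have heq : ∀ i j, a (Pi.single i 1) = a (Pi.single j 1) := by
    intro i j
    rcases eq_or_ne i j with rfl | hij
    · rfl
    have h1 := ha (Pi.single i 1 + Pi.single j 1)
    rw [mulVec_add, ha, ha] at h1
    have e1 := congrFun h1 i
    have e3 := congrFun h1 j
    simp [hij, hij.symm] at e1 e3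
    exact e1.trans e3.symm
  exact ⟨a (Pi.single i₀ 1), Matrix.ext fun i j => by
    rw [hcol, Matrix.scalar_apply, Matrix.diagonal_apply]
    split_ifs with h
    · exact heq j i₀
    · rfl⟩

include hm in
/-- A matrix intertwining two embeddings of the symplectic group is a scalar and the embeddings agree. -/
theorem symp_scalar_of_rel {L : Type*} [Field L] (p : ℕ) [Fact p.Prime] [CharP F p] (ι ι' : F →+* L)
    (b : GL (Fin m ⊕ Fin m) L)
    (hrel' : ∀ g : G, ∃ l : L, (b : Matrix (Fin m ⊕ Fin m) (Fin m ⊕ Fin m) L) *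
      (g : Matrix (Fin m ⊕ Fin m) (Fin m ⊕ Fin m) F).map ι' =
        l • ((g : Matrix (Fin m ⊕ Fin m) (Fin m ⊕ Fin m) F).map ι * (b : Matrix (Fin m ⊕ Fin m) (Fin m ⊕ Fin m) L))) :
    b ∈ Subgroup.center (GL (Fin m ⊕ Fin m) L) ∧ ι' = ι := by
  haveI : CharP L p := (RingHom.charP_iff ι ι.injective p).1 ‹_›
  set B : Matrix (Fin m ⊕ Fin m) (Fin m ⊕ Fin m) L := (b : Matrix (Fin m ⊕ Fin m) (Fin m ⊕ Fin m) L) with hB
  have hmap : ∀ (κ : F →+* L) (v : V) (a : F),
      (sympTransvection m v a).map κ = sympTransvection m (fun i => κ (v i)) (κ a) := by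
    intro κ v a
    have hJ : ∀ i j, κ (J (Fin m) F i j) = J (Fin m) L i j := by
      intro i j
      rcases i with i | i <;> rcases j with j | j <;> simp [Matrix.J, Matrix.one_apply, apply_ite κ]
    ext i j
    simp only [sympTransvection, Matrix.map_apply, Matrix.add_apply, Matrix.smul_apply, vecMulVec_apply, map_add,
      map_mul, smul_eq_mul, mulVec, dotProduct, map_sum, hJ]
    congr 1
    rw [Matrix.one_apply, Matrix.one_apply]
    split_ifs <;> simp
  have hrel : ∀ (v : V) (a : F), (∀ i, ι' (v i) = ι (v i)) → ∀ x : Fin m ⊕ Fin m → L,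
      (ι' a * sympForm m L x (fun i => ι (v i))) • (B *ᵥ fun i => ι (v i)) =
        (ι a * sympForm m L (B *ᵥ x) (fun i => ι (v i))) • fun i => ι (v i) := by
    intro v₀ a₀ hv x
    obtain ⟨l, hl⟩ := hrel' (T v₀ a₀)
    change B * (sympTransvection m v₀ a₀).map ι' = l • ((sympTransvection m v₀ a₀).map ι * B) at hl
    rw [hmap, hmap, show (fun i => ι' (v₀ i)) = fun i => ι (v₀ i) from funext hv] at hl
    set v : Fin m ⊕ Fin m → L := fun i => ι (v₀ i)
    have hpow : ∀ k : ℕ, B * sympTransvection m v ((k : L) * ι' a₀) =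
        l ^ k • (sympTransvection m v ((k : L) * ι a₀) * B) := by
      intro k
      induction k with
      | zero => simp [sympTransvection]
      | succ k ih =>
        have hT : ∀ x y : L, sympTransvection m v (x + y) = sympTransvection m v x * sympTransvection m v y :=
          fun x y => congrArg Subtype.val (T_mul v x y).symm
        rw [Nat.cast_add, Nat.cast_one, add_mul, add_mul, one_mul, one_mul, hT, hT, ← mul_assoc, ih,
          Matrix.smul_mul, mul_assoc _ B, hl, Matrix.mul_smul, smul_smul, ← pow_succ, ← mul_assoc]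
    have hlp : l = 1 := by
      have h1 := hpow p
      rw [CharP.cast_eq_zero L p, zero_mul, zero_mul, show sympTransvection m v (0 : L) = 1 by
        simp [sympTransvection], mul_one, one_mul] at h1
      have hB0 : B ≠ 0 := fun h0 => by
        haveI : Nonempty (Fin m ⊕ Fin m) := ⟨.inl ⟨0, by omega⟩⟩
        exact not_isUnit_zero ((congrArg IsUnit h0).mp b.isUnit)
      have h3 : l ^ p = 1 ^ p := by
        rw [one_pow]
        exact smul_left_injective L hB0 (h1.symm.trans (one_smul L B).symm)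
      exact frobenius_inj L p h3
    have h1 := congrArg (fun A => A *ᵥ x) hl
    rw [hlp, one_smul] at h1
    simp only [← mulVec_mulVec, transvection_mulVec, mulVec_add, mulVec_smul, add_right_inj] at h1
    exact h1
  have hline : ∀ v : V, v ≠ 0 → (∀ i, ι' (v i) = ι (v i)) →
      ∃ c : L, (B *ᵥ fun i => ι (v i)) = c • fun i => ι (v i) := by
    intro v hv hfix
    set v' : Fin m ⊕ Fin m → L := fun i => ι (v i)
    have hv' : v' ≠ 0 := fun h0 => hv (funext fun i => ι.injective ((congrFun h0 i).trans (map_zero ι).symm))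
    obtain ⟨y, -, hy⟩ := exists_f_ne (mem_W_zero v') hv'
    have hy' : sympForm m L y v' ≠ 0 := by rw [f_swap]; exact neg_ne_zero.2 hy
    have h1 := hrel v 1 hfix y
    rw [map_one, map_one, one_mul, one_mul] at h1
    exact ⟨(sympForm m L y v')⁻¹ * sympForm m L (B *ᵥ y) v', by
      rw [← smul_smul, ← h1, smul_smul, inv_mul_cancel₀ hy', one_smul]⟩
  choose! a ha using hline
  have hs1 : ∀ i : Fin m ⊕ Fin m, (Pi.single i 1 : V) ≠ 0 := fun i => by simp
  have hsfix : ∀ i : Fin m ⊕ Fin m, ∀ l, ι' ((Pi.single i 1 : V) l) = ι ((Pi.single i 1 : V) l) := fun i l => by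
    rcases eq_or_ne l i with rfl | h <;> simp [*]
  have hsmap : ∀ i : Fin m ⊕ Fin m, (fun l => ι ((Pi.single i 1 : V) l)) = (Pi.single i 1 : Fin m ⊕ Fin m → L) :=
    fun i => funext fun l => by rcases eq_or_ne l i with rfl | h <;> simp [*]
  have hcol : ∀ i j : Fin m ⊕ Fin m, B i j = if i = j then a (Pi.single j 1) else 0 := fun i j => by
    have h0 := ha _ (hs1 j) (hsfix j)
    rw [hsmap] at h0
    have h1 := congrFun h0 i
    rw [mulVec_single_one] at h1
    simpa [Pi.single_apply] using h1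
  let i₀ : Fin m ⊕ Fin m := .inl ⟨0, by omega⟩
  set β := a (Pi.single i₀ 1) with hβ
  have heq : ∀ j, a (Pi.single j 1) = β := by
    intro j
    rcases eq_or_ne j i₀ with rfl | hij
    · rfl
    have hne : (Pi.single j 1 + Pi.single i₀ 1 : V) ≠ 0 := fun h0 => by
      simpa [hij] using congrFun h0 j
    have h1 := ha _ hne (fun l => by rw [Pi.add_apply, map_add, map_add, hsfix, hsfix])
    rw [show (fun l => ι ((Pi.single j 1 + Pi.single i₀ 1 : V) l)) =
      (fun l => ι ((Pi.single j 1 : V) l)) + fun l => ι ((Pi.single i₀ 1 : V) l) from funext fun l => map_add ι _ _,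
      mulVec_add, ha _ (hs1 j) (hsfix j), ha _ (hs1 i₀) (hsfix i₀), hsmap, hsmap] at h1
    have e1 := congrFun h1 j
    have e3 := congrFun h1 i₀
    simp [hij, hij.symm] at e1 e3
    exact e1.trans e3.symm
  have hBs : B = Matrix.scalar (Fin m ⊕ Fin m) β := by
    ext i j
    rw [hcol, Matrix.scalar_apply, Matrix.diagonal_apply]
    split_ifs with h
    · exact heq j
    · rfl
  have hβ0 : β ≠ 0 := fun h0 => by
    haveI : Nonempty (Fin m ⊕ Fin m) := ⟨i₀⟩
    have h1 : B = 0 := by rw [hBs, h0, map_zero]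
    exact not_isUnit_zero ((congrArg IsUnit h1).mp b.isUnit)
  have hτ : ∀ c, ι' c = ι c := by
    intro c
    set v' : Fin m ⊕ Fin m → L := Pi.single i₀ 1
    have hv' : v' ≠ 0 := by simp [v']
    obtain ⟨y, -, hy⟩ := exists_f_ne (mem_W_zero v') hv'
    have hy' : sympForm m L y v' ≠ 0 := by rw [f_swap]; exact neg_ne_zero.2 hy
    have h1 := hrel (Pi.single i₀ 1) c (hsfix i₀) y
    have hmv : ∀ x : Fin m ⊕ Fin m → L, B *ᵥ x = β • x := fun x => by
      funext l
      rw [hBs, Matrix.scalar_apply, mulVec_diagonal]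
      rfl
    rw [hsmap, hmv, hmv, f_smul_left, smul_smul] at h1
    have h3 := smul_left_injective L hv' h1
    exact mul_right_cancel₀ (mul_ne_zero hy' hβ0) (by linear_combination h3)
  refine ⟨?_, RingHom.ext hτ⟩
  have : b = GeneralLinearGroup.scalar (Fin m ⊕ Fin m) (Units.mk0 β hβ0) := Units.ext hBs
  rw [this, Subgroup.mem_center_iff]
  intro x
  apply Units.ext
  rw [Units.val_mul, Units.val_mul]
  exact ((Matrix.scalar_commute β (Commute.all β) _).symm).eq

variable (p : ℕ) [Fact p.Prime] [CharP F p]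

include p

include h2 hm in
/-- No odd-order normal subgroup in the fixed points. -/
theorem oddCore_symp [Finite F] (hn : 2 ≤ n) : oddCore (1 : F ≃+* F) (jn (F := F) e) = ⊥ := by
  set C := oddCore (1 : F ≃+* F) (jn (F := F) e)
  let f : G →* PSL(n, F) := mkP.comp (toSL h2 hm e)
  have hdelta : ∀ g : G, ∀ k ∈ C, f g * k * (f g)⁻¹ ∈ C := fun g k hk => by
    have h1 := delta_mem_oddCore (toSL_sim h2 hm e g) hk
    rwa [delta_toGL, MulAut.conj_apply] at h1
  obtain ⟨hJ, hJJ⟩ := mkP_symJ h2 hm e p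
  refine (Subgroup.eq_bot_iff_forall _).2 fun k hk => ?_
  obtain ⟨S, rfl⟩ := mkP_surjective k
  obtain ⟨c, hc⟩ := sim_of_fixed p hn (oddCore_fixed hk)
  set S₀ : Matrix (Fin m ⊕ Fin m) (Fin m ⊕ Fin m) F := (S : Matrix (Fin n) (Fin n) F).submatrix e e with hS₀
  have hform : ∀ u v : V, sympForm m F (S₀ *ᵥ u) (S₀ *ᵥ v) = (c : F) * sympForm m F u v := (sim_iff_symp e).1 hc
  have hSe : (S : Matrix (Fin n) (Fin n) F) = S₀.submatrix e.symm e.symm := by simp [S₀, submatrix_submatrix]
  obtain ⟨a, ha⟩ := scalar_of_odd h2 hm f C hdelta (fun k hk => eq_one_of_sq hk) hJ hJJ (S₀ := S₀) (c := (c : F))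
    fun v _ => by
      set u := S₀ *ᵥ v
      -- the commutator with a transvection is again one
      have hconj : S * toSL h2 hm e (T v 1) = toSL h2 hm e (T u (c : F)⁻¹) * S := by
        refine Subtype.ext ?_
        show (S : Matrix (Fin n) (Fin n) F) * (sympTransvection m v 1).submatrix e.symm e.symm =
          (sympTransvection m u (c : F)⁻¹).submatrix e.symm e.symm * (S : Matrix (Fin n) (Fin n) F)
        rw [hSe, submatrix_mul_equiv, submatrix_mul_equiv]
        refine congrArg (fun A : Matrix (Fin m ⊕ Fin m) (Fin m ⊕ Fin m) F => A.submatrix e.symm e.symm) (Matrix.ext_iff_mulVec.2 fun x => ?_)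
        rw [← mulVec_mulVec, ← mulVec_mulVec, transvection_mulVec, transvection_mulVec, mulVec_add, mulVec_smul, hform,
          one_mul, ← mul_assoc, inv_mul_cancel₀ c.ne_zero, one_mul]
      show f (T (S₀ *ᵥ v) (c : F)⁻¹ * (T v (1 : F))⁻¹) ∈ C
      have h1 := C.mul_mem hk (hdelta (T v 1) _ (C.inv_mem hk))
      rw [map_mul, map_inv]
      refine (congrArg (· ∈ C) ?_).mpr h1
      have h3 := congrArg mkP hconj
      rw [map_mul, map_mul] at h3
      show mkP (toSL h2 hm e (T u (c : F)⁻¹)) * (mkP (toSL h2 hm e (T v 1)))⁻¹ =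
        mkP S * (mkP (toSL h2 hm e (T v 1)) * (mkP S)⁻¹ * (mkP (toSL h2 hm e (T v 1)))⁻¹)
      rw [← mul_assoc, ← mul_assoc, h3, mul_inv_cancel_right]
  have hS : (S : Matrix (Fin n) (Fin n) F) = Matrix.scalar (Fin n) a := by
    rw [hSe, ha, Matrix.scalar_apply, Matrix.scalar_apply, submatrix_diagonal_equiv]
    rfl
  refine (QuotientGroup.eq_one_iff _).2 (Matrix.SpecialLinearGroup.mem_center_iff.2 ⟨_, ?_, hS.symm⟩)
  have h1 := S.det_coe
  rw [hS] at h1
  simpa [Matrix.det_diagonal] using h1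

include h2 hm in
/-- Only trivial products `b τ` fix the fixed points. -/
theorem cent_symp [Finite F] (hn : 2 ≤ n) (b : GL (Fin n) F) (τ : F ≃+* F)
    (h : ∀ k, gt (1 : F ≃+* F) (jn (F := F) e) k = k → (delta b * fieldAut τ : MulAut PSL(n, F)) k = k) :
    (delta b * fieldAut τ : MulAut PSL(n, F)) = 1 := by
  obtain ⟨b', rfl⟩ := (reGL e).surjective b
  obtain ⟨hbc, hτ⟩ := symp_scalar_of_rel hm p (RingHom.id F) τ.toRingHom b' fun g => by
    obtain ⟨l, hl⟩ := exists_rel p (h _ (fixed_of_sim p hn (toSL_sim h2 hm e g)))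
    refine ⟨l, ?_⟩
    rw [reGL_coe, toSL_coe, ← submatrix_map, submatrix_mul_equiv, submatrix_mul_equiv] at hl
    ext i j
    simpa using congrFun (congrFun hl (e i)) (e j)
  have hc : reGL e b' ∈ Subgroup.center (GL (Fin n) F) := Subgroup.mem_center_iff.2 fun x => by
    obtain ⟨x', rfl⟩ := (reGL e).surjective x
    rw [← map_mul, ← map_mul, Subgroup.mem_center_iff.1 hbc x']
  rw [delta_eq_one_of_mem_center hc, show τ = 1 from RingEquiv.ext fun x => RingHom.congr_fun hτ x, map_one, one_mul]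

include h2 hm in
/-- Readiness for the symplectic form. -/
theorem ready_symp [Finite F] (hn : 2 ≤ n) (hord : orderOf (gt (1 : F ≃+* F) (jn (F := F) e)) = 2) :
    Ready (gt (1 : F ≃+* F) (jn (F := F) e)) := by
  obtain ⟨hJ, hJJ⟩ := mkP_symJ h2 hm e p
  exact ready_gt p hn hord ⟨_, hJ, hJJ, fixed_of_sim p hn (toSL_sim h2 hm e _)⟩ (oddCore_symp h2 hm e p hn)
    (cent_symp h2 hm e p hn)

end CfsgLib.AutPSL.LocalBal
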