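import Cfsg.Agent.Lib.AutPSL.GraphModels

set_option autoImplicit false

/-!
The similitude groups of the symmetric matrices in characteristic two.
-/

namespace CfsgLib.AutPSL.Models

open Matrix

variable {F : Type*} [Field F] [CharP F 2] {m : ℕ}

/-- The diagonal form of a symmetric matrix is semilinear. -/
theorem quad_diag {ι : Type} [Fintype ι] [DecidableEq ι] {N : Matrix ι ι F} (hN : Nᵀ = N)
    (v : ι → F) : v ⬝ᵥ (N *ᵥ v) = ∑ r, v r ^ 2 * N r r := by
  let q : (ι → F) →+ F := AddMonoidHom.mk' (fun v => v ⬝ᵥ (N *ᵥ v)) fun u v => by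
    simp only [mulVec_add, dotProduct_add, add_dotProduct, Congr.dot_comm hN v u]
    linear_combination (u ⬝ᵥ (N *ᵥ v)) * CharTwo.two_eq_zero (R := F)
  have h := map_sum q (fun r => Pi.single r (v r)) Finset.univ
  rw [Finset.univ_sum_single] at h
  simp only [q, AddMonoidHom.mk'_apply] at h
  rw [h]
  refine Finset.sum_congr rfl fun r _ => ?_
  simp [mul_comm, pow_two, mul_left_comm]

theorem row_of_isometry {ι : Type} [Fintype ι] [DecidableEq ι] {N k : Matrix ι ι F} (hN : Nᵀ = N)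
    (i : ι) (hd : ∀ r, N r r = if r = i then 1 else 0) (hk : kᵀ * N * k = N) (j : ι) :
    k i j = if i = j then 1 else 0 := by
  have h := congrFun (congrFun hk j) j
  have e : (kᵀ * N * k) j j = (fun r => k r j) ⬝ᵥ (N *ᵥ fun r => k r j) := by
    rw [Matrix.mul_assoc, Matrix.mul_apply']
    rfl
  rw [e, quad_diag hN, hd] at h
  simp only [hd, mul_ite, mul_one, mul_zero, Finset.sum_ite_eq', Finset.mem_univ, if_true] at h
  by_cases hij : i = j
  · subst hij
    rw [if_pos rfl] at h ⊢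
    have : (k i i - 1) ^ 2 = 0 := by
      rw [CharTwo.sub_eq_add, CharTwo.add_sq, h, one_pow, CharTwo.add_self_eq_zero]
    exact sub_eq_zero.1 (sq_eq_zero_iff.1 this)
  · rw [if_neg hij]
    rw [if_neg (Ne.symm hij)] at h
    exact sq_eq_zero_iff.1 h

theorem oddN_transpose : (oddN m F)ᵀ = oddN m F := by
  rw [oddN, fromBlocks_transpose, J_symm, transpose_zero, transpose_zero, transpose_one]

theorem det_oddN : (oddN m F).det ≠ 0 := by
  rw [oddN, det_fromBlocks_zero₁₂, det_one, one_mul]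
  exact (isUnit_det_J _ _).ne_zero

theorem oddN_diag (r : Unit ⊕ (Fin m ⊕ Fin m)) :
    oddN m F r r = if r = .inl () then 1 else 0 := by
  rcases r with ⟨⟩ | r | r <;> simp [oddN, Matrix.J]

theorem oddN_ne : oddN m F ≠ 0 := fun h => det_oddN (F := F) (m := m) (by rw [h]; simp)

/-- The symplectic group inside the general linear group. -/
noncomputable def spHom (m : ℕ) (F : Type*) [Field F] :
    Matrix.symplecticGroup (Fin m) F →* GL (Fin m ⊕ Fin m) F :=
  (Submonoid.subtype _).toHomUnits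

theorem spHom_coe (A : Matrix.symplecticGroup (Fin m) F) :
    (spHom m F A : Matrix (Fin m ⊕ Fin m) (Fin m ⊕ Fin m) F) = A := rfl

/-- `A ↦ 1 ⊕ A`. -/
noncomputable def oddHom (m : ℕ) (F : Type*) [Field F] :
    Matrix.symplecticGroup (Fin m) F →* GL (Unit ⊕ (Fin m ⊕ Fin m)) F :=
  MonoidHom.toHomUnits
    { toFun := fun A => Matrix.fromBlocks 1 0 0 (A : Matrix (Fin m ⊕ Fin m) (Fin m ⊕ Fin m) F)
      map_one' := by simp
      map_mul' := fun A B => by simp [fromBlocks_multiply] }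

theorem oddHom_coe (A : Matrix.symplecticGroup (Fin m) F) :
    (oddHom m F A : Matrix (Unit ⊕ (Fin m ⊕ Fin m)) (Unit ⊕ (Fin m ⊕ Fin m)) F) =
      Matrix.fromBlocks 1 0 0 (A : Matrix (Fin m ⊕ Fin m) (Fin m ⊕ Fin m) F) := rfl

theorem oddHom_isometry (A : Matrix.symplecticGroup (Fin m) F) :
    (oddHom m F A : Matrix (Unit ⊕ (Fin m ⊕ Fin m)) (Unit ⊕ (Fin m ⊕ Fin m)) F)ᵀ * oddN m F *
      (oddHom m F A : Matrix (Unit ⊕ (Fin m ⊕ Fin m)) (Unit ⊕ (Fin m ⊕ Fin m)) F) = oddN m F := by
  rw [oddHom_coe, oddN, fromBlocks_transpose, fromBlocks_multiply, fromBlocks_multiply]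
  simp [SymplecticGroup.mem_iff'.1 A.2]

variable [Finite F]

/-- Similitudes of `1 ⊕ J` modulo scalars. -/
theorem equiv_oddN (H : Subgroup (GL (Unit ⊕ (Fin m ⊕ Fin m)) F))
    (hH : ∀ h : GL (Unit ⊕ (Fin m ⊕ Fin m)) F, h ∈ H ↔ ∃ c : Fˣ,
      (h : Matrix (Unit ⊕ (Fin m ⊕ Fin m)) (Unit ⊕ (Fin m ⊕ Fin m)) F)ᵀ * oddN m F * h =
        (c : F) • oddN m F) :
    Nonempty (Cfsg.projQuot H ≃* Matrix.symplecticGroup (Fin m) F) := by
  refine projQuot_equiv H (oddHom m F) (fun A => (hH _).2 ⟨1, by rw [oddHom_isometry]; simp⟩)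
    (fun A hA => ?_) fun h hh => ?_
  · have h1 := eq_one_of_scalar oddN_ne (oddHom_isometry A) hA
    apply Subtype.ext
    have h2 := congrArg (fun g : GL (Unit ⊕ (Fin m ⊕ Fin m)) F =>
      (g : Matrix (Unit ⊕ (Fin m ⊕ Fin m)) (Unit ⊕ (Fin m ⊕ Fin m)) F).toBlocks₂₂) h1
    simp only [oddHom_coe, toBlocks_fromBlocks₂₂, Units.val_one] at h2
    rw [h2, ← fromBlocks_one, toBlocks_fromBlocks₂₂]
    rfl
  · obtain ⟨c, hc⟩ := (hH h).1 hh
    obtain ⟨d, k, rfl, hk⟩ := isometry_part hc
    set K : Matrix (Unit ⊕ (Fin m ⊕ Fin m)) (Unit ⊕ (Fin m ⊕ Fin m)) F := ↑k with hK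
    have hrow := row_of_isometry oddN_transpose (.inl ()) oddN_diag hk
    have h11 : K.toBlocks₁₁ = 1 := by
      ext ⟨⟩ ⟨⟩
      simpa [Matrix.toBlocks₁₁] using hrow (.inl ())
    have h12 : K.toBlocks₁₂ = 0 := by
      ext ⟨⟩ j
      simpa [Matrix.toBlocks₁₂] using hrow (.inr j)
    have e : K = Matrix.fromBlocks 1 0 K.toBlocks₂₁ K.toBlocks₂₂ := by
      conv_lhs => rw [← fromBlocks_toBlocks K, h11, h12]
    rw [e, oddN, fromBlocks_transpose, fromBlocks_multiply, fromBlocks_multiply,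
      fromBlocks_inj] at hk
    obtain ⟨-, h2, -, h4⟩ := hk
    simp only [transpose_zero, transpose_one, Matrix.zero_mul, Matrix.mul_zero, Matrix.one_mul,
      Matrix.mul_one, add_zero, zero_add] at h2 h4
    have hmem : K.toBlocks₂₂ ∈ Matrix.symplecticGroup (Fin m) F := SymplecticGroup.mem_iff'.2 h4
    have hu : IsUnit (Matrix.J (Fin m) F * K.toBlocks₂₂).det := by
      rw [det_mul, SymplecticGroup.det_eq_one hmem, mul_one]
      exact isUnit_det_J _ _
    have h21 : K.toBlocks₂₁ = 0 := by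
      have h5 := congrArg (fun X => X * (Matrix.J (Fin m) F * K.toBlocks₂₂)⁻¹) h2
      simp only [Matrix.zero_mul, Matrix.mul_assoc] at h5
      rw [← Matrix.mul_assoc (Matrix.J (Fin m) F), Matrix.mul_nonsing_inv _ hu, Matrix.mul_one] at h5
      exact transpose_eq_zero.1 h5
    refine ⟨d, ⟨_, hmem⟩, ?_⟩
    congr 1
    apply Units.ext
    rw [oddHom_coe]
    show K = _
    conv_lhs => rw [e, h21]

/-- The projective orthogonal group in odd dimension and characteristic two. -/
theorem equiv_PGO_odd :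
    Nonempty (Cfsg.PGO F (Cfsg.quadFormOdd m F) ≃* Matrix.symplecticGroup (Fin m) F) := by
  cases nonempty_fintype F
  obtain ⟨e⟩ := CfsgLib.Classical.OddEven.equiv_symplectic (F := F) m
  refine ⟨(Nonempty.some (projQuot_equiv (Cfsg.Geo.quadSimilarityGroup (F := F) (Cfsg.quadFormOdd m F))
    (Cfsg.isometryGroup F (Cfsg.quadFormOdd m F)).subtype
    (fun k => ⟨1, fun v => by
      rw [Units.val_one, one_mul]
      exact k.2 v v⟩)
    (fun k hk => ?_) (fun h hh => ?_))).trans e⟩
  · obtain ⟨s, hs⟩ := (Cfsg.Geo.mem_scalars_iff _).1 hk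
    have h1 := k.2 (Pi.single (.inl ()) 1) (Pi.single (.inl ()) 1)
    change Cfsg.quadFormOdd m F (((k.1 : GL (Unit ⊕ (Fin m ⊕ Fin m)) F) :
      Matrix (Unit ⊕ (Fin m ⊕ Fin m)) (Unit ⊕ (Fin m ⊕ Fin m)) F) *ᵥ _) = _ at h1
    rw [show ((k.1 : GL (Unit ⊕ (Fin m ⊕ Fin m)) F) :
      Matrix (Unit ⊕ (Fin m ⊕ Fin m)) (Unit ⊕ (Fin m ⊕ Fin m)) F) = (s : F) • 1 from hs] at h1
    simp [Cfsg.quadFormOdd, smul_mulVec, Pi.single_apply] at h1
    have hs1 : s = 1 := eq_one_of_sq (Units.ext (by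
      rw [Units.val_pow_eq_pow_val, Units.val_one]
      rcases h1 with h1 | h1 <;> simp [h1]))
    refine Subtype.ext (Units.ext ?_)
    rw [OneMemClass.coe_one, Units.val_one]
    exact hs.trans (by rw [hs1, Units.val_one, one_smul])
  · obtain ⟨c, hc⟩ := hh
    obtain ⟨d, rfl⟩ := exists_sqrt c
    refine ⟨d, ⟨GeneralLinearGroup.scalar _ d⁻¹ * h, fun v _ => ?_⟩, ?_⟩
    · show Cfsg.quadFormOdd m F ((((GeneralLinearGroup.scalar _ d⁻¹ * h :
          GL (Unit ⊕ (Fin m ⊕ Fin m)) F)) : Matrix _ _ F) *ᵥ v) = _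
      rw [Units.val_mul, coe_scalar, smul_mul, one_mul, smul_mulVec]
      have hq : ∀ (s : F) (w : Unit ⊕ (Fin m ⊕ Fin m) → F),
          Cfsg.quadFormOdd m F (s • w) = s ^ 2 * Cfsg.quadFormOdd m F w := fun s w => by
        simp only [Cfsg.quadFormOdd, Pi.smul_apply, smul_eq_mul, mul_add, Finset.mul_sum, mul_pow]
        congr 1
        exact Finset.sum_congr rfl fun i _ => by ring
      rw [hq, hc, Units.val_pow_eq_pow_val, ← mul_assoc, ← mul_pow, ← Units.val_mul, inv_mul_cancel]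
      simp
    · show h = _ * (_ * h)
      rw [← mul_assoc, ← map_mul, mul_inv_cancel, map_one, one_mul]

/-! ### The even-dimensional model -/

omit [Finite F] in
theorem evenN_transpose (i : Fin m) : (evenN m F i)ᵀ = evenN m F i := by
  rw [evenN, transpose_add, J_symm, evenE, transpose_single]

omit [Finite F] in
theorem evenN_diag (i : Fin m) (r : Fin m ⊕ Fin m) :
    evenN m F i r r = if r = .inl i then 1 else 0 := by
  rcases r with r | r <;> simp [evenN, evenE, Matrix.J, Matrix.single_apply, eq_comm]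

omit [Finite F] in
theorem EJE (i : Fin m) :
    evenE m F i * Matrix.J (Fin m) F * evenE m F i = 0 := by
  rw [evenE, single_mul_mul_single]
  simp [Matrix.J]

omit [Finite F] in
theorem add_self_matrix {ι : Type} (X : Matrix ι ι F) : X + X = 0 :=
  Matrix.ext fun _ _ => CharTwo.add_self_eq_zero _

omit [Finite F] in
theorem transvection_mem (i : Fin m) :
    1 + Matrix.J (Fin m) F * evenE m F i ∈ Matrix.symplecticGroup (Fin m) F := by
  have hE : (evenE m F i)ᵀ = evenE m F i := by rw [evenE, transpose_single]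
  rw [SymplecticGroup.mem_iff', transpose_add, transpose_one, transpose_mul, J_symm, hE]
  calc _ = Matrix.J (Fin m) F + (Matrix.J (Fin m) F * Matrix.J (Fin m) F) * evenE m F i +
        (evenE m F i * (Matrix.J (Fin m) F * Matrix.J (Fin m) F) +
          evenE m F i * (Matrix.J (Fin m) F * Matrix.J (Fin m) F) * Matrix.J (Fin m) F * evenE m F i) := by
        noncomm_ring
    _ = _ := by
        rw [J_sq, one_mul, mul_one, EJE, add_zero, add_assoc, add_self_matrix, add_zero]

/-- The transvection. -/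
def transvec (i : Fin m) : Matrix.symplecticGroup (Fin m) F :=
  ⟨1 + Matrix.J (Fin m) F * evenE m F i, transvection_mem i⟩

omit [Finite F] in
theorem isTransvection (i : Fin m) :
    Cfsg.IsTransvection (transvec (F := F) i : Matrix (Fin m ⊕ Fin m) (Fin m ⊕ Fin m) F) := by
  classical
  refine ⟨?_, ?_⟩
  · show (1 + Matrix.J (Fin m) F * evenE m F i - 1).rank = 1
    rw [add_sub_cancel_left, Matrix.rank_mul_eq_right_of_isUnit_det _ _ (isUnit_det_J _ _), evenE,
      ← Matrix.diagonal_single, Matrix.rank_diagonal, Fintype.card_eq_one_iff]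
    exact ⟨⟨.inl i, by simp⟩, fun ⟨x, hx⟩ => Subtype.ext (by
      by_contra h
      exact hx (Pi.single_eq_of_ne h 1))⟩
  · show (1 + Matrix.J (Fin m) F * evenE m F i - 1) * (1 + Matrix.J (Fin m) F * evenE m F i - 1) = 0
    rw [add_sub_cancel_left, Matrix.mul_assoc, ← Matrix.mul_assoc (evenE m F i), EJE, Matrix.mul_zero]

omit [Finite F] in
theorem det_evenN (i : Fin m) : (evenN m F i).det ≠ 0 := by
  have e : evenN m F i = Matrix.J (Fin m) F * (1 + Matrix.J (Fin m) F * evenE m F i) := by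
    rw [evenN, mul_add, mul_one, ← Matrix.mul_assoc, J_sq, one_mul]
  rw [e, det_mul, SymplecticGroup.det_eq_one (transvection_mem i), mul_one]
  exact (isUnit_det_J _ _).ne_zero

/-- Similitudes of `J + E` modulo scalars. -/
theorem equiv_evenN (i : Fin m) (H : Subgroup (GL (Fin m ⊕ Fin m) F))
    (hH : ∀ h : GL (Fin m ⊕ Fin m) F, h ∈ H ↔ ∃ c : Fˣ,
      (h : Matrix (Fin m ⊕ Fin m) (Fin m ⊕ Fin m) F)ᵀ * evenN m F i * h = (c : F) • evenN m F i) :
    Nonempty (Cfsg.projQuot H ≃*
      ↥(Subgroup.centralizer ({transvec (F := F) i} : Set (Matrix.symplecticGroup (Fin m) F)))) := by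
  set J := Matrix.J (Fin m) F with hJ
  set E := evenE m F i with hE
  have hJJ : J * J = 1 := J_sq m
  have hET : Eᵀ = E := by rw [hE, evenE, transpose_single]
  have hiso : ∀ A : Subgroup.centralizer ({transvec (F := F) i} : Set (Matrix.symplecticGroup (Fin m) F)),
      (spHom m F A : Matrix (Fin m ⊕ Fin m) (Fin m ⊕ Fin m) F)ᵀ * evenN m F i *
        (spHom m F A : Matrix (Fin m ⊕ Fin m) (Fin m ⊕ Fin m) F) = evenN m F i := by
    intro A
    set a : Matrix (Fin m ⊕ Fin m) (Fin m ⊕ Fin m) F := ↑A.1 with ha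
    show aᵀ * (J + E) * a = J + E
    have hc : (1 + J * E) * a = a * (1 + J * E) :=
      congrArg Subtype.val (Subgroup.mem_centralizer_iff.1 A.2 _ rfl)
    have hc' : J * E * a = a * (J * E) := by
      rw [add_mul, one_mul, mul_add, mul_one] at hc
      exact add_left_cancel hc
    have hs : aᵀ * J * a = J := SymplecticGroup.mem_iff'.1 A.1.2
    have he : aᵀ * E * a = E := by
      calc aᵀ * E * a = aᵀ * (J * J * E) * a := by rw [hJJ, one_mul]
        _ = aᵀ * J * (J * E * a) := by noncomm_ring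
        _ = (aᵀ * J * a) * (J * E) := by rw [hc']; noncomm_ring
        _ = _ := by rw [hs, ← Matrix.mul_assoc, hJJ, one_mul]
    rw [Matrix.mul_add, Matrix.add_mul, hs, he]
  haveI : Nonempty (Fin m ⊕ Fin m) := ⟨.inl i⟩
  refine projQuot_equiv H ((spHom m F).comp (Subgroup.subtype _)) (fun A => (hH _).2 ⟨1, ?_⟩)
    (fun A hA => ?_) fun h hh => ?_
  · rw [Units.val_one, one_smul]
    exact hiso A
  · have h1 := eq_one_of_scalar (fun h => det_evenN (F := F) i (by
      rw [h]; exact det_zero)) (hiso A) hA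
    exact Subtype.ext (Subtype.ext (congrArg Units.val h1))
  · obtain ⟨c, hc⟩ := (hH h).1 hh
    obtain ⟨d, k, rfl, hk⟩ := isometry_part hc
    set K : Matrix (Fin m ⊕ Fin m) (Fin m ⊕ Fin m) F := ↑k with hK
    have hrow := row_of_isometry (evenN_transpose i) (.inl i) (evenN_diag i) hk
    have hEK : E * K = E := by
      ext r s
      by_cases hr : r = .inl i
      · subst hr
        rw [hE, evenE, single_mul_apply_same, one_mul, hrow, Matrix.single_apply]
        simp
      · rw [hE, evenE, single_mul_apply_of_ne _ _ _ _ _ hr, Matrix.single_apply]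
        simp [Ne.symm hr]
    have hKE : Kᵀ * E * K = E := by
      rw [Matrix.mul_assoc, hEK]
      conv_lhs => rw [← hET, ← transpose_mul, hEK, hET]
    have hs : Kᵀ * J * K = J := by
      have := hk
      rw [evenN, ← hJ, ← hE, Matrix.mul_add, Matrix.add_mul, hKE] at this
      exact add_right_cancel this
    have hmem : K ∈ Matrix.symplecticGroup (Fin m) F := SymplecticGroup.mem_iff'.2 hs
    have hs' : K * J * Kᵀ = J := SymplecticGroup.mem_iff.1 hmem
    have hKtE : Kᵀ * E = E := by rw [← hET, ← transpose_mul, hEK]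
    have hcomm : J * E * K = K * (J * E) := by
      rw [Matrix.mul_assoc, hEK]
      calc J * E = (K * J * Kᵀ) * E := by rw [hs']
        _ = K * J * (Kᵀ * E) := by noncomm_ring
        _ = _ := by rw [hKtE, Matrix.mul_assoc]
    refine ⟨d, ⟨⟨K, hmem⟩, Subgroup.mem_centralizer_iff.2 fun y hy => ?_⟩, ?_⟩
    · rw [Set.mem_singleton_iff] at hy
      subst hy
      exact Subtype.ext (show (1 + J * E) * K = K * (1 + J * E) by
        rw [add_mul, mul_add, one_mul, mul_one, hcomm])
    · congr 1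
      exact Units.ext rfl

end CfsgLib.AutPSL.Models
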