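import Cfsg.Agent.Lib.AutPSL.GraphClass
import Cfsg.Agent.Lib.AutPSL.GraphModelsTwo
import Cfsg.Agent.Lib.Classical.OrthOrderStd
import Cfsg.Agent.Lib.Classical.SympOrder

set_option autoImplicit false

/-!
The classes of involutory graph automorphisms of `PSL_n(F)`.
-/

namespace CfsgLib.AutPSL.Graph

open Matrix Models
open scoped MatrixGroups

variable {F : Type*} [Field F]

section congr

variable {ι : Type} [Fintype ι] [DecidableEq ι]

theorem Cong.of_eq {M M' : Matrix ι ι F} {a : GL ι F}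
    (h : (a : Matrix ι ι F)ᵀ * M * (a : Matrix ι ι F) = M') : Cong M M' :=
  ⟨a, 1, by rw [h, Units.val_one, one_smul]⟩

theorem Cong.symm' {M M' : Matrix ι ι F} (h : Cong M M') : Cong M' M := by
  obtain ⟨a, c, rfl⟩ := h
  refine ⟨a⁻¹, c⁻¹, ?_⟩
  have h1 : (a : Matrix ι ι F) * ((a⁻¹ : GL ι F) : Matrix ι ι F) = 1 := a.mul_inv
  rw [Matrix.mul_smul, Matrix.smul_mul, smul_smul, Units.inv_mul, one_smul]
  symm
  calc _ = ((a : Matrix ι ι F) * ((a⁻¹ : GL ι F) : Matrix ι ι F))ᵀ * M *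
        ((a : Matrix ι ι F) * ((a⁻¹ : GL ι F) : Matrix ι ι F)) := by
        rw [transpose_mul]; noncomm_ring
    _ = M := by rw [h1, transpose_one, one_mul, mul_one]

theorem Cong.trans' {M M' M'' : Matrix ι ι F} (h : Cong M M') (h' : Cong M' M'') : Cong M M'' := by
  obtain ⟨a, c, rfl⟩ := h
  obtain ⟨b, d, rfl⟩ := h'
  refine ⟨a * b, d * c, ?_⟩
  simp only [Units.val_mul, transpose_mul, Matrix.mul_smul, Matrix.smul_mul, smul_smul, Matrix.mul_assoc]

theorem Cong.det_sq {M M' : Matrix ι ι F} (hev : Even (Fintype.card ι)) (h : Cong M M') :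
    IsSquare (M.det * M'.det) := by
  obtain ⟨a, c, rfl⟩ := h
  obtain ⟨k, hk⟩ := hev
  refine ⟨(c : F) ^ k * (a : Matrix ι ι F).det * M.det, ?_⟩
  rw [det_smul, det_mul, det_mul, det_transpose, hk, pow_add]
  ring

theorem cong_reindex {κ : Type} [Fintype κ] [DecidableEq κ] {A : Matrix κ κ F} (hA : A.det ≠ 0)
    (e₁ e₂ : ι ≃ κ) : Cong (A.submatrix e₁ e₁) (A.submatrix e₂ e₂) := by
  obtain ⟨a, ha⟩ := Congr.exists_congr_of_family (M := A.submatrix e₁ e₁) hA
    (fun k => Pi.single (e₁.symm k) (1 : F)) (fun i j => by simp) e₂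
  exact Cong.of_eq ha

/-- An invertible matrix. -/
def mkGL (A : Matrix ι ι F) (h : A.det ≠ 0) : GL ι F := GeneralLinearGroup.mkOfDetNeZero A h

@[simp] theorem mkGL_coe (A : Matrix ι ι F) (h : A.det ≠ 0) : (mkGL A h : Matrix ι ι F) = A := rfl

theorem reGL_transpose {n : ℕ} (e : ι ≃ Fin n) {g : GL ι F}
    (h : (g : Matrix ι ι F)ᵀ = g) :
    (reGL e g : Matrix (Fin n) (Fin n) F)ᵀ = reGL e g := by
  rw [reGL_coe, transpose_submatrix, h]

theorem reGL_det {n : ℕ} (e : ι ≃ Fin n) (g : GL ι F) :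
    (reGL e g : Matrix (Fin n) (Fin n) F).det = (g : Matrix ι ι F).det := by
  rw [reGL_coe, det_submatrix_equiv_self]

end congr

variable {n : ℕ}

theorem det_ne (M : GL (Fin n) F) : (M : Matrix (Fin n) (Fin n) F).det ≠ 0 := by
  have := (GeneralLinearGroup.det M).ne_zero
  rwa [GeneralLinearGroup.val_det_apply] at this

theorem not_sym_and_alt (h2 : (2 : F) ≠ 0) {M : Matrix (Fin n) (Fin n) F} (hn : 0 < n)
    (hd : M.det ≠ 0) (h : Mᵀ = M) : Mᵀ ≠ -M := by
  intro h'
  rw [h] at h'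
  haveI : Nonempty (Fin n) := ⟨⟨0, hn⟩⟩
  have : (2 : F) • M = 0 := by rw [two_smul]; nth_rewrite 2 [h']; exact add_neg_cancel M
  exact hd (by rw [(smul_eq_zero.1 this).resolve_left h2]; exact det_zero)

theorem alt_quad (h2 : (2 : F) ≠ 0) {M : Matrix (Fin n) (Fin n) F} (h : Mᵀ = -M)
    (v : Fin n → F) : v ⬝ᵥ (M *ᵥ v) = 0 := by
  have h1 : v ⬝ᵥ (M *ᵥ v) = -(v ⬝ᵥ (M *ᵥ v)) := by
    conv_lhs => rw [dotProduct_mulVec, ← mulVec_transpose, h, neg_mulVec, neg_dotProduct, dotProduct_comm]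
  have h3 : (2 : F) * (v ⬝ᵥ (M *ᵥ v)) = 0 := by linear_combination h1
  exact (mul_eq_zero.1 h3).resolve_left h2

/-- Alternating forms. -/
theorem cong_J {m : ℕ} (e : Fin m ⊕ Fin m ≃ Fin n) {M : Matrix (Fin n) (Fin n) F}
    (hA : ∀ v : Fin n → F, v ⬝ᵥ (M *ᵥ v) = 0) (hd : M.det ≠ 0) :
    Cong (reGL e (jGL m F) : Matrix (Fin n) (Fin n) F) M := by
  obtain ⟨m', e', a, ha⟩ := Congr.exists_congr_alt hA hd
  obtain rfl : m' = m := by
    have := Fintype.card_congr (e.trans e')
    simp only [Fintype.card_sum, Fintype.card_fin] at this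
    omega
  rw [reGL_coe, jGL_coe]
  exact (cong_reindex (isUnit_det_J _ _).ne_zero e.symm e').trans' (Cong.of_eq ha).symm'

theorem even_of_alt {M : Matrix (Fin n) (Fin n) F}
    (hA : ∀ v : Fin n → F, v ⬝ᵥ (M *ᵥ v) = 0) (hd : M.det ≠ 0) : Even n := by
  obtain ⟨m', e', -⟩ := Congr.exists_congr_alt hA hd
  have := Fintype.card_congr e'
  simp only [Fintype.card_sum, Fintype.card_fin] at this
  exact ⟨m', this⟩

theorem cong_sym [Finite F] (h2 : (2 : F) ≠ 0) {M M' : Matrix (Fin n) (Fin n) F}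
    (hM : Mᵀ = M) (hM' : M'ᵀ = M') (hd : M.det ≠ 0) (hd' : M'.det ≠ 0)
    (hsq : IsSquare (M.det * M'.det)) : Cong M M' :=
  Cong.of_eq (Congr.exists_congr_sym h2 hM hM' hd hd' hsq).choose_spec

theorem cong_sym_odd [Finite F] (h2 : (2 : F) ≠ 0) {M M' : Matrix (Fin n) (Fin n) F} (hn : Odd n)
    (hM : Mᵀ = M) (hM' : M'ᵀ = M') (hd : M.det ≠ 0) (hd' : M'.det ≠ 0) : Cong M M' := by
  obtain ⟨k, hk⟩ := hn
  set c : Fˣ := Units.mk0 (M.det * M'.det) (mul_ne_zero hd hd') with hc
  have h1 : Cong M ((c : F) • M) := ⟨1, c, by simp⟩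
  refine h1.trans' (cong_sym h2 (by rw [transpose_smul, hM]) hM' ?_ hd' ?_)
  · rw [det_smul]; exact mul_ne_zero (pow_ne_zero _ c.ne_zero) hd
  · refine ⟨(c : F) ^ (k + 1), ?_⟩
    have hp : (c : F) ^ n = (c : F) ^ (2 * k + 1) := by rw [hk]
    have hv : (c : F) = M.det * M'.det := rfl
    rw [det_smul, Fintype.card_fin, hp, hv]
    ring

/-- The automorphism of order two attached to a symmetric or alternating matrix. -/
theorem gm_spec (p : ℕ) [Fact p.Prime] [CharP F p] [Finite F] (hn : 3 ≤ n) (M : GL (Fin n) F)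
    (hM : (M : Matrix (Fin n) (Fin n) F)ᵀ = M ∨
      (M : Matrix (Fin n) (Fin n) F)ᵀ = -(M : Matrix (Fin n) (Fin n) F)) :
    Cfsg.IsGraphAutClassPSL (gm M) ∧ orderOf (gm M) = 2 :=
  ⟨isGraphAutClass_gm hn M, (orderOf_gm_iff p hn M).2 hM⟩

/-! ### Similitudes with a given determinant -/

theorem exists_similitude_det [Finite F] (h2 : (2 : F) ≠ 0) (hn : Even n) (hn0 : 0 < n)
    {M : Matrix (Fin n) (Fin n) F} (hM : Mᵀ = M) (hd : M.det ≠ 0) (c d : Fˣ) (hcd : d ^ 2 = c ^ n) :
    ∃ h : GL (Fin n) F, (h : Matrix (Fin n) (Fin n) F)ᵀ * M * h = (c : F) • M ∧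
      GeneralLinearGroup.det h = d := by
  obtain ⟨k, hk⟩ := hn
  obtain ⟨a, ha⟩ := Congr.exists_congr_sym h2 hM (M' := (c : F) • M) (by rw [transpose_smul, hM]) hd
    (by rw [det_smul]; exact mul_ne_zero (pow_ne_zero _ c.ne_zero) hd)
    ⟨(c : F) ^ k * M.det, by
      have hp : (c : F) ^ n = (c : F) ^ k * (c : F) ^ k := by rw [hk, pow_add]
      rw [det_smul, Fintype.card_fin, hp]; ring⟩
  have hsq : GeneralLinearGroup.det a ^ 2 = c ^ n := by
    have h := congrArg Matrix.det ha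
    rw [det_mul, det_mul, det_transpose, det_smul, Fintype.card_fin] at h
    apply Units.ext
    rw [Units.val_pow_eq_pow_val, GeneralLinearGroup.val_det_apply, Units.val_pow_eq_pow_val]
    exact mul_right_cancel₀ hd (by rw [← h]; ring)
  rcases (eq_or_eq_neg_of_sq_eq_sq (GeneralLinearGroup.det a : F) (d : F)
    (by rw [← Units.val_pow_eq_pow_val, hsq, ← hcd, Units.val_pow_eq_pow_val])) with h | h
  · exact ⟨a, ha, Units.ext h⟩
  · -- compose with a reflection
    let i₀ : Fin n := ⟨0, hn0⟩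
    let D : Matrix (Fin n) (Fin n) F := Matrix.diagonal fun i => if i = i₀ then M.det else 1
    let r : Matrix (Fin n) (Fin n) F := Matrix.diagonal fun i => if i = i₀ then -1 else 1
    have hD : D.det = M.det := by simp [D, det_diagonal]
    have hr : r.det = -1 := by simp [r, det_diagonal]
    obtain ⟨b, hb⟩ := Congr.exists_congr_sym h2 (M := D) (M' := M) (by simp [D]) hM
      (by rw [hD]; exact hd) hd (by rw [hD]; exact IsSquare.mul_self _)
    let R : GL (Fin n) F := mkGL r (by rw [hr]; exact neg_ne_zero.2 one_ne_zero)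
    have hR : rᵀ * D * r = D := by
      simp only [r, D, diagonal_transpose, diagonal_mul_diagonal]
      congr 1
      funext i
      split_ifs <;> ring
    refine ⟨b⁻¹ * R * b * a, ?_, ?_⟩
    · set A : Matrix (Fin n) (Fin n) F := ↑a with hA
      set B : Matrix (Fin n) (Fin n) F := ↑b with hB
      set B' : Matrix (Fin n) (Fin n) F := ↑b⁻¹ with hB'
      have h1 : B * B' = 1 := b.mul_inv
      show (((b⁻¹ * R * b * a : GL (Fin n) F)) : Matrix (Fin n) (Fin n) F)ᵀ * M *
        ((b⁻¹ * R * b * a : GL (Fin n) F) : Matrix (Fin n) (Fin n) F) = _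
      rw [Units.val_mul, Units.val_mul, Units.val_mul, mkGL_coe, ← hA, ← hB, ← hB', ← ha]
      have h3 : (B' * r * B)ᵀ * M * (B' * r * B) = M := by
        calc _ = Bᵀ * (rᵀ * ((B * B')ᵀ * D * (B * B')) * r) * B := by
              rw [← hb]; simp only [transpose_mul]; noncomm_ring
          _ = M := by rw [h1, transpose_one, one_mul, mul_one, hR, hb]
      calc _ = Aᵀ * ((B' * r * B)ᵀ * M * (B' * r * B)) * A := by
            simp only [transpose_mul]; noncomm_ring
        _ = _ := by rw [h3]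
    · have hRd : GeneralLinearGroup.det R = -1 := Units.ext (by
        rw [GeneralLinearGroup.val_det_apply, mkGL_coe, hr, Units.val_neg, Units.val_one])
      rw [map_mul, map_mul, map_mul, map_inv, hRd]
      apply Units.ext
      simp [h]

/-! ### Orders of similitude groups modulo scalars -/

section card

variable {ι : Type} [Fintype ι] [DecidableEq ι]

theorem card_projQuot [Finite F] [Nonempty ι] (A : Matrix ι ι F) (hA : A ≠ 0) (H : Subgroup (GL ι F))
    (hH : ∀ h : GL ι F, h ∈ H ↔ ∃ c : Fˣ, (h : Matrix ι ι F)ᵀ * A * h = (c : F) • A)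
    (hall : ∀ c : Fˣ, ∃ h : GL ι F, (h : Matrix ι ι F)ᵀ * A * h = (c : F) • A) :
    Nat.card (Cfsg.projQuot H) = Nat.card {k : GL ι F // (k : Matrix ι ι F)ᵀ * A * k = A} := by
  classical
  have uniq : ∀ c d : Fˣ, (c : F) • A = (d : F) • A → c = d := fun c d h => by
    have : ((c : F) - d) • A = 0 := by rw [sub_smul, h, sub_self]
    exact Units.ext (sub_eq_zero.1 ((smul_eq_zero.1 this).resolve_right hA))
  let μ : H →* Fˣ := MonoidHom.mk' (fun h => ((hH h).1 h.2).choose) fun h k => uniq _ _ (by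
    have e1 := ((hH h).1 h.2).choose_spec
    have e2 := ((hH k).1 k.2).choose_spec
    have e3 := ((hH _).1 (h * k).2).choose_spec
    rw [← e3, Units.val_mul, Subgroup.coe_mul, Units.val_mul, transpose_mul]
    generalize ((hH h).1 h.2).choose = c at e1
    generalize ((hH k).1 k.2).choose = d at e2
    generalize ((h : GL ι F) : Matrix ι ι F) = X at e1 ⊢
    generalize ((k : GL ι F) : Matrix ι ι F) = Y at e2 ⊢
    calc _ = Yᵀ * (Xᵀ * A * X) * Y := by noncomm_ring
      _ = _ := by rw [e1, Matrix.mul_smul, Matrix.smul_mul, e2, smul_smul])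
  have hμ : Function.Surjective μ := fun c => by
    obtain ⟨h, hh⟩ := hall c
    refine ⟨⟨h, (hH h).2 ⟨c, hh⟩⟩, uniq _ _ ?_⟩
    exact ((hH h).1 ((hH h).2 ⟨c, hh⟩)).choose_spec.symm.trans hh
  have hker : Nat.card μ.ker = Nat.card {k : GL ι F // (k : Matrix ι ι F)ᵀ * A * k = A} :=
    Nat.card_congr
      { toFun := fun h => ⟨h.1.1, by
          have e := ((hH _).1 h.1.2).choose_spec
          rw [show ((hH _).1 h.1.2).choose = 1 from h.2, Units.val_one, one_smul] at e
          exact e⟩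
        invFun := fun k => ⟨⟨k.1, (hH _).2 ⟨1, by rw [k.2, Units.val_one, one_smul]⟩⟩,
          uniq _ _ (by
            refine ((hH k.1).1 ((hH k.1).2 ⟨1, by rw [k.2, Units.val_one, one_smul]⟩)).choose_spec.symm.trans ?_
            rw [k.2, Units.val_one, one_smul])⟩
        left_inv := fun _ => rfl
        right_inv := fun _ => rfl }
  have h1 := Subgroup.card_eq_card_quotient_mul_card_subgroup μ.ker
  rw [Nat.card_congr (QuotientGroup.quotientKerEquivOfSurjective μ hμ).toEquiv, hker] at h1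
  have h2 := Subgroup.card_eq_card_quotient_mul_card_subgroup ((Cfsg.Geo.scalars ι F).subgroupOf H)
  have hsc : Nat.card ((Cfsg.Geo.scalars ι F).subgroupOf H) = Nat.card Fˣ := by
    have hle : Cfsg.Geo.scalars ι F ≤ H := by
      intro g hg
      obtain ⟨c, hc⟩ := (Cfsg.Geo.mem_scalars_iff g).1 hg
      exact (hH g).2 ⟨c ^ 2, by rw [hc, ← coe_scalar, scalar_similitude]⟩
    rw [Nat.card_congr (Subgroup.subgroupOfEquivOfLe hle).toEquiv, Cfsg.Geo.scalars]
    exact Nat.card_congr (MonoidHom.ofInjective (fun c d h => Units.ext (Matrix.scalar_inj.1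
      (congrArg Units.val h)))).symm.toEquiv
  rw [hsc, h1, mul_comm] at h2
  exact (Nat.eq_of_mul_eq_mul_right Nat.card_pos h2).symm

end card

end CfsgLib.AutPSL.Graph
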