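import Cfsg.Agent.Lib.AutPSL.BalanceDiag
import Cfsg.Agent.Lib.AutPSL.BalanceSymp
import Cfsg.Agent.Lib.AutPSL.GraphPSL

set_option autoImplicit false

/-!
Local balance for automorphisms of `PSL_n(F)` of prime order outside the inner-diagonal group.
-/

namespace CfsgLib.AutPSL.LocalBal

open Matrix
open scoped MatrixGroups
open CfsgLib.ClassicalAut.Balance (Fix)

universe u

theorem zmodTwo_sq : ∀ e : Multiplicative (ZMod 2), e ^ 2 = 1 := by decide

variable {n : ℕ} {F : Type u} [Field F] [Fintype F] (p : ℕ) [Fact p.Prime] [CharP F p]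

include p

/-- Field automorphisms. -/
theorem balance_field (hn : 2 ≤ n) (A : Subgroup (MulAut PSL(n, F))) (hinn : ∀ k, MulAut.conj k ∈ A)
    {r : ℕ} [Fact r.Prime] (hrp : r ≠ p) {σ : F ≃+* F} (hσ : orderOf σ = r) (k : GL (Fin n) F)
    (hβA : delta k * fieldAut σ * (delta k)⁻¹ ∈ A) :
    Cfsg.pPrimeCore r ↥(A ⊓ Subgroup.centralizer {(delta k * fieldAut σ * (delta k)⁻¹ : MulAut PSL(n, F))}) ≠ ⊥ ↔
      Nat.Coprime r (Nat.card (Fix (delta k * fieldAut σ * (delta k)⁻¹ : MulAut PSL(n, F)))) := by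
  set a : MulAut PSL(n, F) := delta k
  set x : MulAut PSL(n, F) := fieldAut σ
  have hfix : ∀ y, x y = y → (a * x * a⁻¹) (a y) = a y := fun y hy => by
    show a (x (a.symm (a y))) = a y
    rw [a.symm_apply_apply, hy]
  let i : Fin n := ⟨0, by omega⟩
  let j : Fin n := ⟨1, by omega⟩
  have hij : i ≠ j := by simp [i, j]
  refine CfsgLib.ClassicalAut.Balance.pPrimeCore_ne_bot_iff A hinn (fun k hk => conj_eq_one p hn k hk) hβA ?_
    ⟨a (Matrix.SpecialLinearGroup.transvection hij (1 : F) : PSL(n, F)), fun e => transvection_ne_one p hn hij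
      (a.injective (e.trans (map_one a).symm)), hfix _ ?_⟩
    (fun hd M hMn hMne => CfsgLib.ClassicalAut.Balance.hM_conj (fun hd => normal_field p hn hrp hσ hd) hd M hMn hMne)
    fun g hg => ?_
  · rw [show a * x * a⁻¹ = MulAut.conj a x from rfl, MulEquiv.orderOf_eq, orderOf_fieldAut p hn, hσ]
  · show fieldAut σ _ = _
    rw [fieldAut_mkP, mapMat_transvection, map_one]
  · have h1 : a⁻¹ * g * a ∈ Subgroup.zpowers x := cent_field p hn _ fun y hy => by
      show a.symm (g (a y)) = y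
      rw [hg _ (hfix y hy), a.symm_apply_apply]
    obtain ⟨z, hz⟩ := Subgroup.mem_zpowers_iff.1 h1
    refine Subgroup.mem_zpowers_iff.2 ⟨z, ?_⟩
    rw [conj_zpow, hz]
    simp [mul_assoc]

omit [Fintype F] p in
theorem diagGL_one : diagGL (fun _ : Fin n => (1 : Fˣ)) = (1 : GL (Fin n) F) :=
  Units.ext (by simp [diagGL])

omit [Fintype F] in
theorem two_ne_zero' (h : (2 : ℕ) ≠ p) : (2 : F) ≠ 0 := fun h2 => by
  have h1 : ((2 : ℕ) : F) = 0 := by exact_mod_cast h2
  rw [CharP.cast_eq_zero_iff F p, Nat.prime_dvd_prime_iff_eq Fact.out Nat.prime_two] at h1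
  exact h h1.symm

/-- An involution outside `PΓL_n(F)` is ready. -/
theorem ready_graph (hn : 3 ≤ n) (h2 : (2 : F) ≠ 0) {b : GL (Fin n) F} {σ : F ≃+* F} (hσ : σ ^ 2 = 1)
    (hord : orderOf (delta b * fieldAut σ * graphAut : MulAut PSL(n, F)) = 2) :
    Ready (delta b * fieldAut σ * graphAut : MulAut PSL(n, F)) := by
  have h2n : 2 ≤ n := by omega
  haveI : Fact (Nat.Prime 2) := ⟨Nat.prime_two⟩
  obtain ⟨i₀, x₁, x₂, h12, h1, h3⟩ : ∃ a b c : Fin n, b ≠ c ∧ a ≠ b ∧ a ≠ c :=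
    ⟨⟨n - 1, by omega⟩, ⟨0, by omega⟩, ⟨1, by omega⟩, by simp [Fin.ext_iff], by simp [Fin.ext_iff]; omega,
      by simp [Fin.ext_iff]; omega⟩
  by_cases hσ1 : σ = 1
  · subst hσ1
    obtain ⟨M, rfl⟩ : ∃ M, b = M⁻¹ := ⟨b⁻¹, (inv_inv b).symm⟩
    have hgm : ∀ M : GL (Fin n) F, gt (1 : F ≃+* F) M = Graph.gm M := fun M => by
      rw [gt, Graph.gm, map_one fieldAut, mul_one]
    have he : (delta M⁻¹ * fieldAut (1 : F ≃+* F) * graphAut : MulAut PSL(n, F)) = Graph.gm M := hgm M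
    rw [he] at hord ⊢
    -- move to a standard form
    have move : ∀ M₀ : GL (Fin n) F, Graph.Cong (M₀ : Matrix (Fin n) (Fin n) F) (M : Matrix (Fin n) (Fin n) F) →
        (orderOf (gt (1 : F ≃+* F) M₀) = 2 → Ready (gt (1 : F ≃+* F) M₀)) → Ready (Graph.gm M) := by
      intro M₀ hc hR
      obtain ⟨a, -, ha⟩ := (Graph.isConjUnder_iff p h2n M₀ M).2 hc
      rw [ha, ← hgm]
      refine (hR ?_).conj a
      rw [hgm, ← hord, ha]
      exact (MulEquiv.orderOf_eq (MulAut.conj a) _).symm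
    have hdet : (M : Matrix (Fin n) (Fin n) F).det ≠ 0 := Graph.det_ne M
    rcases (Graph.orderOf_gm_iff p hn M).1 hord with hM | hM
    · -- symmetric forms
      let c : Fˣ := if Even n then Units.mk0 _ hdet else 1
      let d : Fin n → Fˣ := fun i => if i = i₀ then c else 1
      have hsym : ((diagGL d : GL (Fin n) F) : Matrix (Fin n) (Fin n) F)ᵀ = diagGL d := diagonal_transpose _
      have hd : ((diagGL d : GL (Fin n) F) : Matrix (Fin n) (Fin n) F).det = c := by
        simp [diagGL, det_diagonal, d, apply_ite ((↑) : Fˣ → F)]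
      have hc : Graph.Cong ((diagGL d : GL (Fin n) F) : Matrix (Fin n) (Fin n) F) (M : Matrix (Fin n) (Fin n) F) := by
        rcases Nat.even_or_odd n with he | ho
        · refine Graph.cong_sym h2 hsym hM (Graph.det_ne _) hdet ?_
          rw [hd]
          simp [c, he]
        · exact Graph.cong_sym_odd h2 ho hsym hM (Graph.det_ne _) hdet
      refine move _ hc fun ho => ?_
      by_cases hev : Even n
      · have h4 : 4 ≤ n := by obtain ⟨t, ht⟩ := hev; omega
        obtain ⟨x₃, -, hx₃⟩ := Finset.exists_mem_notMem_of_card_lt_card (s := ({i₀, x₁, x₂} : Finset (Fin n)))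
          (t := Finset.univ) (lt_of_le_of_lt Finset.card_le_three (by rw [Finset.card_univ, Fintype.card_fin]; omega))
        simp only [Finset.mem_insert, Finset.mem_singleton, not_or] at hx₃
        exact ready_diag 1 (fun _ => rfl) d (fun _ => rfl) p h2 hn ho (i₀ := i₀) (fun i hi => if_neg hi)
          ⟨x₁, x₂, x₃, h12, Ne.symm hx₃.2.1, Ne.symm hx₃.2.2, if_neg h1.symm, if_neg h3.symm, if_neg hx₃.1⟩
      · have hd1 : ∀ i, d i = 1 := fun i => by simp [d, c, hev]
        exact ready_diag 1 (fun _ => rfl) d (fun _ => rfl) p h2 hn ho (i₀ := i₀) (fun i _ => hd1 i)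
          ⟨i₀, x₁, x₂, h1, h3, h12, hd1 _, hd1 _, hd1 _⟩
    · -- alternating forms
      have hA := Graph.alt_quad h2 hM
      obtain ⟨m, hm⟩ := Graph.even_of_alt hA hdet
      let e : Fin m ⊕ Fin m ≃ Fin n := finSumFinEquiv.trans (finCongr hm.symm)
      exact move (jn e) (Graph.cong_J e hA hdet) (ready_symp h2 (by omega) e p h2n)
  · -- graph-field automorphisms
    have hσ2 : orderOf σ = 2 := orderOf_eq_prime hσ hσ1
    have hθ : ∀ x, σ (σ x) = x := fun x => by
      have h := RingEquiv.congr_fun hσ x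
      rwa [pow_two, RingAut.mul_apply, RingAut.one_apply] at h
    have he : gt σ (diagGL fun _ => 1) = (fieldAut σ * graphAut : MulAut PSL(n, F)) := by
      rw [gt, diagGL_one, inv_one, map_one, one_mul]
    obtain ⟨k, hk⟩ := exists_conj_graphField p h2n hσ2 b (by
      have := pow_orderOf_eq_one (delta b * fieldAut σ * graphAut : MulAut PSL(n, F))
      rwa [hord, mul_assoc] at this)
    rw [mul_assoc, hk, ← he]
    refine (ready_diag σ hθ (fun _ => 1) (fun _ => map_one σ) p h2 hn ?_ (i₀ := i₀) (fun _ _ => rfl)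
      ⟨i₀, x₁, x₂, h1, h3, h12, rfl, rfl, rfl⟩).conj _
    rw [he, ← hord, mul_assoc, hk]
    exact (MulEquiv.orderOf_eq (MulAut.conj (delta k : MulAut PSL(n, F))) _).symm

/-- Local balance for `PSL_n(F)`. -/
theorem balance (hn : 2 ≤ n) (A : Subgroup (MulAut PSL(n, F))) (hinn : ∀ k, MulAut.conj k ∈ A) {r : ℕ}
    [Fact r.Prime] (hrp : r ≠ p) (β : MulAut PSL(n, F)) (hβ : β ∈ A) (hord : orderOf β = r)
    (hnot : ¬ Cfsg.IsInnerDiagonalAutPSL β) :
    Cfsg.pPrimeCore r ↥(A ⊓ Subgroup.centralizer {β}) ≠ ⊥ ↔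
      ((∃ γ φ : MulAut PSL(n, F), Cfsg.IsInnerDiagonalAutPSL γ ∧ Cfsg.IsFieldAutPSL φ ∧ β = φ.trans γ) ∧
        Nat.Coprime r (Nat.card (Fix β))) := by
  have hr : r.Prime := Fact.out
  by_cases hf : ∃ (b : GL (Fin n) F) (σ : F ≃+* F), β = delta b * fieldAut σ
  · obtain ⟨b, σ, hb⟩ := hf
    have hex : ∃ γ φ : MulAut PSL(n, F),
        Cfsg.IsInnerDiagonalAutPSL γ ∧ Cfsg.IsFieldAutPSL φ ∧ β = φ.trans γ :=
      ⟨delta b, fieldAut σ, isInnerDiagonal_iff.2 ⟨b, rfl⟩,
        ⟨σ, (isStdFieldAut_iff.2 rfl : Cfsg.IsStdFieldAutPSL σ (fieldAut σ : MulAut PSL(n, F)))⟩, hb⟩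
    rw [and_iff_right hex]
    have hpow : (delta b * fieldAut σ : MulAut PSL(n, F)) ^ r = 1 := by rw [← hb, ← hord, pow_orderOf_eq_one]
    have hpow' := hpow
    rw [delta_fieldAut_pow] at hpow'
    have hσr := (mem_center_of_delta_fieldAut p hn hpow').2
    have hσ1 : σ ≠ 1 := fun e => hnot (isInnerDiagonal_iff.2 ⟨b, by rw [hb, e, map_one, mul_one]⟩)
    have hσ : orderOf σ = r := orderOf_eq_prime hσr hσ1
    obtain ⟨k, hk⟩ := exists_conj_field p hn hr.pos hσ b hpow
    rw [← hb] at hk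
    subst hk
    exact balance_field p hn A hinn hrp hσ k hβ
  · obtain ⟨b, σ, e, he⟩ := exists_normal_form p hn β
    have hn3 : 3 ≤ n := by
      by_contra hlt
      obtain rfl : n = 2 := by omega
      exact hf (exists_normal_form_two p β)
    rcases graphPow_eq_or (n := n) (F := F) e with hg | hg
    · exact absurd ⟨b, σ, by rw [he, hg, mul_one]⟩ hf
    have hR : ¬ ∃ γ φ : MulAut PSL(n, F),
        Cfsg.IsInnerDiagonalAutPSL γ ∧ Cfsg.IsFieldAutPSL φ ∧ β = φ.trans γ := by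
      rintro ⟨γ, φ, hγ, ⟨τ, hτ⟩, hβeq⟩
      obtain ⟨g, rfl⟩ := isInnerDiagonal_iff.1 hγ
      have hτ' : φ = fieldAut τ := isStdFieldAut_iff.1 hτ
      exact hf ⟨g, τ, hτ' ▸ hβeq⟩
    have hcomp := congrArg (component p hn3) (pow_orderOf_eq_one β)
    rw [map_pow, map_one, he, component_eq, ← he, hord] at hcomp
    have hσr : σ ^ r = 1 := congrArg Prod.fst hcomp
    have her : e ^ r = 1 := congrArg Prod.snd hcomp
    have he1 : e ≠ 1 := fun h => hf ⟨b, σ, by rw [he, h, map_one, mul_one]⟩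
    have he2 : orderOf e = 2 := by
      haveI : Fact (Nat.Prime 2) := ⟨Nat.prime_two⟩
      exact orderOf_eq_prime (zmodTwo_sq e) he1
    obtain rfl : r = 2 := ((Nat.prime_dvd_prime_iff_eq Nat.prime_two hr).1
      (he2 ▸ orderOf_dvd_of_pow_eq_one her)).symm
    have h2 := two_ne_zero' (F := F) p hrp
    rw [he, hg] at hord hβ ⊢
    have hbot := (ready_graph p hn3 h2 hσr hord).core_bot p hn A hinn hβ hord
    rw [he, hg] at hR
    exact iff_of_false (fun h => h hbot) fun h => hR h.1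

end CfsgLib.AutPSL.LocalBal
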