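import Mathlib

set_option autoImplicit false

/-!
Automorphisms of `PSL_n(F)`: those induced by invertible matrices, field automorphisms and
inverse-transpose.
-/

namespace CfsgLib.AutPSL

open Matrix
open scoped MatrixGroups

variable {n : ℕ} {F : Type*} [Field F]

/-- The projection `SL_n(F) → PSL_n(F)`. -/
abbrev mkP : SL(n, F) →* PSL(n, F) := QuotientGroup.mk' (Subgroup.center SL(n, F))

theorem mkP_surjective : Function.Surjective (mkP : SL(n, F) → PSL(n, F)) :=
  QuotientGroup.mk'_surjective _

/-- An automorphism of `SL_n(F)` induces one of `PSL_n(F)`. -/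
def descend : MulAut SL(n, F) →* MulAut PSL(n, F) where
  toFun e := QuotientGroup.congr _ _ e
    (Subgroup.characteristic_iff_map_eq.mp inferInstance e)
  map_one' := MulEquiv.ext fun x => QuotientGroup.induction_on x fun _ => rfl
  map_mul' _ _ := MulEquiv.ext fun x => QuotientGroup.induction_on x fun _ => rfl

@[simp] theorem descend_mkP (e : MulAut SL(n, F)) (s : SL(n, F)) :
    descend e (s : PSL(n, F)) = (e s : PSL(n, F)) := rfl

theorem mulAut_ext {α β : MulAut PSL(n, F)} (h : ∀ s : SL(n, F), α (s : PSL(n, F)) = β (s : PSL(n, F))) : α = β :=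
  MulEquiv.ext fun x => QuotientGroup.induction_on x h

/-- Conjugation of a special linear matrix by an invertible one. -/
def conjMat (g : GL (Fin n) F) (s : SL(n, F)) : SL(n, F) :=
  ⟨(g : Matrix (Fin n) (Fin n) F) * s * ((g⁻¹ : GL (Fin n) F) : Matrix (Fin n) (Fin n) F), by
    rw [det_units_conj, s.det_coe]⟩

theorem conjMat_coe (g : GL (Fin n) F) (s : SL(n, F)) :
    (conjMat g s : Matrix (Fin n) (Fin n) F) =
      (g : Matrix (Fin n) (Fin n) F) * s * ((g⁻¹ : GL (Fin n) F) : Matrix (Fin n) (Fin n) F) := rfl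

theorem conjMat_mul_left (g h : GL (Fin n) F) (s : SL(n, F)) :
    conjMat (g * h) s = conjMat g (conjMat h s) :=
  Subtype.ext (by simp [conjMat, Units.val_mul, _root_.mul_inv_rev, mul_assoc])

theorem conjMat_one (s : SL(n, F)) : conjMat 1 s = s := Subtype.ext (by simp [conjMat])

theorem conjMat_mul (g : GL (Fin n) F) (s t : SL(n, F)) :
    conjMat g (s * t) = conjMat g s * conjMat g t :=
  Subtype.ext (by simp [conjMat_coe, mul_assoc])

theorem conjMat_toGL (s t : SL(n, F)) :
    conjMat (Matrix.SpecialLinearGroup.toGL s) t = s * t * s⁻¹ := by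
  apply Subtype.ext
  rw [conjMat_coe, ← map_inv]
  rfl

/-- Conjugation by invertible matrices on `SL_n(F)`. -/
def conjSL : GL (Fin n) F →* MulAut SL(n, F) where
  toFun g :=
    { toFun := conjMat g
      invFun := conjMat g⁻¹
      left_inv := fun s => by rw [← conjMat_mul_left, inv_mul_cancel, conjMat_one]
      right_inv := fun s => by rw [← conjMat_mul_left, mul_inv_cancel, conjMat_one]
      map_mul' := conjMat_mul g }
  map_one' := MulEquiv.ext conjMat_one
  map_mul' g h := MulEquiv.ext (conjMat_mul_left g h)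

/-- The automorphism of `PSL_n(F)` induced by an invertible matrix. -/
def delta : GL (Fin n) F →* MulAut PSL(n, F) := descend.comp conjSL

@[simp] theorem delta_mkP (g : GL (Fin n) F) (s : SL(n, F)) :
    delta g (s : PSL(n, F)) = (conjMat g s : PSL(n, F)) := rfl

/-- The action of a field automorphism on `SL_n(F)`. -/
def mapMat (σ : F ≃+* F) (s : SL(n, F)) : SL(n, F) := Matrix.SpecialLinearGroup.map σ.toRingHom s

theorem mapMat_coe (σ : F ≃+* F) (s : SL(n, F)) :
    (mapMat σ s : Matrix (Fin n) (Fin n) F) = (s : Matrix (Fin n) (Fin n) F).map σ := rfl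

/-- Field automorphisms acting on `SL_n(F)`. -/
def fieldSL : (F ≃+* F) →* MulAut SL(n, F) where
  toFun σ :=
    { toFun := mapMat σ
      invFun := mapMat σ.symm
      left_inv := fun s => by ext i j; simp [mapMat_coe]
      right_inv := fun s => by ext i j; simp [mapMat_coe]
      map_mul' := map_mul (Matrix.SpecialLinearGroup.map σ.toRingHom) }
  map_one' := MulEquiv.ext fun s => Subtype.ext (Matrix.ext fun _ _ => rfl)
  map_mul' _ _ := MulEquiv.ext fun s => Subtype.ext (Matrix.ext fun _ _ => rfl)

/-- The standard field automorphism of `PSL_n(F)`. -/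
def fieldAut : (F ≃+* F) →* MulAut PSL(n, F) := descend.comp fieldSL

@[simp] theorem fieldAut_mkP (σ : F ≃+* F) (s : SL(n, F)) :
    fieldAut σ (s : PSL(n, F)) = (mapMat σ s : PSL(n, F)) := rfl

/-- Inverse-transpose on `SL_n(F)`. -/
def invTr (s : SL(n, F)) : SL(n, F) := Matrix.SpecialLinearGroup.transpose s⁻¹

theorem invTr_coe (s : SL(n, F)) :
    (invTr s : Matrix (Fin n) (Fin n) F) =
      ((s⁻¹ : SL(n, F)) : Matrix (Fin n) (Fin n) F).transpose := rfl

theorem invTr_mul (s t : SL(n, F)) : invTr (s * t) = invTr s * invTr t := by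
  apply Subtype.ext
  rw [Matrix.SpecialLinearGroup.coe_mul, invTr_coe, invTr_coe, invTr_coe, _root_.mul_inv_rev,
    Matrix.SpecialLinearGroup.coe_mul, Matrix.transpose_mul]

theorem invTr_invTr (s : SL(n, F)) : invTr (invTr s) = s := by
  apply Subtype.ext
  have : (invTr s)⁻¹ = Matrix.SpecialLinearGroup.transpose s := by
    apply inv_eq_of_mul_eq_one_left
    apply Subtype.ext
    rw [Matrix.SpecialLinearGroup.coe_mul, Matrix.SpecialLinearGroup.coe_transpose, invTr_coe,
      ← Matrix.transpose_mul, ← Matrix.SpecialLinearGroup.coe_mul, inv_mul_cancel,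
      Matrix.SpecialLinearGroup.coe_one, Matrix.transpose_one]
  rw [invTr_coe, this, Matrix.SpecialLinearGroup.coe_transpose, Matrix.transpose_transpose]

/-- Inverse-transpose as an automorphism of `SL_n(F)`. -/
def invTrSL : MulAut SL(n, F) where
  toFun := invTr
  invFun := invTr
  left_inv := invTr_invTr
  right_inv := invTr_invTr
  map_mul' := invTr_mul

/-- The inverse-transpose automorphism of `PSL_n(F)`. -/
def graphAut : MulAut PSL(n, F) := descend invTrSL

@[simp] theorem graphAut_mkP (s : SL(n, F)) :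
    (graphAut : MulAut PSL(n, F)) (s : PSL(n, F)) = (invTr s : PSL(n, F)) := rfl

theorem graphAut_mul_self : (graphAut : MulAut PSL(n, F)) * graphAut = 1 :=
  mulAut_ext fun s => by simp [invTr_invTr]

theorem graphAut_inv : (graphAut : MulAut PSL(n, F))⁻¹ = graphAut :=
  inv_eq_of_mul_eq_one_left graphAut_mul_self

/-- The inverse-transpose of an invertible matrix. -/
def contra (g : GL (Fin n) F) : GL (Fin n) F where
  val := ((g⁻¹ : GL (Fin n) F) : Matrix (Fin n) (Fin n) F).transpose
  inv := (g : Matrix (Fin n) (Fin n) F).transpose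
  val_inv := by rw [← Matrix.transpose_mul, Units.mul_inv, Matrix.transpose_one]
  inv_val := by rw [← Matrix.transpose_mul, Units.inv_mul, Matrix.transpose_one]

theorem conjMat_inv (g : GL (Fin n) F) (s : SL(n, F)) : (conjMat g s)⁻¹ = conjMat g s⁻¹ :=
  (map_inv (conjSL g) s).symm

theorem invTr_conjMat (g : GL (Fin n) F) (s : SL(n, F)) :
    invTr (conjMat g s) = conjMat (contra g) (invTr s) := by
  apply Subtype.ext
  rw [invTr_coe, conjMat_inv, conjMat_coe, conjMat_coe, invTr_coe, Matrix.transpose_mul,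
    Matrix.transpose_mul, Matrix.mul_assoc]
  rfl

theorem graphAut_mul_delta (g : GL (Fin n) F) :
    graphAut * delta g = delta (contra g) * (graphAut : MulAut PSL(n, F)) :=
  mulAut_ext fun s => by simp [invTr_conjMat]

/-- A field automorphism acting on `GL_n(F)`. -/
abbrev mapGL (σ : F ≃+* F) : GL (Fin n) F →* GL (Fin n) F :=
  Units.map σ.toRingHom.mapMatrix.toMonoidHom

theorem mapMat_conjMat (σ : F ≃+* F) (g : GL (Fin n) F) (s : SL(n, F)) :
    mapMat σ (conjMat g s) = conjMat (mapGL σ g) (mapMat σ s) := by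
  apply Subtype.ext
  rw [mapMat_coe, conjMat_coe, conjMat_coe, Matrix.map_mul, Matrix.map_mul, ← map_inv]
  rfl

theorem fieldAut_mul_delta (σ : F ≃+* F) (g : GL (Fin n) F) :
    fieldAut σ * delta g = delta (mapGL σ g) * (fieldAut σ : MulAut PSL(n, F)) :=
  mulAut_ext fun s => by simp [mapMat_conjMat]

theorem invTr_mapMat (σ : F ≃+* F) (s : SL(n, F)) : invTr (mapMat σ s) = mapMat σ (invTr s) := by
  have : (mapMat σ s)⁻¹ = mapMat σ s⁻¹ := (map_inv (fieldSL σ) s).symm
  apply Subtype.ext
  rw [invTr_coe, this, mapMat_coe, mapMat_coe, invTr_coe, Matrix.transpose_map]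

theorem graphAut_mul_fieldAut (σ : F ≃+* F) :
    graphAut * fieldAut σ = fieldAut σ * (graphAut : MulAut PSL(n, F)) :=
  mulAut_ext fun s => by simp [invTr_mapMat]

theorem delta_toGL (s : SL(n, F)) :
    delta (Matrix.SpecialLinearGroup.toGL s) = MulAut.conj (mkP s) :=
  mulAut_ext fun t => by simp [conjMat_toGL]

end CfsgLib.AutPSL
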