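import Cfsg.Agent.Lib.AutPSL.Split
import Cfsg.Prelude.Def_LieClassical

set_option autoImplicit false

/-!
Field and graph-field automorphisms of prime order of `PSL_n(F)`.
-/

namespace CfsgLib.AutPSL

open Matrix
open scoped MatrixGroups

universe u v

variable {n : ℕ} {F : Type u} [Field F] [Fintype F]

theorem coset_conjugacy (p : ℕ) [Fact p.Prime] [CharP F p] (hn : 2 ≤ n)
    {x δ : MulAut PSL(n, F)}
    (hx : Cfsg.IsFieldAutClassPSL x ∨ Cfsg.IsGraphFieldAutClassPSL x) {r : ℕ} (hr : r.Prime)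
    (hxr : orderOf x = r) (hδ : δ ∈ Cfsg.inndiagPSL n F) :
    orderOf (δ * x) = r ↔ Cfsg.IsConjUnder (Cfsg.inndiagPSL n F) x (δ * x) := by
  have hord : ∀ h y : MulAut PSL(n, F), orderOf (h * y * h⁻¹) = orderOf y := fun h y =>
    MulEquiv.orderOf_eq (MulAut.conj h) y
  rw [inndiagPSL_eq] at hδ ⊢
  obtain ⟨d, rfl⟩ := hδ
  constructor
  swap
  · rintro ⟨h, -, he⟩
    rw [he, hord, hxr]
  intro ho
  -- reduce to the standard representative
  have main : ∀ (a : GL (Fin n) F) (x₀ : MulAut PSL(n, F)),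
      x = delta a * x₀ * (delta a)⁻¹ →
      ((delta (a⁻¹ * d * a) * x₀) ^ r = 1 → ∃ k : GL (Fin n) F,
        delta (a⁻¹ * d * a) * x₀ = delta k * x₀ * (delta k)⁻¹) →
      Cfsg.IsConjUnder (delta : GL (Fin n) F →* MulAut PSL(n, F)).range x (delta d * x) := by
    intro a x₀ hxa hconj
    have he : delta d * x = delta a * (delta (a⁻¹ * d * a) * x₀) * (delta a)⁻¹ := by
      rw [hxa]; simp [mul_assoc]
    obtain ⟨k, hk⟩ := hconj (by
      rw [← ho, he, hord]
      exact pow_orderOf_eq_one _)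
    refine ⟨delta (a * k * a⁻¹), ⟨_, rfl⟩, ?_⟩
    rw [he, hk, hxa]
    simp [mul_assoc]
  rcases hx with hx | hx
  · obtain ⟨a, σ, hσ, hxa⟩ := exists_field_rep p hn hx
    have hσr : orderOf σ = r := by
      rw [← orderOf_fieldAut (n := n) p hn σ, ← hord (delta a), ← hxa, hxr]
    exact main a _ hxa fun h => exists_conj_field p hn hr.pos hσr _ h
  · obtain ⟨a, σ, hσ, hxa⟩ := exists_graphField_rep p hn hx
    obtain ⟨rfl, hσ2⟩ := orderOf_graphField p hx.1 hσ hr (by rw [← hord (delta a), ← hxa, hxr])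
    exact main a _ hxa fun h => exists_conj_graphField p hn hσ2 _ h

omit [Fintype F] in
theorem detGL_zero_comm {σ : F ≃+* F} (i₀ : Fin n) (c : Fˣ) :
    mapGL σ (detGL i₀ c) = detGL i₀ (Units.map σ.toRingHom.toMonoidHom c) := by
  apply Units.ext
  show ((Matrix.diagonal fun i => ((Function.update (1 : Fin n → Fˣ) i₀ c i : Fˣ) : F))).map σ = _
  rw [Matrix.diagonal_map (map_zero σ)]
  show _ = Matrix.diagonal _
  congr 1
  funext i
  by_cases h : i = i₀
  · subst h; simp
  · simp [Function.update_of_ne h]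

theorem card_fixedField_eq {p f r : ℕ} [Fact p.Prime] (hF : Fintype.card F = p ^ f)
    {σ : F ≃+* F} (hr : 0 < r) (hσ : orderOf σ = r) :
    r ∣ f ∧ Nat.card (fixedField σ) = p ^ (f / r) := by
  have h1 := card_fixedField_pow hσ
  rw [Nat.card_eq_fintype_card (α := F), hF] at h1
  obtain ⟨m, -, hm⟩ := (Nat.dvd_prime_pow Fact.out).1 (h1 ▸ dvd_pow_self _ hr.ne' :
    Nat.card (fixedField σ) ∣ p ^ f)
  rw [hm, ← pow_mul] at h1
  have h2 : m * r = f := Nat.pow_right_injective (Fact.out : p.Prime).two_le h1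
  exact ⟨Dvd.intro_left m h2, by rw [hm, ← h2, Nat.mul_div_cancel m hr]⟩

theorem field_centralizer (p f : ℕ) [Fact p.Prime] [CharP F p] (hF : Fintype.card F = p ^ f)
    (hn : 2 ≤ n) {x : MulAut PSL(n, F)} (hx : Cfsg.IsFieldAutClassPSL x) {r : ℕ} (hr : r.Prime)
    (hxr : orderOf x = r) (F₀ : Type v) [Field F₀] [Fintype F₀]
    (hF₀ : Fintype.card F₀ = p ^ (f / r)) :
    r ∣ f ∧
      Nonempty (↥(Cfsg.inndiagPSL n F ⊓ Subgroup.centralizer {x}) ≃*
        Matrix.ProjGenLinGroup (Fin n) F₀) ∧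
      Cfsg.splitClassCount (Cfsg.inndiagPSL n F) (Cfsg.Inn PSL(n, F)) x =
        Nat.gcd n ((p ^ f - 1) / (p ^ (f / r) - 1)) := by
  have : Nonempty (Fin n) := ⟨⟨0, by omega⟩⟩
  obtain ⟨a, σ, hσ1, hxa⟩ := exists_field_rep p hn hx
  have hσ : orderOf σ = r := by
    rw [← orderOf_fieldAut (n := n) p hn σ, ← hxr, hxa]
    exact (MulEquiv.orderOf_eq (MulAut.conj (delta a)) _).symm
  obtain ⟨hrf, hK⟩ := card_fixedField_eq hF hr.pos hσ
  have : Fintype (fixedField σ) := Fintype.ofFinite _
  let e : F₀ ≃+* fixedField σ := FiniteField.ringEquivOfCardEq (by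
    rw [hF₀, ← Nat.card_eq_fintype_card, hK])
  let ι : F₀ →+* F := (fixedField σ).subtype.comp e.toRingHom
  have hι : Function.Injective ι := Subtype.val_injective.comp e.injective
  have hιfix : ∀ y, σ (ι y) = ι y := fun y => (e y).2
  have hιsurj : ∀ z, σ z = z → ∃ y, ι y = z := fun z hz => ⟨e.symm ⟨z, hz⟩, by
    show ((e (e.symm ⟨z, hz⟩) : fixedField σ) : F) = z
    rw [e.apply_symm_apply]⟩
  let θ : GL (Fin n) F₀ →* GL (Fin n) F := Units.map ι.mapMatrix.toMonoidHom
  have hθfix : ∀ u, mapGL σ (θ u) = θ u := fun u => Units.ext (Matrix.ext fun i j => hιfix _)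
  have hfixed : ∀ g : GL (Fin n) F, mapGL σ g = g → ∃ u, θ u = g := by
    intro g hg
    have hgm : ((mapGL σ g : GL (Fin n) F) : Matrix (Fin n) (Fin n) F) = g := by rw [hg]
    have he : ∀ i j, σ ((g : Matrix (Fin n) (Fin n) F) i j) =
        (g : Matrix (Fin n) (Fin n) F) i j := fun i j =>
      congrFun (congrFun hgm i) j
    choose m hm using fun i j => hιsurj _ (he i j)
    have hmap : ι.mapMatrix (Matrix.of m) = (g : Matrix (Fin n) (Fin n) F) :=
      Matrix.ext hm
    have hdet : (Matrix.of m).det ≠ 0 := fun h0 => by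
      apply ((Matrix.isUnit_iff_isUnit_det _).1 g.isUnit).ne_zero
      rw [← hmap, ← RingHom.map_det, h0, map_zero]
    exact ⟨Matrix.GeneralLinearGroup.mkOfDetNeZero _ hdet, Units.ext hmap⟩
  have hnorm : ∀ g : GL (Fin n) F, Commute (delta g : MulAut PSL(n, F)) (fieldAut σ) →
      ∃ u c, g = GeneralLinearGroup.scalar (Fin n) c * θ u := by
    intro g hg
    obtain ⟨lam, hlam⟩ := (commute_field_iff p hn σ g).1 hg
    have hpow : ∀ k, mapGL (σ ^ k) g = GeneralLinearGroup.scalar (Fin n) (unorm σ k lam) * g := by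
      intro k
      induction k with
      | zero => rw [pow_zero, mapGL_one]; simp [unorm]
      | succ k ih =>
        rw [pow_succ', mapGL_mul_apply, ih, map_mul, mapGL_scalar, hlam, ← mul_assoc, ← map_mul,
          mul_comm (Units.map _ _) lam]
        rfl
    have hN := hpow r
    rw [← hσ, pow_orderOf_eq_one, mapGL_one, hσ] at hN
    have hN1 : unorm σ r lam = 1 := by
      apply scalar_inj' (n := n)
      rw [map_one]
      exact mul_eq_right.1 hN.symm
    obtain ⟨d, hd⟩ := exists_eq_div_map_of_unorm hr.pos hσ lam hN1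
    obtain ⟨u, hu⟩ := hfixed (GeneralLinearGroup.scalar (Fin n) d * g) (by
      rw [map_mul, mapGL_scalar, hlam, ← mul_assoc, ← map_mul, hd, mul_left_comm, mul_inv_cancel,
        mul_one])
    exact ⟨u, d⁻¹, by rw [hu, ← mul_assoc, ← map_mul, inv_mul_cancel, map_one, one_mul]⟩
  have hcomm : ∀ u, Commute (delta (θ u) : MulAut PSL(n, F)) (fieldAut σ) := fun u =>
    (commute_field_iff p hn σ _).2 ⟨1, by rw [map_one, one_mul]; exact hθfix u⟩
  obtain ⟨ψ, hψ, hψc⟩ := exists_centralizer_hom a hxa θ hcomm hnorm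
  have hker : ψ.ker = Subgroup.center (GL (Fin n) F₀) := by
    ext u
    constructor
    · intro h
      have h1 : delta (a * θ u * a⁻¹) = (1 : MulAut PSL(n, F)) := by
        rw [← hψc]; exact congrArg Subtype.val h
      have h2 : delta (θ u) = (1 : MulAut PSL(n, F)) := by
        rw [map_mul, map_mul, map_inv] at h1
        simpa [mul_assoc] using congrArg (fun z => (delta a)⁻¹ * z * delta a) h1
      obtain ⟨c, hc⟩ := mem_center_of_delta_eq_one p hn h2
      rw [Subgroup.mem_center_iff]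
      intro w
      apply Units.map_injective (f := ι.mapMatrix.toMonoidHom)
        (fun A B hAB => Matrix.map_injective hι hAB)
      show θ (w * u) = θ (u * w)
      rw [map_mul, map_mul, hc, scalar_comm]
    · intro h
      rw [GeneralLinearGroup.center_eq_range_scalar] at h
      obtain ⟨c, rfl⟩ := h
      refine Subtype.ext ?_
      rw [hψc]
      have : θ (GeneralLinearGroup.scalar (Fin n) c) =
          GeneralLinearGroup.scalar (Fin n) (Units.map ι.toMonoidHom c) := by
        apply Units.ext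
        ext i j
        by_cases h : i = j <;> simp [θ, GeneralLinearGroup.scalar, h]
      rw [this, ← scalar_comm, mul_inv_cancel_right,
        delta_eq_one_of_mem_center (scalar_mem_center _)]
      rfl
  refine ⟨hrf, ⟨(QuotientGroup.quotientKerEquivOfSurjective ψ hψ).symm.trans
    (QuotientGroup.quotientMulEquivOfEq hker)⟩, ?_⟩
  set i₀ : Fin n := ⟨0, by omega⟩
  rw [splitClassCount_eq (by omega) a hxa
    ((powMonoidHom n : Fˣ →* Fˣ).range ⊔ fixedUnits σ) ?_ ?_]
  · set m := (p ^ f - 1) / (p ^ (f / r) - 1) with hm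
    have hdvd : p ^ (f / r) - 1 ∣ p ^ f - 1 := by
      obtain ⟨k, hk⟩ := hrf
      conv_rhs => rw [hk, mul_comm r k, pow_mul]
      rw [hk, Nat.mul_div_cancel_left k hr.pos]
      exact Nat.sub_one_dvd_pow_sub_one (p ^ k) r
    have hcardU : Nat.card Fˣ = p ^ f - 1 := by
      rw [Nat.card_units, Nat.card_eq_fintype_card, hF]
    have hP : fixedUnits σ = (powMonoidHom m : Fˣ →* Fˣ).range :=
      eq_range_pow _ m (by rw [card_fixedUnits, hK, hcardU, hm, Nat.mul_div_cancel' hdvd])
    rw [hP, range_pow_sup, index_range_pow, hcardU, Nat.gcd_comm]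
    exact Nat.gcd_eq_left (Dvd.dvd.trans (Nat.gcd_dvd_right n m) (Nat.div_dvd_of_dvd hdvd))
  · intro g hg
    obtain ⟨u, c, rfl⟩ := hnorm g hg
    rw [map_mul]
    refine Subgroup.mul_mem_sup ⟨c, ?_⟩ ?_
    · apply Units.ext
      simp [GeneralLinearGroup.scalar]
    · rw [mem_fixedUnits]
      have := congrArg (fun M : GL (Fin n) F => ((GeneralLinearGroup.det M : Fˣ) : F)) (hθfix u)
      exact (σ.toRingHom.map_det _).trans this
  · intro c hc
    obtain ⟨c₁, hc₁, c₂, hc₂, rfl⟩ := Subgroup.mem_sup.1 hc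
    obtain ⟨b, rfl⟩ := hc₁
    refine ⟨GeneralLinearGroup.scalar (Fin n) b * detGL i₀ c₂, ?_, ?_⟩
    · rw [map_mul, det_detGL]
      congr 1
      apply Units.ext
      simp [GeneralLinearGroup.scalar]
    · have h : Commute (delta (detGL i₀ c₂) : MulAut PSL(n, F)) (fieldAut σ) :=
        (commute_field_iff p hn σ _).2 ⟨1, by
          rw [map_one, one_mul, detGL_zero_comm]; congr 1; exact Units.ext hc₂⟩
      rwa [map_mul, delta_eq_one_of_mem_center (scalar_mem_center _), one_mul]

theorem pow_half_aut (p f : ℕ) [Fact p.Prime] [CharP F p] (hF : Fintype.card F = p ^ f)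
    (hf : 1 ≤ f) {σ : F ≃+* F} (hσ : orderOf σ = 2) :
    Even f ∧ ∀ x, σ x = x ^ p ^ (f / 2) := by
  obtain ⟨h2f, -⟩ := card_fixedField_eq hF (by norm_num) hσ
  refine ⟨even_iff_two_dvd.2 h2f, ?_⟩
  obtain ⟨hcyc, hcard⟩ := card_ringAut_isCyclic hF hf
  obtain ⟨k, hk⟩ := h2f
  have hk' : f / 2 = k := by omega
  let τ : F ≃+* F := RingEquiv.ofBijective (iterateFrobenius F p k) (bijective_iterateFrobenius F p k)
  have hτ : ∀ x, τ x = x ^ p ^ k := fun x => iterateFrobenius_def p k x
  have hτ2 : orderOf τ = 2 := by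
    refine orderOf_eq_prime (RingEquiv.ext fun x => ?_) fun h => ?_
    · rw [sq]
      show τ (τ x) = x
      rw [hτ, hτ, ← pow_mul, ← pow_add, show k + k = f by omega, ← hF, FiniteField.pow_card]
    · obtain ⟨g, hg⟩ := IsCyclic.exists_generator (α := Fˣ)
      have h1 : (g : F) ^ p ^ k = g := by rw [← hτ, h]; rfl
      have h2 : g ^ (p ^ k - 1) = 1 := by
        have h3 : g ^ p ^ k = g := Units.ext (by rw [Units.val_pow_eq_pow_val, h1])
        rw [← Nat.sub_add_cancel (Nat.one_le_pow k p (Fact.out : p.Prime).pos), pow_succ] at h3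
        exact mul_eq_right.1 h3
      have h4 := orderOf_dvd_of_pow_eq_one h2
      rw [orderOf_eq_card_of_forall_mem_zpowers hg, Nat.card_units, Nat.card_eq_fintype_card,
        hF] at h4
      have hp1 := (Fact.out : p.Prime).one_lt
      have h5 : p ^ k < p ^ f := Nat.pow_lt_pow_right hp1 (by omega)
      have h6 : 1 < p ^ k := Nat.one_lt_pow (by omega) hp1
      exact absurd (Nat.le_of_dvd (by omega) h4) (by omega)
  have : Finite (F ≃+* F) := Finite.of_injective (fun e => (e : F → F)) DFunLike.coe_injective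
  have := Fintype.ofFinite (F ≃+* F)
  classical
  have hall := IsCyclic.card_orderOf_eq_totient (α := F ≃+* F) (d := 2) (by
    rw [← Nat.card_eq_fintype_card, hcard, hk]; exact dvd_mul_right 2 k)
  rw [Nat.totient_two] at hall
  have he : σ = τ := Finset.card_le_one.1 hall.le σ (by simp [hσ]) τ (by simp [hτ2])
  intro x
  rw [he, hτ, hk']

theorem graphField_structure (p f : ℕ) [Fact p.Prime] [CharP F p] (hF : Fintype.card F = p ^ f)
    (hf : 1 ≤ f) (hn : 3 ≤ n) {x : MulAut PSL(n, F)} (hx : Cfsg.IsGraphFieldAutClassPSL x)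
    (hx2 : orderOf x = 2) :
    Even f ∧
      (∀ y : MulAut PSL(n, F), Cfsg.IsGraphFieldAutClassPSL y → orderOf y = 2 →
        Cfsg.IsConjUnder (Cfsg.inndiagPSL n F) x y) ∧
      Nonempty (↥(Cfsg.inndiagPSL n F ⊓ Subgroup.centralizer {x}) ≃*
        Cfsg.PGU n F (p ^ (f / 2))) ∧
      Cfsg.splitClassCount (Cfsg.inndiagPSL n F) (Cfsg.Inn PSL(n, F)) x =
        Nat.gcd n (p ^ (f / 2) - 1) := by
  have hn2 : 2 ≤ n := by omega
  have : Nonempty (Fin n) := ⟨⟨0, by omega⟩⟩
  have rep : ∀ y : MulAut PSL(n, F), Cfsg.IsGraphFieldAutClassPSL y → orderOf y = 2 →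
      ∃ (a : GL (Fin n) F) (σ : F ≃+* F), orderOf σ = 2 ∧
        y = delta a * (fieldAut σ * graphAut) * (delta a)⁻¹ := by
    intro y hy hy2
    obtain ⟨a, σ, hσ, hya⟩ := exists_graphField_rep p hn2 hy
    refine ⟨a, σ, (orderOf_graphField p hn hσ Nat.prime_two ?_).2, hya⟩
    rw [← hy2, hya]
    exact (MulEquiv.orderOf_eq (MulAut.conj (delta a)) _).symm
  obtain ⟨a, σ, hσ, hxa⟩ := rep x hx hx2
  obtain ⟨heven, hq⟩ := pow_half_aut p f hF hf hσ
  set q := p ^ (f / 2) with hqdef
  have hσσ : ∀ z, σ (σ z) = z := fun z => by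
    have h2 : σ ^ 2 = 1 := hσ ▸ pow_orderOf_eq_one σ
    rw [sq] at h2
    exact DFunLike.congr_fun h2 z
  refine ⟨heven, fun y hy hy2 => ?_, ?_⟩
  · obtain ⟨b, τ, hτ, hyb⟩ := rep y hy hy2
    have hτσ : τ = σ := RingEquiv.ext fun z => by rw [(pow_half_aut p f hF hf hτ).2, hq]
    subst hτσ
    refine ⟨delta (b * a⁻¹), by rw [inndiagPSL_eq]; exact ⟨_, rfl⟩, ?_⟩
    rw [hyb, hxa]
    simp [mul_assoc]
  have hGU : ∀ g : GL (Fin n) F, g ∈ Cfsg.GU n F q ↔ g * starGL σ g = 1 := by
    intro g
    have hform : ∀ u v, Cfsg.hermForm n F q u v = u ⬝ᵥ fun i => σ (v i) := fun u v =>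
      Finset.sum_congr rfl fun i _ => by simp [hq]
    have hg2 : g * starGL σ g = 1 ↔
        (g : Matrix (Fin n) (Fin n) F)ᵀ * (g : Matrix (Fin n) (Fin n) F).map σ = 1 := by
      rw [mul_eq_one_comm, Units.ext_iff, Units.val_mul, starGL_coe, Units.val_one]
      constructor
      · intro h
        have := congrArg Matrix.transpose h
        rwa [Matrix.transpose_mul, Matrix.transpose_transpose, Matrix.transpose_one] at this
      · intro h
        have := congrArg Matrix.transpose h
        rwa [Matrix.transpose_mul, Matrix.transpose_transpose, Matrix.transpose_one] at this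
    rw [hg2]
    have hmul : ∀ u v, Cfsg.hermForm n F q ((g : Matrix (Fin n) (Fin n) F) *ᵥ u)
        ((g : Matrix (Fin n) (Fin n) F) *ᵥ v) =
        u ⬝ᵥ (((g : Matrix (Fin n) (Fin n) F)ᵀ * (g : Matrix (Fin n) (Fin n) F).map σ) *ᵥ
          fun i => σ (v i)) := by
      intro u v
      rw [hform, ← mulVec_mulVec, dotProduct_mulVec u, vecMul_transpose]
      congr 1
      funext i
      exact RingHom.map_mulVec σ.toRingHom _ v i
    constructor
    · intro h
      have h' : ∀ u v, Cfsg.hermForm n F q ((g : Matrix (Fin n) (Fin n) F) *ᵥ u)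
        ((g : Matrix (Fin n) (Fin n) F) *ᵥ v) = Cfsg.hermForm n F q u v := h
      ext i j
      have := h' (Pi.single i 1) (Pi.single j 1)
      rw [hmul, hform, show (fun k => σ ((Pi.single j 1 : Fin n → F) k)) = Pi.single j 1 from
          funext fun k => by by_cases h : k = j <;> simp [h]] at this
      rw [Matrix.one_apply]
      simpa [Pi.single_apply, eq_comm (a := i) (b := j)] using this
    · intro h u v
      show Cfsg.hermForm n F q ((g : Matrix (Fin n) (Fin n) F) *ᵥ u)
        ((g : Matrix (Fin n) (Fin n) F) *ᵥ v) = _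
      rw [hmul, h, one_mulVec, hform]
  have hdetstar : ∀ g : GL (Fin n) F,
      GeneralLinearGroup.det (g * starGL σ g) = unorm σ 2 (GeneralLinearGroup.det g) := by
    intro g
    apply Units.ext
    rw [map_mul, Units.val_mul, GeneralLinearGroup.val_det_apply, GeneralLinearGroup.val_det_apply,
      starGL_coe, Matrix.det_transpose]
    simp only [unorm]
    simp
    left
    exact (σ.toRingHom.map_det _).symm
  have hstar_scalar : ∀ (c : Fˣ) (g : GL (Fin n) F),
      GeneralLinearGroup.scalar (Fin n) c * g * starGL σ (GeneralLinearGroup.scalar (Fin n) c * g) =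
        GeneralLinearGroup.scalar (Fin n) (unorm σ 2 c) * (g * starGL σ g) := by
    intro c g
    have hsc : ∀ (e : Fˣ) (M : Matrix (Fin n) (Fin n) F),
        ((GeneralLinearGroup.scalar (Fin n) e : GL (Fin n) F) : Matrix (Fin n) (Fin n) F) * M =
          (e : F) • M := fun e M => by ext; simp [GeneralLinearGroup.scalar]
    apply Units.ext
    simp only [Units.val_mul, starGL_coe, hsc]
    ext i j
    simp [unorm, Matrix.mul_apply, Finset.mul_sum]
    exact Finset.sum_congr rfl fun k _ => by ring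
  let θ : Cfsg.GU n F q →* GL (Fin n) F := (Cfsg.GU n F q).subtype
  have hcomm : ∀ u, Commute (delta (θ u) : MulAut PSL(n, F)) (fieldAut σ * graphAut) := fun u =>
    (commute_graphField_iff p hn2 σ _).2 ⟨1, by rw [map_one]; exact (hGU _).1 u.2⟩
  have hnorm : ∀ g : GL (Fin n) F,
      Commute (delta g : MulAut PSL(n, F)) (fieldAut σ * graphAut) →
      ∃ u c, g = GeneralLinearGroup.scalar (Fin n) c * θ u := by
    intro g hg
    obtain ⟨lam, hlam⟩ := (commute_graphField_iff p hn2 σ g).1 hg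
    have hfix : σ (lam : F) = lam := by
      obtain ⟨i⟩ := (inferInstance : Nonempty (Fin n))
      have e := congrArg (fun M : GL (Fin n) F => σ ((M : Matrix (Fin n) (Fin n) F) i i)) hlam
      simp [starGL_coe, Matrix.mul_apply, GeneralLinearGroup.scalar, hσσ] at e
      have e2 : ((g * starGL σ g : GL (Fin n) F) : Matrix (Fin n) (Fin n) F) i i = (lam : F) := by
        rw [hlam]; simp [GeneralLinearGroup.scalar]
      simp [starGL_coe, Matrix.mul_apply] at e2
      rw [← e, ← e2]
      exact Finset.sum_congr rfl fun k _ => mul_comm _ _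
    obtain ⟨d, hd⟩ := exists_unorm_eq (by norm_num) hσ lam⁻¹ (by simp [hfix])
    have hu : GeneralLinearGroup.scalar (Fin n) d * g ∈ Cfsg.GU n F q := (hGU _).2 (by
      rw [hstar_scalar, hlam, ← map_mul, hd, inv_mul_cancel, map_one])
    refine ⟨⟨_, hu⟩, d⁻¹, ?_⟩
    show g = GeneralLinearGroup.scalar (Fin n) d⁻¹ * (GeneralLinearGroup.scalar (Fin n) d * g)
    rw [← mul_assoc, ← map_mul, inv_mul_cancel, map_one, one_mul]
  obtain ⟨ψ, hψ, hψc⟩ := exists_centralizer_hom a hxa θ hcomm hnorm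
  have hker : ψ.ker = (Cfsg.Geo.scalars (Fin n) F).subgroupOf (Cfsg.GU n F q) := by
    ext u
    have hiff : ψ u = 1 ↔ delta (θ u) = (1 : MulAut PSL(n, F)) := by
      constructor
      · intro h
        have h1 : delta (a * θ u * a⁻¹) = (1 : MulAut PSL(n, F)) := by
          rw [← hψc, h]; rfl
        rw [map_mul, map_mul, map_inv] at h1
        simpa [mul_assoc] using congrArg (fun z => (delta a)⁻¹ * z * delta a) h1
      · intro h
        apply Subtype.ext
        rw [hψc, map_mul, map_mul, h, mul_one, ← map_mul, mul_inv_cancel, map_one]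
        rfl
    rw [MonoidHom.mem_ker, hiff, Subgroup.mem_subgroupOf, Cfsg.Geo.scalars]
    constructor
    · intro h
      obtain ⟨c, hc⟩ := mem_center_of_delta_eq_one p hn2 h
      exact ⟨c, hc.symm⟩
    · rintro ⟨c, hc⟩
      have hu : θ u = GeneralLinearGroup.scalar (Fin n) c := hc.symm
      rw [hu]
      exact delta_eq_one_of_mem_center (scalar_mem_center c)
  refine ⟨⟨(QuotientGroup.quotientKerEquivOfSurjective ψ hψ).symm.trans
    (QuotientGroup.quotientMulEquivOfEq hker)⟩, ?_⟩
  set i₀ : Fin n := ⟨0, by omega⟩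
  rw [splitClassCount_eq (by omega) a hxa
    ((powMonoidHom n : Fˣ →* Fˣ).range ⊔ (unorm σ 2).ker) ?_ ?_]
  · obtain ⟨-, hK⟩ := card_fixedField_eq hF (by norm_num) hσ
    have hcardU : Nat.card Fˣ = p ^ f - 1 := by
      rw [Nat.card_units, Nat.card_eq_fintype_card, hF]
    have h1 : Nat.card Fˣ = (q - 1) * Nat.card (unorm σ 2).ker := by
      rw [Subgroup.card_eq_card_quotient_mul_card_subgroup (unorm σ 2).ker,
        Nat.card_congr (QuotientGroup.quotientKerEquivRange _).toEquiv,
        range_unorm (by norm_num) hσ, card_fixedUnits, hK]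
    rw [eq_range_pow (unorm σ 2).ker (q - 1) (by rw [h1, mul_comm]), range_pow_sup,
      index_range_pow, Nat.gcd_comm]
    exact Nat.gcd_eq_left ((Nat.gcd_dvd_right n (q - 1)).trans (Dvd.intro _ h1.symm))
  · intro g hg
    obtain ⟨u, c, rfl⟩ := hnorm g hg
    rw [map_mul]
    refine Subgroup.mul_mem_sup ⟨c, ?_⟩ ?_
    · apply Units.ext
      simp [GeneralLinearGroup.scalar]
    · rw [MonoidHom.mem_ker, ← hdetstar, (hGU (θ u)).1 u.2, map_one]
  · intro c hc
    obtain ⟨c₁, hc₁, c₂, hc₂, rfl⟩ := Subgroup.mem_sup.1 hc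
    obtain ⟨b, rfl⟩ := hc₁
    refine ⟨GeneralLinearGroup.scalar (Fin n) b * detGL i₀ c₂, ?_, ?_⟩
    · rw [map_mul, det_detGL]
      congr 1
      apply Units.ext
      simp [GeneralLinearGroup.scalar]
    · have h : Commute (delta (detGL i₀ c₂) : MulAut PSL(n, F)) (fieldAut σ * graphAut) := by
        refine (commute_graphField_iff p hn2 σ _).2 ⟨1, ?_⟩
        rw [map_one]
        apply Units.ext
        rw [Units.val_mul, starGL_coe, Units.val_one]
        show Matrix.diagonal _ * ((Matrix.diagonal _).map σ)ᵀ = _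
        rw [Matrix.diagonal_map (map_zero σ), Matrix.diagonal_transpose,
          Matrix.diagonal_mul_diagonal, ← Matrix.diagonal_one]
        congr 1
        funext i
        by_cases h : i = i₀
        · subst h
          have := congrArg Units.val (MonoidHom.mem_ker.1 hc₂)
          simpa [unorm] using this
        · simp [Function.update_of_ne h]
      rwa [map_mul, delta_eq_one_of_mem_center (scalar_mem_center _), one_mul]

end CfsgLib.AutPSL
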