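import Cfsg.Agent.Lib.AutPSL.Structure

set_option autoImplicit false

/-!
Galois descent for `GL_n` over a finite field: twisted norms, Hilbert 90, surjectivity of the norm.
-/

namespace CfsgLib.AutPSL

open Matrix
open scoped MatrixGroups

variable {n : ℕ} {F : Type*} [Field F]

/-- The twisted product `g σ(g) ⋯ σ^(k-1)(g)`. -/
def tnorm (σ : F ≃+* F) (g : GL (Fin n) F) : ℕ → GL (Fin n) F
  | 0 => 1
  | k + 1 => g * mapGL σ (tnorm σ g k)

theorem tnorm_succ (σ : F ≃+* F) (g : GL (Fin n) F) (k : ℕ) :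
    tnorm σ g (k + 1) = g * mapGL σ (tnorm σ g k) := rfl

theorem mapGL_mul_apply (σ τ : F ≃+* F) (g : GL (Fin n) F) :
    mapGL (σ * τ) g = mapGL σ (mapGL τ g) := Units.ext (Matrix.ext fun _ _ => rfl)

theorem mapGL_one (g : GL (Fin n) F) : mapGL (1 : F ≃+* F) g = g :=
  Units.ext (Matrix.ext fun _ _ => rfl)

theorem tnorm_succ' (σ : F ≃+* F) (g : GL (Fin n) F) (k : ℕ) :
    tnorm σ g (k + 1) = tnorm σ g k * mapGL (σ ^ k) g := by
  induction k with
  | zero => simp [tnorm, mapGL_one]
  | succ k ih =>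
    rw [tnorm_succ σ g (k + 1)]
    nth_rw 1 [ih]
    rw [map_mul, ← mul_assoc, ← tnorm_succ, pow_succ' σ k, mapGL_mul_apply]

theorem delta_fieldAut_pow (σ : F ≃+* F) (g : GL (Fin n) F) (k : ℕ) :
    (delta g * fieldAut σ) ^ k = delta (tnorm σ g k) * (fieldAut (σ ^ k) : MulAut PSL(n, F)) := by
  induction k with
  | zero => simp [tnorm]
  | succ k ih =>
    rw [pow_succ', ih, tnorm_succ, map_mul delta, pow_succ' σ k, map_mul fieldAut, mul_assoc,
      ← mul_assoc (fieldAut σ), fieldAut_mul_delta]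
    simp only [mul_assoc]

theorem mapGL_scalar (σ : F ≃+* F) (c : Fˣ) :
    mapGL σ (GeneralLinearGroup.scalar (Fin n) c) =
      GeneralLinearGroup.scalar (Fin n) (Units.map σ.toRingHom.toMonoidHom c) := by
  apply Units.ext
  ext i j
  by_cases h : i = j <;> simp [GeneralLinearGroup.scalar, h]

theorem scalar_mem_center (c : Fˣ) :
    GeneralLinearGroup.scalar (Fin n) c ∈ Subgroup.center (GL (Fin n) F) := by
  rw [GeneralLinearGroup.center_eq_range_scalar]; exact ⟨c, rfl⟩

/-- The norm `c σ(c) ⋯ σ^(k-1)(c)` on units. -/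
def unorm (σ : F ≃+* F) : ℕ → Fˣ →* Fˣ
  | 0 => 1
  | k + 1 => MonoidHom.id Fˣ * (Units.map σ.toRingHom.toMonoidHom).comp (unorm σ k)

theorem tnorm_scalar_mul (σ : F ≃+* F) (c : Fˣ) (g : GL (Fin n) F) (k : ℕ) :
    tnorm σ (GeneralLinearGroup.scalar (Fin n) c * g) k =
      GeneralLinearGroup.scalar (Fin n) (unorm σ k c) * tnorm σ g k := by
  induction k with
  | zero => simp [tnorm, unorm]
  | succ k ih =>
    rw [tnorm_succ, ih, map_mul, mapGL_scalar, tnorm_succ, mul_assoc, ← mul_assoc g,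
      Subgroup.mem_center_iff.1 (scalar_mem_center _) g, mul_assoc, ← mul_assoc, ← map_mul]
    rfl

theorem tnorm_scalar (σ : F ≃+* F) (c : Fˣ) (k : ℕ) :
    tnorm σ (GeneralLinearGroup.scalar (Fin n) c) k =
      GeneralLinearGroup.scalar (Fin n) (unorm σ k c) := by
  have h1 : ∀ j, tnorm σ (1 : GL (Fin n) F) j = 1 := fun j => by
    induction j with
    | zero => rfl
    | succ j ih => rw [tnorm_succ, ih, map_one, mul_one]
  simpa [h1] using tnorm_scalar_mul (n := n) σ c 1 k

theorem pow_apply_inj {σ : F ≃+* F} {r : ℕ} (hσ : orderOf σ = r) {i j : ℕ} (hi : i < r)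
    (hj : j < r) (h : ∀ x, (σ ^ i) x = (σ ^ j) x) : i = j := by
  subst hσ
  exact pow_injOn_Iio_orderOf hi hj (RingEquiv.ext h)

/-- Hilbert 90 for `GL_n`: a matrix of trivial twisted norm is a twisted coboundary. -/
theorem exists_coboundary {σ : F ≃+* F} {r : ℕ} (hr : 0 < r) (hσ : orderOf σ = r)
    (g : GL (Fin n) F) (hg : tnorm σ g r = 1) :
    ∃ h : GL (Fin n) F, g = h * (mapGL σ h)⁻¹ := by
  set G := (g : Matrix (Fin n) (Fin n) F) with hG
  let T : (Fin n → F) → (Fin n → F) := fun v => G *ᵥ (fun j => σ (v j))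
  have hTadd : ∀ v w, T (v + w) = T v + T w := fun v w => by
    simp only [T, ← mulVec_add]; congr 1; funext j; simp
  have hTsmul : ∀ (c : F) v, T (c • v) = σ c • T v := fun c v => by
    simp only [T, ← mulVec_smul]; congr 1; funext j; simp
  have hσmul : ∀ (M : Matrix (Fin n) (Fin n) F) (w : Fin n → F),
      (fun j => σ ((M *ᵥ w) j)) = M.map σ *ᵥ fun j => σ (w j) := fun M w =>
    funext fun j => RingHom.map_mulVec σ.toRingHom M w j
  have hTk : ∀ (k : ℕ) (v : Fin n → F),
      T^[k] v = (tnorm σ g k : GL (Fin n) F) *ᵥ fun j => (σ ^ k) (v j) := by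
    intro k
    induction k with
    | zero => intro v; simp [tnorm]
    | succ k ih =>
      intro v
      rw [Function.iterate_succ_apply', ih, tnorm_succ, Units.val_mul, ← mulVec_mulVec,
        pow_succ' σ k]
      show G *ᵥ _ = G *ᵥ _
      rw [hσmul]
      rfl
  have hTr : ∀ v, T^[r] v = v := fun v => by
    rw [hTk, hg, ← hσ, pow_orderOf_eq_one, Units.val_one, one_mulVec]; rfl
  let Fix : Set (Fin n → F) := {v | T v = v}
  -- the averages of `c • v` are fixed
  have havg : ∀ (v : Fin n → F) (c : F),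
      ∑ i ∈ Finset.range r, (σ ^ i) c • T^[i] v ∈ Fix := by
    intro v c
    let f : ℕ → (Fin n → F) := fun i => (σ ^ i) c • T^[i] v
    have hT0 : T 0 = 0 := by simpa using hTsmul 0 0
    have hsum : ∀ s : Finset ℕ, T (∑ i ∈ s, f i) = ∑ i ∈ s, f (i + 1) := by
      intro s
      induction s using Finset.cons_induction with
      | empty => simpa using hT0
      | cons a s ha ih =>
        rw [Finset.sum_cons, Finset.sum_cons, hTadd, ih]
        congr 1
        show T ((σ ^ a) c • T^[a] v) = (σ ^ (a + 1)) c • T^[a + 1] v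
        rw [hTsmul, Function.iterate_succ_apply', pow_succ']
        rfl
    show T _ = _
    rw [hsum]
    have h1 := Finset.sum_range_succ' f r
    have h2 := Finset.sum_range_succ f r
    have h3 : f r = f 0 := by
      show (σ ^ r) c • T^[r] v = _
      rw [hTr, ← hσ, pow_orderOf_eq_one]
      rfl
    rw [h3] at h2
    exact add_right_cancel (h1.symm.trans h2)
  have hspan : Submodule.span F Fix = ⊤ := by
    by_contra hne
    obtain ⟨φ, hφ0, hφ⟩ := Submodule.exists_dual_map_eq_bot_of_lt_top (lt_top_iff_ne_top.2 hne) inferInstance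
    apply hφ0
    refine LinearMap.ext fun v => ?_
    have hli : LinearIndependent F
        (fun i : Fin r => ((σ ^ (i : ℕ) : F ≃+* F) : F → F)) := by
      refine (linearIndependent_monoidHom F F).comp
        (fun i : Fin r => (σ ^ (i : ℕ) : F ≃+* F).toRingHom.toMonoidHom) ?_
      intro i j h
      exact Fin.ext (pow_apply_inj hσ i.2 j.2 fun x => DFunLike.congr_fun h x)
    have hall := Fintype.linearIndependent_iff.1 hli (fun i => φ (T^[(i : ℕ)] v)) ?_ ⟨0, hr⟩
    · exact hall
    funext c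
    have h4 : φ (∑ i ∈ Finset.range r, (σ ^ i) c • T^[i] v) = 0 := by
      have : φ (∑ i ∈ Finset.range r, (σ ^ i) c • T^[i] v) ∈ (Submodule.span F Fix).map φ :=
        Submodule.mem_map_of_mem (Submodule.subset_span (havg v c))
      rwa [hφ, Submodule.mem_bot] at this
    rw [map_sum, ← Fin.sum_univ_eq_sum_range (fun i => φ ((σ ^ i) c • T^[i] v))] at h4
    simp only [Finset.sum_apply, Pi.smul_apply, smul_eq_mul, Pi.zero_apply]
    rw [← h4]
    exact Finset.sum_congr rfl fun i _ => by rw [map_smul, smul_eq_mul, mul_comm]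
  obtain ⟨b, hb, hbspan, hbli⟩ := exists_linearIndependent F Fix
  let B := Module.Basis.mk hbli (by rw [Subtype.range_coe, hbspan, hspan])
  have : Fintype b := FiniteDimensional.fintypeBasisIndex B
  have hcard : Fintype.card b = n := by
    rw [← Module.finrank_eq_card_basis B, Module.finrank_fin_fun]
  let e : Fin n ≃ b := (Fintype.equivFinOfCardEq hcard).symm
  let H : Matrix (Fin n) (Fin n) F := Matrix.of fun i j => (e j : Fin n → F) i
  have hH : IsUnit H := by
    rw [← Matrix.linearIndependent_cols_iff_isUnit]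
    exact hbli.comp e e.injective
  refine ⟨hH.unit, ?_⟩
  rw [eq_mul_inv_iff_mul_eq]
  apply Units.ext
  rw [Units.val_mul, IsUnit.unit_spec]
  ext i j
  have h5 := congrFun (hb (e j).2 : T (e j : Fin n → F) = (e j : Fin n → F)) i
  exact h5

theorem exists_eq_div_map_of_unorm {σ : F ≃+* F} {r : ℕ} (hr : 0 < r) (hσ : orderOf σ = r)
    (c : Fˣ) (hc : unorm σ r c = 1) :
    ∃ d : Fˣ, c = d * (Units.map σ.toRingHom.toMonoidHom d)⁻¹ := by
  obtain ⟨h, hh⟩ := exists_coboundary (n := 1) hr hσ (GeneralLinearGroup.scalar (Fin 1) c)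
    (by rw [tnorm_scalar, hc, map_one])
  refine ⟨GeneralLinearGroup.det h, ?_⟩
  have h1 := congrArg GeneralLinearGroup.det hh
  rw [map_mul, map_inv] at h1
  have e1 : GeneralLinearGroup.det (GeneralLinearGroup.scalar (Fin 1) c) = c :=
    Units.ext (by simp [GeneralLinearGroup.scalar])
  have e2 : GeneralLinearGroup.det (mapGL σ h) =
      Units.map σ.toRingHom.toMonoidHom (GeneralLinearGroup.det h) :=
    Units.ext (σ.toRingHom.map_det (h : Matrix (Fin 1) (Fin 1) F)).symm
  rw [e1, e2] at h1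
  exact h1

theorem unorm_apply_tnorm (σ : F ≃+* F) (c : Fˣ) (k : ℕ) :
    GeneralLinearGroup.det (tnorm σ (GeneralLinearGroup.scalar (Fin 1) c) k) = unorm σ k c := by
  rw [tnorm_scalar]
  exact Units.ext (by simp [GeneralLinearGroup.scalar])

theorem unorm_succ' (σ : F ≃+* F) (c : Fˣ) (k : ℕ) :
    unorm σ (k + 1) c = unorm σ k c * Units.map (σ ^ k).toRingHom.toMonoidHom c := by
  have h := congrArg GeneralLinearGroup.det
    (tnorm_succ' σ (GeneralLinearGroup.scalar (Fin 1) c) k)
  rw [map_mul, unorm_apply_tnorm, unorm_apply_tnorm, mapGL_scalar] at h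
  rw [h]
  congr 1
  exact Units.ext (by simp [GeneralLinearGroup.scalar])

/-- The fixed field of `σ`. -/
def fixedField (σ : F ≃+* F) : Subfield F := RingHom.eqLocusField σ.toRingHom (RingHom.id F)

theorem mem_fixedField {σ : F ≃+* F} {x : F} : x ∈ fixedField σ ↔ σ x = x := Iff.rfl

/-- The units of the fixed field, inside `Fˣ`. -/
def fixedUnits (σ : F ≃+* F) : Subgroup Fˣ where
  carrier := {c | σ (c : F) = c}
  one_mem' := by simp
  mul_mem' {a b} ha hb := by simp only [Set.mem_ofPred_eq, Units.val_mul, map_mul] at *; rw [ha, hb]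
  inv_mem' {a} ha := by
    simp only [Set.mem_ofPred_eq, Units.val_inv_eq_inv_val, map_inv₀] at *; rw [ha]

theorem mem_fixedUnits {σ : F ≃+* F} {c : Fˣ} : c ∈ fixedUnits σ ↔ σ (c : F) = c := Iff.rfl

theorem unorm_mem_fixedUnits {σ : F ≃+* F} {r : ℕ} (hσ : orderOf σ = r) (c : Fˣ) :
    unorm σ r c ∈ fixedUnits σ := by
  have h := unorm_succ' σ c r
  rw [← hσ, pow_orderOf_eq_one] at h
  have h2 : unorm σ (r + 1) c = c * Units.map σ.toRingHom.toMonoidHom (unorm σ r c) := rfl
  rw [hσ] at h
  have h3 : c * Units.map σ.toRingHom.toMonoidHom (unorm σ r c) = unorm σ r c * c :=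
    h2.symm.trans (h.trans (congrArg _ (Units.ext rfl)))
  rw [mul_comm _ c] at h3
  exact congrArg Units.val (mul_left_cancel h3)

variable [Finite F]

omit [Finite F] in
theorem card_fixedUnits (σ : F ≃+* F) :
    Nat.card (fixedUnits σ) = Nat.card (fixedField σ) - 1 := by
  rw [← Nat.card_units]
  refine Nat.card_congr
    { toFun := fun c => Units.mk0 ⟨((c : Fˣ) : F), c.2⟩ (fun e =>
        Units.ne_zero (c : Fˣ) (congrArg Subtype.val e))
      invFun := fun u => ⟨Units.mk0 ((u : fixedField σ) : F)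
        (fun e => Units.ne_zero u (Subtype.ext e)), ((u : fixedField σ)).2⟩
      left_inv := fun c => Subtype.ext (Units.ext rfl)
      right_inv := fun u => Units.ext (Subtype.ext rfl) }

theorem card_fixedField_pow {σ : F ≃+* F} {r : ℕ} (hσ : orderOf σ = r) :
    Nat.card (fixedField σ) ^ r = Nat.card F := by
  let G := Subgroup.zpowers σ
  have : FaithfulSMul G F := ⟨fun {a b} h => Subtype.ext (RingEquiv.ext h)⟩
  have : Finite (F ≃+* F) := Finite.of_injective (fun e => (e : F → F)) DFunLike.coe_injective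
  have : Fintype G := Fintype.ofFinite G
  have h1 := FixedPoints.finrank_eq_card G F
  rw [← Nat.card_eq_fintype_card, Nat.card_zpowers, hσ] at h1
  have h2 : FixedPoints.subfield G F = fixedField σ := by
    ext x
    constructor
    · intro h
      exact h ⟨σ, Subgroup.mem_zpowers σ⟩
    · intro h g
      show (g : F ≃+* F) x = x
      have hs : (Subgroup.zpowers σ) ≤ MulAction.stabilizer (F ≃+* F) x :=
        Subgroup.zpowers_le.2 h
      exact hs g.2
  rw [h2] at h1
  rw [Module.natCard_eq_pow_finrank (K := fixedField σ) (V := F), h1]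

omit [Finite F] in
theorem card_units_eq_card_range_mul {σ : F ≃+* F} :
    Nat.card Fˣ = Nat.card (MonoidHom.id Fˣ * (Units.map σ.toRingHom.toMonoidHom)⁻¹).range *
      Nat.card (fixedUnits σ) := by
  set D : Fˣ →* Fˣ := MonoidHom.id Fˣ * (Units.map σ.toRingHom.toMonoidHom)⁻¹
  have hker : D.ker = fixedUnits σ := by
    ext c
    show c * (Units.map σ.toRingHom.toMonoidHom c)⁻¹ = 1 ↔ _
    rw [mul_inv_eq_one, mem_fixedUnits, Units.ext_iff, eq_comm]
    rfl
  rw [← hker, Subgroup.card_eq_card_quotient_mul_card_subgroup D.ker,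
    Nat.card_congr (QuotientGroup.quotientKerEquivRange D).toEquiv]

/-- The norm onto the fixed field is surjective. -/
theorem range_unorm {σ : F ≃+* F} {r : ℕ} (hr : 0 < r) (hσ : orderOf σ = r) :
    (unorm σ r).range = fixedUnits σ := by
  refine Subgroup.eq_of_le_of_card_ge (fun x ⟨c, hc⟩ => hc ▸ unorm_mem_fixedUnits hσ c) ?_
  set D : Fˣ →* Fˣ := MonoidHom.id Fˣ * (Units.map σ.toRingHom.toMonoidHom)⁻¹ with hD
  have hker : (unorm σ r).ker ≤ D.range := fun c hc => by
    obtain ⟨d, hd⟩ := exists_eq_div_map_of_unorm hr hσ c hc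
    exact ⟨d, hd.symm⟩
  have h1 : Nat.card Fˣ = Nat.card (unorm σ r).range * Nat.card (unorm σ r).ker := by
    rw [Subgroup.card_eq_card_quotient_mul_card_subgroup (unorm σ r).ker,
      Nat.card_congr (QuotientGroup.quotientKerEquivRange (unorm σ r)).toEquiv]
  have h2 := card_units_eq_card_range_mul (σ := σ)
  have h3 := Subgroup.card_le_of_le hker
  refine Nat.le_of_mul_le_mul_right ?_ (Nat.card_pos (α := (unorm σ r).ker))
  rw [← h1, h2, mul_comm (Nat.card D.range)]
  exact Nat.mul_le_mul_left _ h3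

theorem exists_unorm_eq {σ : F ≃+* F} {r : ℕ} (hr : 0 < r) (hσ : orderOf σ = r) (c : Fˣ)
    (hc : σ (c : F) = c) : ∃ d, unorm σ r d = c := by
  have : c ∈ (unorm σ r).range := by rw [range_unorm hr hσ]; exact hc
  exact this

end CfsgLib.AutPSL
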