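import Cfsg.Agent.Lib.AutPSL.Structure
import Cfsg.Agent.Lib.SL2.PSL
import Cfsg.Agent.Lib.Classical.Transvection

/-!
`PSL_2(q)` with abelian Sylow 2-subgroups: such a subgroup is a four-group, and it is its own
centraliser among the 2-elements of the automorphism group.
-/

set_option autoImplicit false
set_option linter.style.haveILetI false

namespace CfsgLib.FourCentral

open Matrix
open scoped MatrixGroups

open scoped IsMulCommutative in
/-- An element of an abelian Sylow subgroup fixed by its normaliser dies in every abelian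
quotient; in particular it is trivial when the group is perfect. -/
theorem eq_one_of_normalizer_fixes {G : Type*} [Group G] [Finite G] {p : ℕ} [Fact p.Prime]
    (hperf : commutator G = ⊤) (P : Sylow p G) (hab : IsMulCommutative (P : Subgroup G)) {z : G}
    (hz : z ∈ (P : Subgroup G))
    (hfix : ∀ n ∈ Subgroup.normalizer ((P : Subgroup G) : Set G), n * z * n⁻¹ = z) : z = 1 := by
  classical
  haveI := hab
  let ψ : G →* ↥(P : Subgroup G) :=
    MonoidHom.transfer (H := (P : Subgroup G)) (MonoidHom.id ↥(P : Subgroup G))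
  have hkey : ∀ (k : ℕ) (g₀ : G), g₀⁻¹ * z ^ k * g₀ ∈ (P : Subgroup G) → g₀⁻¹ * z ^ k * g₀ = z ^ k := by
    intro k g₀ hk
    obtain ⟨n, hn, e⟩ := P.conj_eq_normalizer_conj_of_mem (z ^ k) g₀ (pow_mem hz k) hk
    rw [e]
    have h := hfix n⁻¹ (inv_mem hn)
    rw [inv_inv] at h
    calc n⁻¹ * z ^ k * n = (n⁻¹ * z * n⁻¹⁻¹) ^ k := by rw [conj_pow, inv_inv]
      _ = z ^ k := by rw [inv_inv, h]
  have h1 : ψ z = ⟨z ^ (P : Subgroup G).index,
      MonoidHom.transfer_eq_pow_aux (H := (P : Subgroup G)) z hkey⟩ :=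
    MonoidHom.transfer_eq_pow _ z hkey
  have hker : ψ z = 1 := by
    rw [← MonoidHom.mem_ker]
    have hle : commutator G ≤ ψ.ker := by
      rw [commutator_def, Subgroup.commutator_le]
      intro a _ b _
      rw [MonoidHom.mem_ker, map_commutatorElement]
      exact commutatorElement_eq_one_iff_mul_comm.mpr (hab.is_comm.comm _ _)
    exact hle (hperf ▸ Subgroup.mem_top z)
  rw [h1] at hker
  have h2 : z ^ (P : Subgroup G).index = 1 := congrArg Subtype.val hker
  obtain ⟨j, hj⟩ := P.isPGroup' ⟨z, hz⟩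
  have h3 : z ^ p ^ j = 1 := congrArg Subtype.val hj
  have hco : Nat.Coprime (p ^ j) (P : Subgroup G).index :=
    Nat.Coprime.pow_left j ((Fact.out : p.Prime).coprime_iff_not_dvd.mpr P.not_dvd_index)
  have h4 : orderOf z ∣ 1 := hco ▸ Nat.dvd_gcd (orderOf_dvd_of_pow_eq_one h3) (orderOf_dvd_of_pow_eq_one h2)
  exact orderOf_eq_one_iff.mp (Nat.dvd_one.mp h4)

variable {F : Type*} [Field F]

local notation "PSL" => Matrix.ProjectiveSpecialLinearGroup (Fin 2) F

theorem traceless_add (X Y : Matrix (Fin 2) (Fin 2) F) (hX : X.trace = 0) (hY : Y.trace = 0) :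
    X * Y + Y * X = (X * Y).trace • (1 : Matrix (Fin 2) (Fin 2) F) := by
  rw [Matrix.trace_fin_two] at hX hY
  have hX' : X 1 1 = - X 0 0 := by linear_combination hX
  have hY' : Y 1 1 = - Y 0 0 := by linear_combination hY
  ext i j
  fin_cases i <;> fin_cases j <;>
    simp [Matrix.mul_apply, Fin.sum_univ_two, Matrix.trace_fin_two, hX', hY'] <;> ring

/-- A matrix commuting with two anticommuting square roots of `-1` is scalar. -/
theorem scalar_of_commute (h2 : (2 : F) ≠ 0) {A B X : Matrix (Fin 2) (Fin 2) F}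
    (hA : A.trace = 0) (hB : B.trace = 0) (hAA : A * A = -1) (hBB : B * B = -1)
    (hAB : B * A = -(A * B)) (hXA : X * A = A * X) (hXB : X * B = B * X) :
    ∃ c : F, X = c • (1 : Matrix (Fin 2) (Fin 2) F) := by
  refine ⟨X.trace / 2, ?_⟩
  set Y := X - (X.trace / 2) • (1 : Matrix (Fin 2) (Fin 2) F) with hYdef
  have hY : Y.trace = 0 := by
    rw [hYdef, Matrix.trace_sub, Matrix.trace_smul, Matrix.trace_one, Fintype.card_fin,
      smul_eq_mul]
    push_cast
    field_simp
    ring
  have key : ∀ C : Matrix (Fin 2) (Fin 2) F, C.trace = 0 → C * C = -1 → X * C = C * X →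
      ∃ d : F, Y = d • C := by
    intro C hC hCC hXC
    have hYC : Y * C = C * Y := by
      rw [hYdef, sub_mul, mul_sub, hXC, Matrix.smul_mul, Matrix.mul_smul, one_mul, mul_one]
    refine ⟨-((Y * C).trace / 2), ?_⟩
    have h := traceless_add Y C hY hC
    rw [← hYC, ← two_smul F (Y * C)] at h
    have h' : Y * C = ((Y * C).trace / 2) • (1 : Matrix (Fin 2) (Fin 2) F) := by
      have h1 := congrArg ((2 : F)⁻¹ • ·) h
      simp only [smul_smul, inv_mul_cancel₀ h2, one_smul] at h1
      rw [div_eq_inv_mul]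
      exact h1
    calc Y = -(Y * C) * C := by rw [neg_mul, Matrix.mul_assoc, hCC, mul_neg, neg_neg, mul_one]
      _ = -(((Y * C).trace / 2) • (1 : Matrix (Fin 2) (Fin 2) F)) * C := by rw [← h']
      _ = _ := by rw [neg_mul, Matrix.smul_mul, one_mul, neg_smul]
  obtain ⟨d, hd⟩ := key A hA hAA hXA
  obtain ⟨e, he⟩ := key B hB hBB hXB
  have hd0 : d = 0 := by
    by_contra hd0
    have hAe : A = (d⁻¹ * e) • B := by
      rw [mul_smul, ← he, hd, smul_smul, inv_mul_cancel₀ hd0, one_smul]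
    have hc : B * A = A * B := by rw [hAe, Matrix.mul_smul, Matrix.smul_mul]
    rw [hc] at hAB
    have h0 : (2 : F) • (A * B) = 0 := by
      rw [two_smul]
      exact eq_neg_iff_add_eq_zero.mp hAB
    rcases smul_eq_zero.mp h0 with h | h
    · exact h2 h
    · have h' := congrArg (A * ·) h
      simp only [← Matrix.mul_assoc, hAA, mul_zero, neg_mul, one_mul, neg_eq_zero] at h'
      rw [h', mul_zero] at hBB
      exact one_ne_zero (neg_eq_zero.mp hBB.symm)
  rw [hd0, zero_smul, hYdef, sub_eq_zero] at hd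
  exact hd

open CfsgLib.SL2

theorem center_cases (h : SL(2, F)) (hh : h ∈ Subgroup.center SL(2, F)) : h = 1 ∨ h = -1 :=
  eq_one_or_eq_neg_one_of_mem_center h hh

/-- Lifts of two distinct commuting involutions. -/
theorem lifts (h2 : (2 : F) ≠ 0) {a b : PSL} (ha : a * a = 1) (hb : b * b = 1) (hc : a * b = b * a)
    (ha1 : a ≠ 1) (hb1 : b ≠ 1) (hne : a ≠ b) :
    ∃ A B : SL(2, F), proj A = a ∧ proj B = b ∧ A * A = -1 ∧ B * B = -1 ∧ B * A = -(A * B) := by
  have hsq : ∀ (A : SL(2, F)), proj A * proj A = 1 → proj A ≠ 1 → A * A = -1 := by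
    intro A h h1
    rw [← map_mul, proj_eq_one_iff] at h
    rcases center_cases _ h with e | e
    · exfalso
      by_cases hA : A = 1
      · exact h1 (by rw [hA, map_one])
      · exact h1 ((proj_eq_one_iff A).mpr (eq_neg_one_of_mul_self h2 e hA ▸ neg_one_mem_center))
    · exact e
  obtain ⟨A, rfl⟩ := proj_surjective a
  obtain ⟨B, rfl⟩ := proj_surjective b
  have hA := hsq A ha ha1
  have hB := hsq B hb hb1
  refine ⟨A, B, rfl, rfl, hA, hB, ?_⟩
  have hz : B * A * (A * B)⁻¹ ∈ Subgroup.center SL(2, F) := by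
    rw [← proj_eq_one_iff, map_mul, map_inv, map_mul, map_mul, hc, mul_inv_cancel]
  rcases center_cases _ hz with e | e
  · exfalso
    rw [mul_inv_eq_one] at e
    have hAB : (A * B) * (A * B) = 1 := by
      calc (A * B) * (A * B) = A * (B * A) * B := by simp only [mul_assoc]
        _ = (A * A) * (B * B) := by rw [e]; simp only [mul_assoc]
        _ = 1 := by rw [hA, hB, neg_mul_neg, one_mul]
    have h1 : proj (A * B) = 1 := by
      by_cases h : A * B = 1
      · rw [h, map_one]
      · exact (proj_eq_one_iff _).mpr (eq_neg_one_of_mul_self h2 hAB h ▸ neg_one_mem_center)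
    rw [map_mul] at h1
    apply hne
    calc proj A = proj A * (proj B * proj B) := by rw [hb, mul_one]
      _ = proj B := by rw [← mul_assoc, h1, one_mul]
  · rw [mul_inv_eq_iff_eq_mul] at e
    rw [e, neg_one_mul]

open CfsgLib.AutPSL in
/-- A matrix automorphism fixing two distinct commuting involutions is conjugation by an element
of the four-group they generate. -/
theorem delta_fix (h2 : (2 : F) ≠ 0) {a b : PSL} (ha : a * a = 1) (hb : b * b = 1)
    (hc : a * b = b * a) (ha1 : a ≠ 1) (hb1 : b ≠ 1) (hne : a ≠ b) (g : GL (Fin 2) F)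
    (hga : delta g a = a) (hgb : delta g b = b) :
    ∃ v : PSL, (v = 1 ∨ v = a ∨ v = b ∨ v = a * b) ∧ delta g = MulAut.conj v := by
  obtain ⟨A, B, hpa, hpb, hAA, hBB, hBA⟩ := lifts h2 ha hb hc ha1 hb1 hne
  have hsign : ∀ (C : SL(2, F)), delta g (proj C) = proj C → conjMat g C = C ∨ conjMat g C = -C := by
    intro C hC
    have hz : conjMat g C * C⁻¹ ∈ Subgroup.center SL(2, F) := by
      rw [← proj_eq_one_iff, map_mul, map_inv, mul_inv_eq_one]
      exact (delta_mkP g C).symm.trans hC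
    rcases center_cases _ hz with e | e
    · exact Or.inl (mul_inv_eq_one.mp e)
    · rw [mul_inv_eq_iff_eq_mul] at e
      exact Or.inr (by rw [e, neg_one_mul])
  have hneg : ∀ (h : GL (Fin 2) F) (C : SL(2, F)), conjMat h (-C) = -conjMat h C := by
    intro h C
    apply Subtype.ext
    rw [conjMat_coe, Matrix.SpecialLinearGroup.coe_neg, Matrix.SpecialLinearGroup.coe_neg, conjMat_coe,
      Matrix.mul_neg, Matrix.neg_mul]
  have hAinv : A⁻¹ = -A := inv_eq_of_mul_eq_one_right (by rw [mul_neg, hAA, neg_neg])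
  have hBinv : B⁻¹ = -B := inv_eq_of_mul_eq_one_right (by rw [mul_neg, hBB, neg_neg])
  have hAfB : A * B * A⁻¹ = -B := by
    rw [hAinv, mul_neg, mul_assoc, hBA, mul_neg, neg_neg, ← mul_assoc, hAA, neg_one_mul]
  have hBfA : B * A * B⁻¹ = -A := by
    rw [hBinv, mul_neg, hBA, neg_mul, neg_neg, mul_assoc, hBB, mul_neg, mul_one]
  obtain ⟨u, hu, huA, huB⟩ : ∃ u : SL(2, F), (proj u = 1 ∨ proj u = a ∨ proj u = b ∨ proj u = a * b) ∧
      conjMat g (u * A * u⁻¹) = A ∧ conjMat g (u * B * u⁻¹) = B := by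
    rcases hsign A (hpa.symm ▸ hga) with eA | eA <;> rcases hsign B (hpb.symm ▸ hgb) with eB | eB
    · exact ⟨1, Or.inl (map_one _), by simpa using eA, by simpa using eB⟩
    · exact ⟨A, Or.inr (Or.inl hpa), by rw [mul_inv_cancel_right]; exact eA, by
        rw [hAfB, hneg, eB, neg_neg]⟩
    · exact ⟨B, Or.inr (Or.inr (Or.inl hpb)), by rw [hBfA, hneg, eA, neg_neg], by
        rw [mul_inv_cancel_right]; exact eB⟩
    · refine ⟨A * B, Or.inr (Or.inr (Or.inr (by rw [map_mul, hpa, hpb]))), ?_, ?_⟩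
      · rw [show A * B * A * (A * B)⁻¹ = A * (B * A * B⁻¹) * A⁻¹ by simp [_root_.mul_inv_rev, mul_assoc],
          hBfA, mul_neg, neg_mul, mul_inv_cancel_right, hneg, eA, neg_neg]
      · rw [show A * B * B * (A * B)⁻¹ = A * B * A⁻¹ by simp [_root_.mul_inv_rev, mul_assoc], hAfB, hneg,
          eB, neg_neg]
  set g' : GL (Fin 2) F := g * Matrix.SpecialLinearGroup.toGL u with hg'
  have hcomm : ∀ C : SL(2, F), conjMat g (u * C * u⁻¹) = C →
      (g' : Matrix (Fin 2) (Fin 2) F) * (C : Matrix (Fin 2) (Fin 2) F) =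
        (C : Matrix (Fin 2) (Fin 2) F) * (g' : Matrix (Fin 2) (Fin 2) F) := by
    intro C hC
    rw [← conjMat_toGL, ← conjMat_mul_left] at hC
    have h := congrArg (fun x : SL(2, F) => (x : Matrix (Fin 2) (Fin 2) F) * (g' : Matrix (Fin 2) (Fin 2) F)) hC
    simp only [conjMat_coe, ← hg'] at h
    rwa [Matrix.mul_assoc, Units.inv_mul, Matrix.mul_one] at h
  have htr : ∀ C : SL(2, F), C * C = -1 → (C : Matrix (Fin 2) (Fin 2) F).trace = 0 :=
    fun C hC => trace_eq_zero_of_mul_self h2 hC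
  have hcoe : ∀ C : SL(2, F), C * C = -1 →
      (C : Matrix (Fin 2) (Fin 2) F) * (C : Matrix (Fin 2) (Fin 2) F) = -1 := by
    intro C hC
    rw [← Matrix.SpecialLinearGroup.coe_mul, hC]
    simp
  obtain ⟨c, hc'⟩ := scalar_of_commute h2 (htr A hAA) (htr B hBB) (hcoe A hAA) (hcoe B hBB)
    (by rw [← Matrix.SpecialLinearGroup.coe_mul, hBA]; simp) (hcomm A huA) (hcomm B huB)
  have hone : delta g' = 1 := by
    refine delta_eq_one_of_mem_center (Subgroup.mem_center_iff.mpr fun x => Units.ext ?_)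
    rw [Units.val_mul x g', Units.val_mul g' x, hc', Matrix.smul_mul, Matrix.mul_smul, one_mul, mul_one]
  rw [hg', map_mul, delta_toGL] at hone
  refine ⟨(proj u)⁻¹, ?_, ?_⟩
  · rcases hu with e | e | e | e <;> rw [e]
    · simp
    · exact Or.inr (Or.inl (inv_eq_of_mul_eq_one_right ha))
    · exact Or.inr (Or.inr (Or.inl (inv_eq_of_mul_eq_one_right hb)))
    · refine Or.inr (Or.inr (Or.inr ?_))
      rw [_root_.mul_inv_rev, inv_eq_of_mul_eq_one_right ha, inv_eq_of_mul_eq_one_right hb, hc]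
  · rw [map_inv]
    exact eq_inv_of_mul_eq_one_left hone

variable [Finite F]

theorem isSimpleGroup_psl (h3 : 3 < Nat.card F) : IsSimpleGroup PSL := by
  refine CfsgLib.Classical.isSimpleGroup_PSL (Or.inr ?_)
  classical
  haveI := Fintype.ofFinite F
  rw [Nat.card_eq_fintype_card] at h3
  by_contra hall
  push Not at hall
  have : (Finset.univ : Finset F) ⊆ {0, 1, -1} := by
    intro x _
    simp only [Finset.mem_insert, Finset.mem_singleton]
    by_cases h0 : x = 0
    · exact Or.inl h0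
    exact Or.inr (sq_eq_one_iff.mp (hall x h0))
  have h := (Finset.card_le_card this).trans Finset.card_le_three
  rw [Finset.card_univ] at h
  omega

theorem four_dvd_card (hodd : Odd (Nat.card F)) (h3 : 3 < Nat.card F) : 4 ∣ Nat.card PSL := by
  have h := card_PSL (F := F)
  obtain ⟨m, hm⟩ := hodd
  rw [hm, show 2 * m + 1 - 1 = 2 * m by omega, Nat.gcd_mul_right_right,
    show (2 * m) * (2 * m + 1 + 1) = 4 * (m * (m + 1)) by ring] at h
  obtain ⟨k, hk⟩ := Nat.even_mul_succ_self m
  rw [hk, show (2 * m + 1) * (4 * (k + k)) = 2 * (4 * ((2 * m + 1) * k)) by ring] at h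
  exact Dvd.intro _ (Nat.eq_of_mul_eq_mul_left two_pos h).symm

/-- An abelian Sylow 2-subgroup of `PSL_2(q)`, `q` odd, is a four-group. -/
theorem sylow_four (hodd : Odd (Nat.card F)) (h3 : 3 < Nat.card F) (P : Sylow 2 PSL)
    (hab : IsMulCommutative (P : Subgroup PSL)) :
    Nat.card (P : Subgroup PSL) = 4 ∧ (∀ x ∈ (P : Subgroup PSL), x * x = 1) ∧
      ∃ n ∈ Subgroup.normalizer ((P : Subgroup PSL) : Set PSL),
        ∃ x ∈ (P : Subgroup PSL), n * x * n⁻¹ ≠ x := by
  classical
  haveI := isSimpleGroup_psl (F := F) h3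
  have h2 : (2 : F) ≠ 0 := odd_card_two_ne_zero hodd
  haveI : Nontrivial PSL := IsSimpleGroup.toNontrivial
  have h4 := P.pow_dvd_card_of_pow_dvd_card (n := 2) (four_dvd_card hodd h3)
  have hperf : commutator PSL = ⊤ := by
    rcases (inferInstance : (commutator PSL).Normal).eq_bot_or_eq_top with h | h
    · exfalso
      have hcomm : IsMulCommutative PSL := ⟨⟨fun x y => commutatorElement_eq_one_iff_mul_comm.mp (by
        rw [← Subgroup.mem_bot, ← h]
        exact Subgroup.commutator_mem_commutator (Subgroup.mem_top x) (Subgroup.mem_top y))⟩⟩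
      letI : CommGroup PSL := { (inferInstance : Group PSL) with mul_comm := hcomm.is_comm.comm }
      have hp : (Nat.card PSL).Prime := IsSimpleGroup.prime_card
      have := (Nat.prime_dvd_prime_iff_eq Nat.prime_two hp).mp
        (dvd_trans (by norm_num) (four_dvd_card (F := F) hodd h3))
      have := four_dvd_card (F := F) hodd h3
      omega
    · exact h
  obtain ⟨⟨a, haP⟩, hao⟩ := exists_prime_orderOf_dvd_card' (G := (P : Subgroup PSL)) 2
    (dvd_trans (by norm_num) h4)
  rw [Subgroup.orderOf_mk] at hao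
  have ha : a * a = 1 := by
    have h := pow_orderOf_eq_one a
    rwa [hao, pow_two] at h
  have ha1 : a ≠ 1 := fun e => by rw [e, orderOf_one] at hao; omega
  obtain ⟨n, hn, hna⟩ : ∃ n ∈ Subgroup.normalizer ((P : Subgroup PSL) : Set PSL), n * a * n⁻¹ ≠ a := by
    by_contra hall
    push Not at hall
    exact ha1 (eq_one_of_normalizer_fixes hperf P hab haP hall)
  set b := n * a * n⁻¹ with hbdef
  have hbP : b ∈ (P : Subgroup PSL) := (Subgroup.mem_normalizer_iff.mp hn a).mp haP
  have hb : b * b = 1 := by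
    rw [hbdef, show n * a * n⁻¹ * (n * a * n⁻¹) = n * (a * a) * n⁻¹ by group, ha, mul_one, mul_inv_cancel]
  have hb1 : b ≠ 1 := fun e => ha1 (by
    rw [hbdef, mul_inv_eq_one] at e
    exact mul_eq_left.mp e)
  have hc : a * b = b * a := congrArg Subtype.val (hab.is_comm.comm (⟨a, haP⟩ : (P : Subgroup PSL)) ⟨b, hbP⟩)
  have hmem : ∀ x ∈ (P : Subgroup PSL), x = 1 ∨ x = a ∨ x = b ∨ x = a * b := by
    intro x hx
    obtain ⟨X, hX⟩ := proj_surjective x
    have hfix : ∀ y ∈ (P : Subgroup PSL), CfsgLib.AutPSL.delta (Matrix.SpecialLinearGroup.toGL X) y = y := by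
      intro y hy
      rw [CfsgLib.AutPSL.delta_toGL]
      show proj X * y * (proj X)⁻¹ = y
      rw [hX, show x * y = y * x from congrArg Subtype.val (hab.is_comm.comm (⟨x, hx⟩ : (P : Subgroup PSL)) ⟨y, hy⟩),
        mul_inv_cancel_right]
    obtain ⟨v, hv, he⟩ := delta_fix h2 ha hb hc ha1 hb1 (Ne.symm hna) _ (hfix a haP) (hfix b hbP)
    rw [CfsgLib.AutPSL.delta_toGL] at he
    have hxv : x = v := by
      have hz : (proj X)⁻¹ * v ∈ Subgroup.center PSL := by
        rw [Subgroup.mem_center_iff]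
        intro y
        have e : proj X * y * (proj X)⁻¹ = v * y * v⁻¹ := DFunLike.congr_fun he y
        calc y * ((proj X)⁻¹ * v) = (proj X)⁻¹ * (proj X * y * (proj X)⁻¹) * v := by group
          _ = _ := by rw [e]; group
      rcases (inferInstance : (Subgroup.center PSL).Normal).eq_bot_or_eq_top with h | h
      · rw [h, Subgroup.mem_bot, inv_mul_eq_one, hX] at hz; exact hz
      · exfalso
        have ha' : a ∈ Subgroup.center PSL := h ▸ Subgroup.mem_top a
        exact hna (by rw [hbdef, Subgroup.mem_center_iff.mp ha' n, mul_inv_cancel_right])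
    rw [hxv]; exact hv
  refine ⟨le_antisymm ?_ (Nat.le_of_dvd Nat.card_pos h4), fun x hx => ?_, n, hn, a, haP, hna⟩
  · calc Nat.card (P : Subgroup PSL) ≤ Nat.card ({1, a, b, a * b} : Finset PSL) := by
          refine Nat.card_le_card_of_injective (fun x => ⟨x.1, by simpa using hmem x x.2⟩) fun x y h => ?_
          exact Subtype.ext (congrArg (fun z => z.1) h)
      _ ≤ 4 := by rw [Nat.card_eq_finsetCard]; exact Finset.card_le_four
  · rcases hmem x hx with rfl | rfl | rfl | rfl
    · exact one_mul 1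
    · exact ha
    · exact hb
    · calc a * b * (a * b) = a * (b * a) * b := by group
        _ = (a * a) * (b * b) := by rw [← hc]; group
        _ = 1 := by rw [ha, hb, one_mul]

/-- A 2-automorphism centralising an abelian Sylow 2-subgroup of `PSL_2(q)` is inner. -/
theorem exists_conj_of_fix (hodd : Odd (Nat.card F)) (h3 : 3 < Nat.card F) (P : Sylow 2 PSL)
    (hab : IsMulCommutative (P : Subgroup PSL)) (α : MulAut PSL) (k : ℕ) (hα : α ^ 2 ^ k = 1)
    (hfix : ∀ x ∈ (P : Subgroup PSL), α x = x) :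
    ∃ v ∈ (P : Subgroup PSL), α = MulAut.conj v := by
  classical
  letI := Fintype.ofFinite F
  obtain ⟨h4, hsq, n, hn, a, haP, hna⟩ := sylow_four hodd h3 P hab
  have h2 : (2 : F) ≠ 0 := odd_card_two_ne_zero hodd
  obtain ⟨p, hp⟩ := CharP.exists F
  obtain ⟨f, hpp, hf⟩ := FiniteField.card F p
  haveI : Fact p.Prime := ⟨hpp⟩
  have hfodd : Odd (f : ℕ) := by
    by_contra he
    rw [Nat.not_odd_iff_even] at he
    obtain ⟨r, hr⟩ := he
    have hq : Nat.card F = p ^ r * p ^ r := by rw [Nat.card_eq_fintype_card, hf, hr, pow_add]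
    have hro : Odd (p ^ r) := (Nat.odd_mul.mp (hq ▸ hodd)).1
    obtain ⟨m, hm⟩ := hro
    obtain ⟨j, hj⟩ := Nat.even_mul_succ_self m
    have hq1 : Nat.card F = 2 * (2 * (2 * j)) + 1 := by
      rw [hq, hm, show 2 * (2 * (2 * j)) = 4 * (j + j) by ring, ← hj]; ring
    have h8 : 2 ^ 3 ∣ Nat.card PSL := by
      have h := card_PSL (F := F)
      rw [hq1, show 2 * (2 * (2 * j)) + 1 - 1 = 2 * (2 * (2 * j)) by omega, Nat.gcd_mul_right_right,
        show (2 * (2 * (2 * j)) + 1) * (2 * (2 * (2 * j)) * (2 * (2 * (2 * j)) + 1 + 1)) =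
          2 * (2 ^ 3 * ((8 * j + 1) * (j * (4 * j + 1)))) by ring] at h
      exact Dvd.intro _ (Nat.eq_of_mul_eq_mul_left two_pos h).symm
    have := Nat.le_of_dvd Nat.card_pos (P.pow_dvd_card_of_pow_dvd_card h8)
    omega
  have hσ : CfsgLib.AutPSL.componentTwo p α = 1 := by
    set σ := CfsgLib.AutPSL.componentTwo p α
    have h1 : σ ^ 2 ^ k = 1 := by rw [← map_pow, hα, map_one]
    have h5 : σ ^ (f : ℕ) = 1 := by
      rw [← (CfsgLib.AutPSL.card_ringAut_isCyclic (F := F) hf f.pos).2]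
      exact pow_card_eq_one'
    have hco : Nat.Coprime (2 ^ k) (f : ℕ) := Nat.Coprime.pow_left k (Nat.coprime_two_left.mpr hfodd)
    exact orderOf_eq_one_iff.mp (Nat.dvd_one.mp
      (hco ▸ Nat.dvd_gcd (orderOf_dvd_of_pow_eq_one h1) (orderOf_dvd_of_pow_eq_one h5)))
  rw [← MonoidHom.mem_ker, CfsgLib.AutPSL.ker_componentTwo] at hσ
  obtain ⟨g, rfl⟩ := hσ
  have hbP : n * a * n⁻¹ ∈ (P : Subgroup PSL) := (Subgroup.mem_normalizer_iff.mp hn a).mp haP
  have ha1 : a ≠ 1 := fun e => hna (by rw [e, mul_one, mul_inv_cancel])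
  have hb1 : n * a * n⁻¹ ≠ 1 := fun e => ha1 (mul_eq_left.mp (mul_inv_eq_one.mp e))
  obtain ⟨v, hv, he⟩ := delta_fix h2 (hsq a haP) (hsq _ hbP)
    (congrArg Subtype.val (hab.is_comm.comm (⟨a, haP⟩ : (P : Subgroup PSL)) ⟨_, hbP⟩))
    ha1 hb1 (Ne.symm hna) g (hfix a haP) (hfix _ hbP)
  refine ⟨v, ?_, he⟩
  rcases hv with rfl | rfl | rfl | rfl
  exacts [one_mem _, haP, hbP, mul_mem haP hbP]

end CfsgLib.FourCentral
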