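import Cfsg.Agent.Lib.AutPSL.Sylow

set_option autoImplicit false

/-!
An automorphism of `PSL_n(F)` can be composed with a matrix automorphism and possibly
inverse-transpose so that it fixes every elementary root subgroup.
-/

namespace CfsgLib.AutPSL

open Matrix
open scoped MatrixGroups

/-- In a configuration indexed by ordered pairs, with rows and columns agreeing in exactly one of
two labels and consecutive pairs in none, either rows share the first label and columns the second,
or the other way round. -/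
theorem rows_or_cols {ι α γ : Type*} (P : ι → ι → α) (H : ι → ι → γ)
    (row : ∀ i j k, i ≠ j → i ≠ k → j ≠ k → (P i j = P i k ↔ ¬ H i j = H i k))
    (col : ∀ i j k, i ≠ j → k ≠ j → i ≠ k → (P i j = P k j ↔ ¬ H i j = H k j))
    (nP : ∀ i j k, i ≠ j → j ≠ k → P i j ≠ P j k)
    (nH : ∀ i j k, i ≠ j → j ≠ k → H i j ≠ H j k) :
    (∀ i j k, i ≠ j → i ≠ k → P i j = P i k ∧ H j i = H k i) ∨
      (∀ i j k, i ≠ j → i ≠ k → H i j = H i k ∧ P j i = P k i) := by
  -- a row edge of the first type forces the column edge through it to be of the second type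
  have rc : ∀ i j k, i ≠ j → i ≠ k → j ≠ k → P i j = P i k → H i j = H k j := by
    intro i j k hij hik hjk h
    by_contra hH
    exact nP i k j hik hjk.symm (h.symm.trans ((col i j k hij hjk.symm hik).2 hH))
  have cr : ∀ i j k, i ≠ j → i ≠ k → j ≠ k → H i j = H k j → P k j = P k i := by
    intro i j k hij hik hjk h
    by_contra hP
    have : H k j = H k i := by
      by_contra hH
      exact hP ((row k j i hjk.symm hik.symm hij.symm).2 hH)
    exact nH k i j hik.symm hij (this.symm.trans h.symm)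
  have clique : ∀ i j k l, i ≠ j → i ≠ k → i ≠ l → j ≠ k → P i j = P i k → P i j = P i l := by
    intro i j k l hij hik hil hjk h
    by_cases hjl : j = l
    · rw [hjl]
    by_cases hkl : k = l
    · rw [← hkl]; exact h
    by_contra hP
    have hH : H i j = H i l := by
      by_contra hH
      exact hP ((row i j l hij hil hjl).2 hH)
    by_cases h2 : H i k = H i l
    · exact (row i j k hij hik hjk).1 h (hH.trans h2.symm)
    · exact hP (h.trans ((row i k l hik hil hkl).2 h2))
  by_cases hex : ∃ i j k, i ≠ j ∧ i ≠ k ∧ j ≠ k ∧ P i j = P i k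
  · left
    obtain ⟨i₀, j₀, k₀, hij, hik, hjk, h⟩ := hex
    have hi₀ : ∀ j k, i₀ ≠ j → i₀ ≠ k → P i₀ j = P i₀ k := fun j k hj hk =>
      (clique i₀ j₀ k₀ j hij hik hj hjk h).symm.trans (clique i₀ j₀ k₀ k hij hik hk hjk h)
    have hall : ∀ i j k, i ≠ j → i ≠ k → P i j = P i k := by
      intro i j k hj hk
      by_cases hi : i = i₀
      · subst hi; exact hi₀ j k hj hk
      obtain ⟨l, hl0, hli⟩ : ∃ l, i₀ ≠ l ∧ l ≠ i := by
        by_cases e : j₀ = i
        · exact ⟨k₀, hik, fun e' => hjk (e.trans e'.symm)⟩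
        · exact ⟨j₀, hij, e⟩
      have h1 : P i l = P i i₀ :=
        cr i₀ l i hl0 (Ne.symm hi) hli
          (rc i₀ l i hl0 (Ne.symm hi) hli (hi₀ l i hl0 (Ne.symm hi)))
      exact (clique i l i₀ j hli.symm hi hj hl0.symm h1).symm.trans
        (clique i l i₀ k hli.symm hi hk hl0.symm h1)
    intro i j k hj hk
    refine ⟨hall i j k hj hk, ?_⟩
    by_cases hjk' : j = k
    · rw [hjk']
    · exact rc j i k hj.symm hjk' hk (hall j i k hj.symm hjk')
  · right
    simp only [not_exists, not_and] at hex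
    intro i j k hj hk
    by_cases hjk' : j = k
    · rw [hjk']; exact ⟨rfl, rfl⟩
    refine ⟨?_, ?_⟩
    · by_contra hH
      exact hex i j k hj hk hjk' ((row i j k hj hk hjk').2 hH)
    · by_contra hP
      have hH : H j i = H k i := by
        by_contra hH
        exact hP ((col j i k hj.symm hk.symm hjk').2 hH)
      exact hex k i j hk.symm (Ne.symm hjk') hj (cr j i k hj.symm hjk' hk hH)

variable {n : ℕ} {F : Type*} [Field F]

/-- All `2 × 2` minors of `v, w` vanish and `v ≠ 0`: `w` is a multiple of `v`. -/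
theorem exists_smul_of_minors {v w : Fin n → F} (hv : v ≠ 0)
    (h : ∀ a c, v a * w c = v c * w a) : ∃ t : F, w = t • v := by
  obtain ⟨a, ha⟩ := Function.ne_iff.1 hv
  rw [Pi.zero_apply] at ha
  refine ⟨w a / v a, funext fun c => ?_⟩
  rw [Pi.smul_apply, smul_eq_mul]
  field_simp
  linear_combination h a c

theorem vecMulVec_mul_eq_zero {v φ v' φ' : Fin n → F} (h : φ ⬝ᵥ v' = 0) :
    vecMulVec v φ * vecMulVec v' φ' = 0 := by
  rw [vecMulVec_mul_vecMulVec, h, zero_smul, vecMulVec_zero]

theorem commute_tv {v φ v' φ' : Fin n → F} (h : φ ⬝ᵥ v = 0) (h' : φ' ⬝ᵥ v' = 0)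
    (h1 : φ ⬝ᵥ v' = 0) (h2 : φ' ⬝ᵥ v = 0) : Commute (tv v φ h) (tv v' φ' h') := by
  apply Subtype.ext
  simp [tv_coe, mul_add, add_mul, vecMulVec_mul_eq_zero h1, vecMulVec_mul_eq_zero h2,
    add_comm, add_left_comm]

theorem commute_rootSet {v φ v' φ' : Fin n → F} (h : φ ⬝ᵥ v = 0) (h' : φ' ⬝ᵥ v' = 0)
    (h1 : φ ⬝ᵥ v' = 0) (h2 : φ' ⬝ᵥ v = 0) {x y : PSL(n, F)} (hx : x ∈ rootSet v φ)
    (hy : y ∈ rootSet v' φ') : Commute x y := by
  obtain ⟨s, a, hs, rfl⟩ := hx
  obtain ⟨t, b, ht, rfl⟩ := hy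
  have hs' : s = tv (a • v) φ (dot_smul_left h a) := Subtype.ext hs
  have ht' : t = tv (b • v') φ' (dot_smul_left h' b) := Subtype.ext ht
  rw [hs', ht']
  exact (commute_tv _ _ (dot_smul_left h1 b) (dot_smul_left h2 a)).map mkP

variable (p : ℕ) [hp : Fact p.Prime] [CharP F p]

include hp in
theorem dot_eq_zero_of_commute {v φ v' φ' : Fin n → F} (hv : v ≠ 0) (hv' : v' ≠ 0)
    (hφ : φ ≠ 0) (hφ' : φ' ≠ 0) (h : φ ⬝ᵥ v = 0) (h' : φ' ⬝ᵥ v' = 0)
    (hc : Commute (tv v φ h : PSL(n, F)) (tv v' φ' h' : PSL(n, F))) :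
    φ ⬝ᵥ v' = 0 ∧ φ' ⬝ᵥ v = 0 := by
  have h1 := congrArg Subtype.val (commute_of_mk_commute p (tv_pow p v' φ' h') hc).eq
  simp only [Matrix.SpecialLinearGroup.coe_mul, tv_coe, mul_add, add_mul, mul_one, one_mul] at h1
  have h2 : vecMulVec v φ * vecMulVec v' φ' = vecMulVec v' φ' * vecMulVec v φ := by
    generalize vecMulVec v φ * vecMulVec v' φ' = X at h1 ⊢
    generalize vecMulVec v' φ' * vecMulVec v φ = Y at h1 ⊢
    generalize vecMulVec v φ = A at h1
    generalize vecMulVec v' φ' = B at h1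
    have e1 : 1 + A + (B + X) = (1 + A + B) + X := by abel
    have e2 : 1 + B + (A + Y) = (1 + A + B) + Y := by abel
    exact add_left_cancel (e1.symm.trans (h1.trans e2))
  rw [vecMulVec_mul_vecMulVec, vecMulVec_mul_vecMulVec] at h2
  have e : ∀ r s, v r * ((φ ⬝ᵥ v') * φ' s) = v' r * ((φ' ⬝ᵥ v) * φ s) := fun r s => by
    simpa [vecMulVec_apply] using congrFun (congrFun h2 r) s
  by_cases hc2 : φ' ⬝ᵥ v = 0
  · refine ⟨?_, hc2⟩
    obtain ⟨r, hr⟩ := Function.ne_iff.1 hv
    obtain ⟨s, hs⟩ := Function.ne_iff.1 hφ'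
    have := e r s
    rw [hc2, zero_mul, mul_zero] at this
    rcases mul_eq_zero.1 this with h3 | h3
    · exact absurd h3 hr
    · exact (mul_eq_zero.1 h3).resolve_right hs
  · exfalso
    obtain ⟨s, hs⟩ := Function.ne_iff.1 hφ
    rw [Pi.zero_apply] at hs
    have hne : (φ' ⬝ᵥ v) * φ s ≠ 0 := mul_ne_zero hc2 hs
    have ht : v' = ((φ ⬝ᵥ v') * φ' s / ((φ' ⬝ᵥ v) * φ s)) • v := by
      funext r
      rw [Pi.smul_apply, smul_eq_mul, eq_comm, div_mul_eq_mul_div, div_eq_iff hne,
        mul_comm ((φ ⬝ᵥ v') * φ' s) (v r)]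
      exact e r s
    set t := (φ ⬝ᵥ v') * φ' s / ((φ' ⬝ᵥ v) * φ s)
    rw [ht, dotProduct_smul, smul_eq_mul] at h'
    rcases mul_eq_zero.1 h' with ht0 | h'
    · exact hv' (by rw [ht, ht0, zero_smul])
    · exact hc2 h'

include hp in
theorem parallel_of_mul_mem {v φ v' φ' w ψ : Fin n → F} (hv : v ≠ 0) (hφ : φ ≠ 0)
    (h : φ ⬝ᵥ v = 0) (h' : φ' ⬝ᵥ v' = 0) (h1 : φ ⬝ᵥ v' = 0) (h2 : φ' ⬝ᵥ v = 0)
    (hw : ψ ⬝ᵥ w = 0)
    (hm : ((tv v φ h * tv v' φ' h' : SL(n, F)) : PSL(n, F)) ∈ rootSet w ψ) :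
    (∃ t : F, v' = t • v) ∨ (∃ t : F, φ' = t • φ) := by
  have hpow : (tv v φ h * tv v' φ' h') ^ p = 1 := by
    rw [(commute_tv h h' h1 h2).mul_pow, tv_pow, tv_pow, one_mul]
  obtain ⟨a, ha⟩ := eq_tv_of_mk_eq p hw hpow hm
  have hM := congrArg Subtype.val ha
  simp only [Matrix.SpecialLinearGroup.coe_mul, tv_coe, mul_add, add_mul, mul_one, one_mul,
    vecMulVec_mul_eq_zero h1, add_zero] at hM
  have hM' : ∀ r s, v r * φ s + v' r * φ' s = (a • w) r * ψ s := fun r s => by
    have := congrFun (congrFun hM r) s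
    simp [Matrix.add_apply, vecMulVec_apply] at this
    simp only [Pi.smul_apply, smul_eq_mul]
    linear_combination this
  by_cases hpar : ∀ b d, φ b * φ' d = φ d * φ' b
  · exact Or.inr (exists_smul_of_minors hφ hpar)
  simp only [not_forall] at hpar
  obtain ⟨b, d, hbd⟩ := hpar
  refine Or.inl (exists_smul_of_minors hv fun r c => ?_)
  have : (v r * v' c - v c * v' r) * (φ b * φ' d - φ d * φ' b) = 0 := by
    linear_combination (v c * φ d + v' c * φ' d) * hM' r b - (v c * φ b + v' c * φ' b) * hM' r d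
      + ((a • w) r * ψ b) * hM' c d - ((a • w) r * ψ d) * hM' c b
  rcases mul_eq_zero.1 this with h3 | h3
  · exact sub_eq_zero.1 h3
  · exact absurd (sub_eq_zero.1 h3) hbd

theorem graphAut_transvection {i j : Fin n} (hij : i ≠ j) (a : F) :
    (graphAut : MulAut PSL(n, F)) (Matrix.SpecialLinearGroup.transvection hij a : PSL(n, F)) =
      (Matrix.SpecialLinearGroup.transvection hij.symm (-a) : PSL(n, F)) := by
  rw [graphAut_mkP]
  congr 1
  apply Subtype.ext
  rw [invTr_coe, Matrix.SpecialLinearGroup.transvection_inv,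
    Matrix.SpecialLinearGroup.transvection_coe, Matrix.SpecialLinearGroup.transvection_coe,
    Matrix.transpose_add, Matrix.transpose_one, Matrix.transpose_single]

theorem graphAut_image_rootIJ {i j : Fin n} (hij : i ≠ j) :
    (graphAut : MulAut PSL(n, F)) '' rootIJ i j = rootIJ j i := by
  ext x
  constructor
  · rintro ⟨y, hy, rfl⟩
    obtain ⟨a, rfl⟩ := (mem_rootIJ_iff hij).1 hy
    exact (mem_rootIJ_iff hij.symm).2 ⟨-a, graphAut_transvection hij a⟩
  · intro hx
    obtain ⟨a, rfl⟩ := (mem_rootIJ_iff hij.symm).1 hx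
    exact ⟨_, transvection_mem_rootIJ hij (-a), by rw [graphAut_transvection, neg_neg]⟩

include hp in
/-- An automorphism carrying rows to a common point and columns to a common hyperplane agrees on
root subgroups with a matrix automorphism. -/
theorem frame_of_data (hn : 2 ≤ n) (β : MulAut PSL(n, F)) (v φ : Fin n → Fin n → Fin n → F)
    (hv : ∀ i j, v i j ≠ 0) (hφ : ∀ i j, φ i j ≠ 0)
    (hd : ∀ i j, i ≠ j → φ i j ⬝ᵥ v i j = 0)
    (himg : ∀ i j, i ≠ j → β '' rootIJ i j = rootSet (v i j) (φ i j))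
    (hrow : ∀ i j k, i ≠ j → i ≠ k → ∃ t : F, v i k = t • v i j)
    (hcol : ∀ i j k, i ≠ j → i ≠ k → ∃ t : F, φ k i = t • φ j i) :
    ∃ g : GL (Fin n) F, ∀ i j, i ≠ j → ((delta g)⁻¹ * β) '' rootIJ i j = rootIJ i j := by
  have : Nontrivial (Fin n) := Fin.nontrivial_iff_two_le.2 hn
  choose o ho using fun i : Fin n => exists_ne i
  set u : Fin n → Fin n → F := fun i => v i (o i) with hu
  set ω : Fin n → Fin n → F := fun j => φ (o j) j with hω
  have hvu : ∀ i j, i ≠ j → ∃ t : F, t ≠ 0 ∧ v i j = t • u i := by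
    intro i j hij
    obtain ⟨t, ht⟩ := hrow i (o i) j (ho i).symm hij
    exact ⟨t, fun e => hv i j (by rw [ht, e, zero_smul]), ht⟩
  have hφω : ∀ i j, i ≠ j → ∃ t : F, t ≠ 0 ∧ φ i j = t • ω j := by
    intro i j hij
    obtain ⟨t, ht⟩ := hcol j (o j) i (ho j).symm hij.symm
    exact ⟨t, fun e => hφ i j (by rw [ht, e, zero_smul]), ht⟩
  have hoff : ∀ i j, i ≠ j → ω j ⬝ᵥ u i = 0 := by
    intro i j hij
    obtain ⟨a, ha, hva⟩ := hvu i j hij
    obtain ⟨b, hb, hφb⟩ := hφω i j hij
    have := hd i j hij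
    rw [hva, hφb, smul_dotProduct, dotProduct_smul, smul_eq_mul, smul_eq_mul] at this
    simpa [ha, hb] using this
  -- consecutive root groups do not commute
  have hnc : ∀ i j k, i ≠ j → j ≠ k → ω j ⬝ᵥ u j ≠ 0 ∨ ω k ⬝ᵥ u i ≠ 0 := by
    intro i j k hij hjk
    by_contra hcon
    simp only [not_or, not_not] at hcon
    obtain ⟨a, -, hva⟩ := hvu i j hij
    obtain ⟨b, -, hφb⟩ := hφω i j hij
    obtain ⟨a', -, hva'⟩ := hvu j k hjk
    obtain ⟨b', -, hφb'⟩ := hφω j k hjk
    have h1 : φ i j ⬝ᵥ v j k = 0 := by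
      rw [hva', hφb, smul_dotProduct, dotProduct_smul, hcon.1, smul_zero, smul_zero]
    have h2 : φ j k ⬝ᵥ v i j = 0 := by
      rw [hva, hφb', smul_dotProduct, dotProduct_smul, hcon.2, smul_zero, smul_zero]
    apply not_commute_transvection (F := F) p hij hjk
    have hc := commute_rootSet (hd i j hij) (hd j k hjk) h1 h2
      (x := β (Matrix.SpecialLinearGroup.transvection hij (1 : F) : PSL(n, F)))
      (y := β (Matrix.SpecialLinearGroup.transvection hjk (1 : F) : PSL(n, F)))
      (himg i j hij ▸ Set.mem_image_of_mem _ (transvection_mem_rootIJ hij 1))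
      (himg j k hjk ▸ Set.mem_image_of_mem _ (transvection_mem_rootIJ hjk 1))
    simpa using hc.map (β⁻¹ : MulAut PSL(n, F)).toMonoidHom
  have hdiag : ∀ j, ω j ⬝ᵥ u j ≠ 0 := by
    intro j hj
    rcases hn.eq_or_lt with h2 | h3
    · subst h2
      rcases hnc (o j) j (o j) (ho j) (ho j).symm with h | h
      · exact h hj
      apply h
      obtain ⟨s, hs⟩ : ∃ s : F, u (o j) = s • u j := by
        refine exists_smul_of_minors (hv j (o j)) fun a c => ?_
        have e1 : ω j 0 * u j 0 + ω j 1 * u j 1 = 0 := by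
          simpa [dotProduct, Fin.sum_univ_two] using hj
        have e2 : ω j 0 * u (o j) 0 + ω j 1 * u (o j) 1 = 0 := by
          simpa [dotProduct, Fin.sum_univ_two] using hoff (o j) j (ho j)
        have e3 : u j 0 * u (o j) 1 = u j 1 * u (o j) 0 := by
          obtain ⟨m, hm⟩ := Function.ne_iff.1 (hφ (o j) j)
          change ω j m ≠ 0 at hm
          fin_cases m
          · refine mul_left_cancel₀ hm ?_
            simp only [Fin.zero_eta]
            linear_combination u (o j) 1 * e1 - u j 1 * e2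
          · refine mul_left_cancel₀ hm ?_
            simp only [Fin.mk_one]
            linear_combination u j 0 * e2 - u (o j) 0 * e1
        fin_cases a <;> fin_cases c <;> first | rfl | exact e3 | exact e3.symm
      rw [hs, dotProduct_smul, hoff j (o j) (ho j).symm, smul_zero]
    · obtain ⟨i, hij, k, hkj, hik⟩ : ∃ i, i ≠ j ∧ ∃ k, k ≠ j ∧ i ≠ k := by
        refine ⟨o j, ho j, ?_⟩
        obtain ⟨k, -, hk⟩ := Finset.exists_mem_notMem_of_card_lt_card
          (s := ({o j, j} : Finset (Fin n))) (t := Finset.univ)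
          (by rw [Finset.card_pair (ho j), Finset.card_univ, Fintype.card_fin]; omega)
        simp only [Finset.mem_insert, Finset.mem_singleton, not_or] at hk
        exact ⟨k, hk.2, Ne.symm hk.1⟩
      rcases hnc i j k hij hkj.symm with h | h
      · exact h hj
      · exact h (hoff i k hik)
  set G : Matrix (Fin n) (Fin n) F := Matrix.of fun r c => u c r with hG
  have hprod : Matrix.of ω * G = Matrix.diagonal fun j => ω j ⬝ᵥ u j := by
    ext j i
    rw [Matrix.mul_apply]
    show (∑ r, ω j r * u i r) = _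
    by_cases h : j = i
    · subst h; rw [Matrix.diagonal_apply_eq]; rfl
    · rw [Matrix.diagonal_apply_ne _ h]; exact hoff i j (Ne.symm h)
  have hGdet : G.det ≠ 0 := by
    intro e
    have := congrArg Matrix.det hprod
    rw [Matrix.det_mul, e, mul_zero, Matrix.det_diagonal] at this
    exact Finset.prod_ne_zero_iff.2 (fun j _ => hdiag j) this.symm
  refine ⟨Matrix.GeneralLinearGroup.mkOfDetNeZero G hGdet, fun i j hij => ?_⟩
  set g := Matrix.GeneralLinearGroup.mkOfDetNeZero G hGdet
  obtain ⟨a, ha, hva⟩ := hvu i j hij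
  obtain ⟨b, hb, hφb⟩ := hφω i j hij
  have hgi : (g : Matrix (Fin n) (Fin n) F) *ᵥ Pi.single i 1 = u i := by
    rw [mulVec_single_one]; rfl
  have hgj : ω j = (ω j ⬝ᵥ u j) • (Pi.single j 1 ᵥ* ((g⁻¹ : GL (Fin n) F) : Matrix (Fin n) (Fin n) F)) := by
    have h1 : ω j ᵥ* (g : Matrix (Fin n) (Fin n) F) = (ω j ⬝ᵥ u j) • Pi.single j 1 := by
      funext c
      show (∑ r, ω j r * u c r) = _
      by_cases h : c = j
      · subst h; simp [dotProduct]
      · rw [Pi.smul_apply, Pi.single_eq_of_ne h, smul_zero]; exact hoff c j h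
    rw [← Matrix.smul_vecMul, ← h1, vecMul_vecMul, Units.mul_inv, vecMul_one]
  have hset : rootSet (v i j) (φ i j) = delta g '' rootIJ i j := by
    rw [rootIJ, delta_image_rootSet, hgi]
    refine rootSet_congr ha (mul_ne_zero hb (hdiag j)) hva ?_
    rw [hφb, mul_smul]
    congr 1
  show (fun x => (delta g)⁻¹ (β x)) '' rootIJ i j = _
  rw [← Set.image_image (fun x => (delta g)⁻¹ x) β, himg i j hij, hset, Set.image_image]
  simp

variable [Finite F]

include hp in
/-- After composing with a matrix automorphism and possibly inverse-transpose, an automorphism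
fixes all elementary root subgroups. -/
theorem exists_frame (hn : 2 ≤ n) (β : MulAut PSL(n, F)) :
    ∃ (g : GL (Fin n) F) (γ : MulAut PSL(n, F)), (γ = 1 ∨ γ = graphAut) ∧
      ∀ i j, i ≠ j → ((delta g)⁻¹ * β * γ) '' rootIJ i j = rootIJ i j := by
  classical
  have h1 : ∀ i j : Fin n, ∃ v φ : Fin n → F, v ≠ 0 ∧ φ ≠ 0 ∧
      (i ≠ j → φ ⬝ᵥ v = 0 ∧ β '' rootIJ i j = rootSet v φ) := by
    intro i j
    by_cases hij : i = j
    · exact ⟨Pi.single i 1, Pi.single i 1, Pi.single_ne_zero_iff.2 one_ne_zero,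
        Pi.single_ne_zero_iff.2 one_ne_zero, fun h => absurd hij h⟩
    · obtain ⟨v, φ, hv, hφ, hd, hi⟩ := exists_rootSet_image p β
        (v := Pi.single i (1 : F)) (φ := Pi.single j 1) (Pi.single_ne_zero_iff.2 one_ne_zero)
        (Pi.single_ne_zero_iff.2 one_ne_zero) (dot_single_single hij)
      exact ⟨v, φ, hv, hφ, fun _ => ⟨hd, hi⟩⟩
  choose v φ hv hφ hrest using h1
  have hd := fun i j h => (hrest i j h).1
  have himg := fun i j h => (hrest i j h).2
  have hpre : ∀ i j (h : i ≠ j), ∃ a : F, a ≠ 0 ∧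
      β (Matrix.SpecialLinearGroup.transvection h a : PSL(n, F)) =
        (tv (v i j) (φ i j) (hd i j h) : PSL(n, F)) := by
    intro i j h
    have hm : (tv (v i j) (φ i j) (hd i j h) : PSL(n, F)) ∈ β '' rootIJ i j := by
      rw [himg i j h]
      exact ⟨_, 1, by rw [tv_coe, one_smul], rfl⟩
    obtain ⟨x, hx, hx'⟩ := hm
    obtain ⟨a, rfl⟩ := (mem_rootIJ_iff h).1 hx
    refine ⟨a, ?_, hx'⟩
    rintro rfl
    rw [Matrix.SpecialLinearGroup.transvection_coeff_zero, QuotientGroup.mk_one, map_one] at hx'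
    have h3 := mk_inj_of_pow p (one_pow p) (tv_pow p _ _ (hd i j h)) hx'
    have h4 := congrArg Subtype.val h3
    rw [Matrix.SpecialLinearGroup.coe_one, tv_coe, eq_comm, add_eq_left, vecMulVec_eq_zero] at h4
    exact h4.elim (hv i j) (hφ i j)
  -- pairs in a row or a column
  have hpair : ∀ i j k l, i ≠ j → k ≠ l → (i, j) ≠ (k, l) → j ≠ k → l ≠ i →
      (i = k ∨ j = l) →
      ((∃ t : F, v k l = t • v i j) ∧ ¬ (∃ t : F, φ k l = t • φ i j)) ∨
      (¬ (∃ t : F, v k l = t • v i j) ∧ (∃ t : F, φ k l = t • φ i j)) := by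
    intro i j k l hij hkl hne hjk hli hor
    obtain ⟨a, ha, hxa⟩ := hpre i j hij
    obtain ⟨b, hb, hxb⟩ := hpre k l hkl
    have hnotboth : ¬ ((∃ t : F, v k l = t • v i j) ∧ (∃ t : F, φ k l = t • φ i j)) := by
      rintro ⟨⟨t, ht⟩, ⟨s, hs⟩⟩
      have ht0 : t ≠ 0 := fun e => hv k l (by rw [ht, e, zero_smul])
      have hs0 : s ≠ 0 := fun e => hφ k l (by rw [hs, e, zero_smul])
      have he : rootIJ (F := F) k l = rootIJ i j := by
        apply β.injective.image_injective
        rw [himg k l hkl, himg i j hij]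
        exact rootSet_congr ht0 hs0 ht hs
      have hm := transvection_mem_rootIJ hkl (1 : F)
      rw [he] at hm
      obtain ⟨c, hc⟩ := (mem_rootIJ_iff hij).1 hm
      have h5 := congrArg (fun s : SL(n, F) => (s : Matrix (Fin n) (Fin n) F) k l)
        (mk_inj_of_pow p (transvection_pow p hkl 1) (transvection_pow p hij c) hc)
      simp only [Matrix.SpecialLinearGroup.transvection_coe, Matrix.add_apply] at h5
      rw [Matrix.single_apply_same, Matrix.single_apply, if_neg (fun e => hne (by rw [e.1, e.2]))] at h5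
      simp at h5
    have hcomm0 : Commute (Matrix.SpecialLinearGroup.transvection hij a : PSL(n, F))
        (Matrix.SpecialLinearGroup.transvection hkl b : PSL(n, F)) :=
      commute_rootSet (dot_single_single hij) (dot_single_single hkl)
        (by simp [hjk]) (by simp [hli]) (transvection_mem_rootIJ hij a)
        (transvection_mem_rootIJ hkl b)
    have hcomm : Commute (tv (v i j) (φ i j) (hd i j hij) : PSL(n, F))
        (tv (v k l) (φ k l) (hd k l hkl) : PSL(n, F)) := by
      rw [← hxa, ← hxb]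
      exact hcomm0.map β.toMonoidHom
    obtain ⟨e1, e2⟩ := dot_eq_zero_of_commute p (hv i j) (hv k l) (hφ i j) (hφ k l) _ _ hcomm
    -- the product is again a root element
    obtain ⟨w, ψ, hw, hψ, hwψ, hmem⟩ : ∃ w ψ : Fin n → F, w ≠ 0 ∧ ψ ≠ 0 ∧ ψ ⬝ᵥ w = 0 ∧
        ((Matrix.SpecialLinearGroup.transvection hij a *
          Matrix.SpecialLinearGroup.transvection hkl b : SL(n, F)) : PSL(n, F)) ∈ rootSet w ψ := by
      rcases hor with rfl | rfl
      · refine ⟨Pi.single i 1, a • Pi.single j 1 + b • Pi.single l 1,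
          Pi.single_ne_zero_iff.2 one_ne_zero, fun e => ?_, ?_, ⟨_, 1, ?_, rfl⟩⟩
        · have := congrFun e j
          simp [show j ≠ l from fun e' => hne (by rw [e'])] at this
          exact ha this
        · simp [hij, hkl]
        · rw [Matrix.SpecialLinearGroup.coe_mul, transvection_coe', transvection_coe']
          ext r s
          simp [mul_add, add_mul, vecMulVec_mul_vecMulVec, vecMulVec_apply, hjk.symm]
          ring
      · refine ⟨a • Pi.single i 1 + b • Pi.single k 1, Pi.single j 1, fun e => ?_,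
          Pi.single_ne_zero_iff.2 one_ne_zero, ?_, ⟨_, 1, ?_, rfl⟩⟩
        · have := congrFun e i
          simp [show i ≠ k from fun e' => hne (by rw [e'])] at this
          exact ha this
        · simp [hij.symm, hkl.symm]
        · rw [Matrix.SpecialLinearGroup.coe_mul, transvection_coe', transvection_coe']
          ext r s
          simp [mul_add, add_mul, vecMulVec_mul_vecMulVec, vecMulVec_apply, hjk]
          ring
    obtain ⟨w', ψ', -, -, hd', hi'⟩ := exists_rootSet_image p β hw hψ hwψ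
    have hm' : ((tv (v i j) (φ i j) (hd i j hij) * tv (v k l) (φ k l) (hd k l hkl) : SL(n, F)) :
        PSL(n, F)) ∈ rootSet w' ψ' := by
      rw [← hi']
      refine ⟨_, hmem, ?_⟩
      rw [QuotientGroup.mk_mul, QuotientGroup.mk_mul, map_mul, hxa, hxb]
    rcases parallel_of_mul_mem p (hv i j) (hφ i j) _ _ e1 e2 hd' hm' with h | h
    · exact Or.inl ⟨h, fun h' => hnotboth ⟨h, h'⟩⟩
    · exact Or.inr ⟨fun h' => hnotboth ⟨h', h⟩, h⟩
  let P : Fin n → Fin n → Projectivization F (Fin n → F) :=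
    fun i j => Projectivization.mk F (v i j) (hv i j)
  let H : Fin n → Fin n → Projectivization F (Fin n → F) :=
    fun i j => Projectivization.mk F (φ i j) (hφ i j)
  have hP : ∀ i j k l, P i j = P k l ↔ ∃ t : F, v k l = t • v i j := by
    intro i j k l
    rw [eq_comm, Projectivization.mk_eq_mk_iff']
    exact exists_congr fun t => eq_comm
  have hH : ∀ i j k l, H i j = H k l ↔ ∃ t : F, φ k l = t • φ i j := by
    intro i j k l
    rw [eq_comm, Projectivization.mk_eq_mk_iff']
    exact exists_congr fun t => eq_comm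
  have hnon : ∀ i j k, i ≠ j → j ≠ k →
      ¬ (φ i j ⬝ᵥ v j k = 0 ∧ φ j k ⬝ᵥ v i j = 0) := by
    rintro i j k hij hjk ⟨h1, h2⟩
    apply not_commute_transvection (F := F) p hij hjk
    have hc := commute_rootSet (hd i j hij) (hd j k hjk) h1 h2
      (x := β (Matrix.SpecialLinearGroup.transvection hij (1 : F) : PSL(n, F)))
      (y := β (Matrix.SpecialLinearGroup.transvection hjk (1 : F) : PSL(n, F)))
      (himg i j hij ▸ Set.mem_image_of_mem _ (transvection_mem_rootIJ hij 1))
      (himg j k hjk ▸ Set.mem_image_of_mem _ (transvection_mem_rootIJ hjk 1))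
    simpa using hc.map (β⁻¹ : MulAut PSL(n, F)).toMonoidHom
  rcases rows_or_cols P H
    (fun i j k hij hik hjk => by
      rw [hP, hH]
      rcases hpair i j i k hij hik (fun e => hjk (congrArg Prod.snd e)) hij.symm hik.symm
        (Or.inl rfl) with ⟨a, b⟩ | ⟨a, b⟩ <;> simp [a, b])
    (fun i j k hij hkj hik => by
      rw [hP, hH]
      rcases hpair i j k j hij hkj (fun e => hik (congrArg Prod.fst e)) hkj.symm hij.symm
        (Or.inr rfl) with ⟨a, b⟩ | ⟨a, b⟩ <;> simp [a, b])
    (fun i j k hij hjk e => by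
      obtain ⟨t, ht⟩ := (hP i j j k).1 e
      have ht0 : t ≠ 0 := fun e' => hv j k (by rw [ht, e', zero_smul])
      refine hnon i j k hij hjk ⟨by rw [ht, dotProduct_smul, hd i j hij, smul_zero], ?_⟩
      have := hd j k hjk
      rw [ht, dotProduct_smul, smul_eq_mul] at this
      exact (mul_eq_zero.1 this).resolve_left ht0)
    (fun i j k hij hjk e => by
      obtain ⟨t, ht⟩ := (hH i j j k).1 e
      have ht0 : t ≠ 0 := fun e' => hφ j k (by rw [ht, e', zero_smul])
      refine hnon i j k hij hjk ⟨?_, by rw [ht, smul_dotProduct, hd i j hij, smul_zero]⟩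
      have := hd j k hjk
      rw [ht, smul_dotProduct, smul_eq_mul] at this
      exact (mul_eq_zero.1 this).resolve_left ht0) with hcase | hcase
  · obtain ⟨g, hg⟩ := frame_of_data p hn β v φ hv hφ hd himg
      (fun i j k hij hik => (hP _ _ _ _).1 (hcase i j k hij hik).1)
      (fun i j k hij hik => (hH _ _ _ _).1 (hcase i j k hij hik).2)
    exact ⟨g, 1, Or.inl rfl, fun i j h => by rw [mul_one]; exact hg i j h⟩
  · obtain ⟨g, hg⟩ := frame_of_data p hn (β * graphAut) (fun i j => v j i) (fun i j => φ j i)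
      (fun i j => hv j i) (fun i j => hφ j i) (fun i j h => hd j i h.symm)
      (fun i j h => by
        show (fun x => β (graphAut x)) '' rootIJ i j = _
        rw [← Set.image_image β, graphAut_image_rootIJ h, himg j i h.symm])
      (fun i j k hij hik => (hP _ _ _ _).1 (hcase i j k hij hik).2)
      (fun i j k hij hik => (hH _ _ _ _).1 (hcase i j k hij hik).1)
    exact ⟨g, graphAut, Or.inr rfl, fun i j h => by rw [mul_assoc]; exact hg i j h⟩

end CfsgLib.AutPSL
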