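import Cfsg.Agent.Lib.AutPSL.GraphPSL

set_option autoImplicit false

/-!
The classes, centralisers and splitting of the involutory graph automorphisms of `PSL_n(F)`.
-/

namespace CfsgLib.AutPSL.Graph

open Matrix Models
open scoped MatrixGroups

variable {F : Type*} [Field F] {n : ℕ}

/-- The similitudes of a matrix. -/
def simGroup {ι : Type} [Fintype ι] [DecidableEq ι] (A : Matrix ι ι F) : Subgroup (GL ι F) :=
  Cfsg.Geo.similarityGroup fun u v => u ⬝ᵥ (A *ᵥ v)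

theorem mem_simGroup {ι : Type} [Fintype ι] [DecidableEq ι] (A : Matrix ι ι F) (h : GL ι F) :
    h ∈ simGroup A ↔ ∃ c : Fˣ, (h : Matrix ι ι F)ᵀ * A * h = (c : F) • A :=
  similarity_iff A (fun _ _ => rfl) h

theorem exists_equiv {ι : Type} [Fintype ι] {n : ℕ} (h : Fintype.card ι = n) :
    Nonempty (ι ≃ Fin n) :=
  ⟨Fintype.equivFinOfCardEq h⟩

theorem Cong.alt {M M' : Matrix (Fin n) (Fin n) F} (h : Cong M M')
    (hA : ∀ v : Fin n → F, v ⬝ᵥ (M *ᵥ v) = 0) (v : Fin n → F) : v ⬝ᵥ (M' *ᵥ v) = 0 := by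
  obtain ⟨a, c, rfl⟩ := h
  rw [smul_mulVec, dotProduct_smul, ← Congr.congr_dot, hA, smul_zero]

theorem Cong.transpose_neg {M M' : Matrix (Fin n) (Fin n) F} (h : Cong M M') (hM : Mᵀ = -M) :
    M'ᵀ = -M' := by
  obtain ⟨a, c, rfl⟩ := h
  rw [transpose_smul, transpose_mul, transpose_mul, transpose_transpose, hM, Matrix.neg_mul,
    Matrix.mul_neg, smul_neg, Matrix.mul_assoc]

theorem two_ne_of_odd [Fintype F] (hodd : Odd (Fintype.card F)) : (2 : F) ≠ 0 := by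
  intro h
  haveI := CharTwo.of_one_ne_zero_of_two_eq_zero (one_ne_zero (α := F)) h
  have := FiniteField.even_card_of_char_two (ringChar.eq F 2)
  rw [Nat.odd_iff] at hodd
  omega

section

variable (p : ℕ) [hp : Fact p.Prime] [CharP F p]

include hp in
theorem centralizer_PGO {ι : Type} [Fintype ι] [DecidableEq ι] (h2 : (2 : F) ≠ 0) (hn : 2 ≤ n)
    (e : ι ≃ Fin n) (A : GL ι F) (hA : (A : Matrix ι ι F)ᵀ = A) {Q : (ι → F) → F}
    (hQ : ∀ v, 2 * Q v = v ⬝ᵥ ((A : Matrix ι ι F) *ᵥ v)) {M : GL (Fin n) F}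
    (hM : Cong (reGL e A : Matrix (Fin n) (Fin n) F) (M : Matrix (Fin n) (Fin n) F)) :
    Nonempty (↥(Cfsg.inndiagPSL n F ⊓ Subgroup.centralizer {gm M}) ≃* Cfsg.PGO F Q) :=
  centralizer_equiv p hn e A (Cfsg.Geo.quadSimilarityGroup (F := F) Q)
    (quadSimilarity_iff h2 hA hQ) hM

include hp in
theorem centralizer_PGSp {m : ℕ} (hn : 2 ≤ n) (e : Fin m ⊕ Fin m ≃ Fin n) {M : GL (Fin n) F}
    (hM : Cong (reGL e (jGL m F) : Matrix (Fin n) (Fin n) F) (M : Matrix (Fin n) (Fin n) F)) :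
    Nonempty (↥(Cfsg.inndiagPSL n F ⊓ Subgroup.centralizer {gm M}) ≃* Cfsg.PGSp m F) :=
  centralizer_equiv p hn e (jGL m F) (Cfsg.GSp m F) mem_GSp_iff hM

include hp in
theorem exists_gm_of_order [Finite F] {γ : MulAut PSL(n, F)} (hn : 3 ≤ n)
    (hγ : Cfsg.IsGraphAutClassPSL γ) (hγ2 : orderOf γ = 2) :
    ∃ M : GL (Fin n) F, γ = gm M ∧ ((M : Matrix (Fin n) (Fin n) F)ᵀ = M ∨
      (M : Matrix (Fin n) (Fin n) F)ᵀ = -(M : Matrix (Fin n) (Fin n) F)) := by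
  obtain ⟨M, rfl⟩ := exists_gm hγ
  exact ⟨M, rfl, (orderOf_gm_iff p hn M).1 hγ2⟩

end

theorem diag_of_not_alt [CharP F 2] {M : Matrix (Fin n) (Fin n) F} (hM : Mᵀ = M)
    (h : ¬ ∀ v : Fin n → F, v ⬝ᵥ (M *ᵥ v) = 0) : ∃ i, M i i ≠ 0 := by
  by_contra hc
  push Not at hc
  exact h fun v => by rw [quad_diag hM]; simp [hc]

theorem sym_of_two [CharP F 2] {M : Matrix (Fin n) (Fin n) F}
    (h : Mᵀ = M ∨ Mᵀ = -M) : Mᵀ = M := by
  rcases h with h | h
  · exact h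
  · rw [h, ← neg_one_smul F M, CharTwo.neg_eq, one_smul]

/-- The symmetric matrices of odd size, in characteristic two. -/
theorem cong_odd_two [Finite F] [CharP F 2] (hn : Odd n) {M M' : Matrix (Fin n) (Fin n) F}
    (hM : Mᵀ = M) (hM' : M'ᵀ = M') (hd : M.det ≠ 0) (hd' : M'.det ≠ 0) : Cong M M' := by
  refine Cong.of_eq (Congr.exists_congr_two hM hM' hd hd' (diag_of_not_alt hM fun h => ?_)
    (diag_of_not_alt hM' fun h => ?_)).choose_spec
  · exact (Nat.not_even_iff_odd.2 hn) (even_of_alt h hd)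
  · exact (Nat.not_even_iff_odd.2 hn) (even_of_alt h hd')

variable (p : ℕ) [hp : Fact p.Prime] [CharP F p] [Fintype F]

include hp in
/-- Odd dimension. -/
theorem odd_dim (hn : 3 ≤ n) {m : ℕ} (hnm : n = 2 * m + 1) {γ γ' : MulAut PSL(n, F)}
    (hγ : Cfsg.IsGraphAutClassPSL γ) (hγ2 : orderOf γ = 2) (hγ' : Cfsg.IsGraphAutClassPSL γ')
    (hγ'2 : orderOf γ' = 2) :
    Nonempty (↥(Cfsg.inndiagPSL n F ⊓ Subgroup.centralizer {γ}) ≃* Cfsg.PGO F (Cfsg.quadFormOdd m F)) ∧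
      Cfsg.IsConjUnder (Cfsg.inndiagPSL n F) γ γ' := by
  obtain ⟨M, rfl, hM⟩ := exists_gm_of_order p hn hγ hγ2
  obtain ⟨M', rfl, hM'⟩ := exists_gm_of_order p hn hγ' hγ'2
  have hodd : Odd n := ⟨m, hnm⟩
  obtain ⟨e⟩ := exists_equiv (ι := Unit ⊕ (Fin m ⊕ Fin m)) (n := n) (by simp; omega)
  by_cases h2 : (2 : F) = 0
  · haveI : CharP F 2 := CharTwo.of_one_ne_zero_of_two_eq_zero one_ne_zero h2
    have hs := sym_of_two hM
    refine ⟨?_, (isConjUnder_iff 2 (by omega) M M').2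
      (cong_odd_two hodd hs (sym_of_two hM') (det_ne M) (det_ne M'))⟩
    let A : GL (Unit ⊕ (Fin m ⊕ Fin m)) F := mkGL (oddN m F) det_oddN
    have hc : Cong (reGL e A : Matrix (Fin n) (Fin n) F) (M : Matrix (Fin n) (Fin n) F) :=
      cong_odd_two hodd (reGL_transpose e (by simp only [A, mkGL_coe, oddN_transpose])) hs
        (det_ne _) (det_ne M)
    obtain ⟨e₁⟩ := centralizer_equiv 2 (by omega) e A (simGroup (oddN m F)) (mem_simGroup _) hc
    obtain ⟨e₂⟩ := equiv_oddN (F := F) (simGroup (oddN m F)) (mem_simGroup _)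
    obtain ⟨e₃⟩ := equiv_PGO_odd (F := F) (m := m)
    exact ⟨(e₁.trans e₂).trans e₃.symm⟩
  · have hs : ∀ {N : GL (Fin n) F}, ((N : Matrix (Fin n) (Fin n) F)ᵀ = N ∨
        (N : Matrix (Fin n) (Fin n) F)ᵀ = -(N : Matrix (Fin n) (Fin n) F)) →
        (N : Matrix (Fin n) (Fin n) F)ᵀ = N := fun {N} h => h.resolve_right fun h' =>
      (Nat.not_even_iff_odd.2 hodd) (even_of_alt (alt_quad h2 h') (det_ne N))
    refine ⟨?_, (isConjUnder_iff p (by omega) M M').2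
      (cong_sym_odd h2 hodd (hs hM) (hs hM') (det_ne M) (det_ne M'))⟩
    let A : GL (Unit ⊕ (Fin m ⊕ Fin m)) F := mkGL (oddA m F) (by
      rw [det_oddA]; exact mul_ne_zero h2 (pow_ne_zero _ (neg_ne_zero.2 one_ne_zero)))
    exact centralizer_PGO p h2 (by omega) e A (oddA_transpose m) (quad_odd m)
      (cong_sym_odd h2 hodd (reGL_transpose e (oddA_transpose m)) (hs hM) (det_ne _) (det_ne M))

/-- The three models in even dimension and odd characteristic. -/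
theorem det_minus_ne {k : ℕ} {a b : F} (hd : 4 * b - a ^ 2 ≠ 0) : (minusA k F a b).det ≠ 0 := by
  rw [det_minusA]
  exact mul_ne_zero (pow_ne_zero _ (neg_ne_zero.2 one_ne_zero)) hd

theorem det_plus_ne {k : ℕ} : (plusA k F).det ≠ 0 := by
  rw [det_plusA]
  exact pow_ne_zero _ (neg_ne_zero.2 one_ne_zero)

include hp in
/-- Symmetric matrices in even dimension and odd characteristic. -/
theorem sym_class (h2 : (2 : F) ≠ 0) {m : ℕ} (hm : 1 ≤ m) (hnm : n = 2 * m) {α : F} (hα : ¬ IsSquare α)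
    {M : GL (Fin n) F} (hM : (M : Matrix (Fin n) (Fin n) F)ᵀ = M) :
    (IsSquare ((-1) ^ m * (M : Matrix (Fin n) (Fin n) F).det) →
      Nonempty (↥(Cfsg.inndiagPSL n F ⊓ Subgroup.centralizer {gm M}) ≃*
        Cfsg.PGO F (Cfsg.quadFormPlus m F))) ∧
    (¬ IsSquare ((-1) ^ m * (M : Matrix (Fin n) (Fin n) F).det) →
      Nonempty (↥(Cfsg.inndiagPSL n F ⊓ Subgroup.centralizer {gm M}) ≃*
        Cfsg.PGO F (Cfsg.quadFormMinus (m - 1) F 0 (-α)))) := by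
  constructor
  · intro hsq
    obtain ⟨e⟩ := exists_equiv (ι := Fin m ⊕ Fin m) (n := n) (by simp; omega)
    refine centralizer_PGO p h2 (by omega) e (mkGL (plusA m F) det_plus_ne) (plusA_transpose m)
      (quad_plus m) (cong_sym h2 (reGL_transpose e (plusA_transpose m)) hM (det_ne _) (det_ne M) ?_)
    rw [reGL_det, mkGL_coe, det_plusA]
    exact hsq
  · intro hsq
    obtain ⟨e⟩ := exists_equiv (ι := (Fin (m - 1) ⊕ Fin (m - 1)) ⊕ Fin 2) (n := n) (by simp; omega)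
    have hα0 : α ≠ 0 := fun h => hα (by rw [h]; exact IsSquare.zero)
    have h4 : (4 : F) ≠ 0 := by
      have : (2 : F) * 2 ≠ 0 := mul_ne_zero h2 h2
      norm_num at this
      exact this
    refine centralizer_PGO p h2 (by omega) e (mkGL (minusA (m - 1) F 0 (-α)) (det_minus_ne
        (by simp [hα0, h4]))) (minusA_transpose _ _ _)
      (quad_minus (m - 1) 0 (-α)) (cong_sym h2 (reGL_transpose e (minusA_transpose _ _ _)) hM
        (det_ne _) (det_ne M) ?_)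
    rw [reGL_det, mkGL_coe, det_minusA]
    have hns : ¬ IsSquare α := hα
    obtain ⟨r, hr⟩ := CfsgLib.Forms.isSquare_mul_of_not hns hsq
    refine ⟨2 * r, ?_⟩
    have hpow : ((-1 : F) ^ m) = -((-1) ^ (m - 1)) := by
      rw [← Nat.sub_add_cancel hm, pow_succ, Nat.add_sub_cancel]; ring
    rw [hpow] at hr
    linear_combination 4 * hr

include hp in
/-- Even dimension, odd characteristic. -/
theorem even_dim_odd (h2 : (2 : F) ≠ 0) {m : ℕ} (hm : 2 ≤ m) (hnm : n = 2 * m) :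
    ∃ (γ₁ γ₂ γ₃ : MulAut PSL(n, F)) (a b : F), (∀ z₁ z₂ : F, z₁ ^ 2 + a * z₁ * z₂ + b * z₂ ^ 2 = 0 → z₁ = 0 ∧ z₂ = 0) ∧ Cfsg.IsGraphAutClassPSL γ₁ ∧ orderOf γ₁ = 2 ∧ Cfsg.IsGraphAutClassPSL γ₂ ∧ orderOf γ₂ = 2 ∧ Cfsg.IsGraphAutClassPSL γ₃ ∧ orderOf γ₃ = 2 ∧ ¬ Cfsg.IsConjUnder (Cfsg.inndiagPSL n F) γ₁ γ₂ ∧ ¬ Cfsg.IsConjUnder (Cfsg.inndiagPSL n F) γ₁ γ₃ ∧ ¬ Cfsg.IsConjUnder (Cfsg.inndiagPSL n F) γ₂ γ₃ ∧ (∀ γ : MulAut PSL(n, F), Cfsg.IsGraphAutClassPSL γ → orderOf γ = 2 → Cfsg.IsConjUnder (Cfsg.inndiagPSL n F) γ₁ γ ∨ Cfsg.IsConjUnder (Cfsg.inndiagPSL n F) γ₂ γ ∨ Cfsg.IsConjUnder (Cfsg.inndiagPSL n F) γ₃ γ) ∧ Nonempty (↥(Cfsg.inndiagPSL n F ⊓ Subgroup.centralizer {γ₁}) ≃* Cfsg.PGSp m F) ∧ Nonempty (↥(Cfsg.inndiagPSL n F ⊓ Subgroup.centralizer {γ₂}) ≃* Cfsg.PGO F (Cfsg.quadFormPlus m F)) ∧ Nonempty (↥(Cfsg.inndiagPSL n F ⊓ Subgroup.centralizer {γ₃}) ≃* Cfsg.PGO F (Cfsg.quadFormMinus (m - 1) F a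 b)) := by
  obtain ⟨α, hα⟩ := FiniteField.exists_nonsquare (F := F) (fun h => h2 (by
    have := ringChar.Nat.cast_ringChar (R := F)
    rw [h] at this
    exact_mod_cast this))
  have hα0 : α ≠ 0 := fun h => hα (by rw [h]; exact IsSquare.zero)
  have h4 : (4 : F) ≠ 0 := by
    have : (2 : F) * 2 ≠ 0 := mul_ne_zero h2 h2
    norm_num at this
    exact this
  have haniso : ∀ z₁ z₂ : F, z₁ ^ 2 + 0 * z₁ * z₂ + -α * z₂ ^ 2 = 0 → z₁ = 0 ∧ z₂ = 0 := by
    intro z₁ z₂ hz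
    by_cases hz2 : z₂ = 0
    · subst hz2
      exact ⟨by simpa using hz, rfl⟩
    · exact absurd ⟨z₁ / z₂, by field_simp; linear_combination -hz⟩ hα
  obtain ⟨eJ⟩ := exists_equiv (ι := Fin m ⊕ Fin m) (n := n) (by simp; omega)
  obtain ⟨eM⟩ := exists_equiv (ι := (Fin (m - 1) ⊕ Fin (m - 1)) ⊕ Fin 2) (n := n) (by simp; omega)
  set MJ := reGL eJ (jGL m F) with hMJ
  set MP := reGL eJ (mkGL (plusA m F) det_plus_ne) with hMP
  set MM := reGL eM (mkGL (minusA (m - 1) F 0 (-α)) (det_minus_ne (by simp [hα0, h4]))) with hMM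
  have hJt : (MJ : Matrix (Fin n) (Fin n) F)ᵀ = -(MJ : Matrix (Fin n) (Fin n) F) := by
    rw [hMJ, reGL_coe, transpose_submatrix, jGL_coe, J_transpose]
    rfl
  have hPt : (MP : Matrix (Fin n) (Fin n) F)ᵀ = MP := reGL_transpose eJ (plusA_transpose m)
  have hMt : (MM : Matrix (Fin n) (Fin n) F)ᵀ = MM := reGL_transpose eM (minusA_transpose _ _ _)
  have hdP : (MP : Matrix (Fin n) (Fin n) F).det = (-1) ^ m := by rw [hMP, reGL_det, mkGL_coe, det_plusA]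
  have hdM : (MM : Matrix (Fin n) (Fin n) F).det = (-1) ^ (m - 1) * (4 * -α) := by
    rw [hMM, reGL_det, mkGL_coe, det_minusA]; ring
  have hev : Even (Fintype.card (Fin n)) := by rw [Fintype.card_fin]; exact ⟨m, by omega⟩
  have h12 : ∀ N : GL (Fin n) F, (N : Matrix (Fin n) (Fin n) F)ᵀ = N →
      ¬ Cfsg.IsConjUnder (Cfsg.inndiagPSL n F) (gm MJ) (gm N) := fun N hN h =>
    not_sym_and_alt h2 (by omega) (det_ne N) hN
      (((isConjUnder_iff p (by omega) MJ N).1 h).transpose_neg hJt)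
  refine ⟨gm MJ, gm MP, gm MM, 0, -α, haniso, (gm_spec p (by omega) MJ (Or.inr hJt)).1,
    (gm_spec p (by omega) MJ (Or.inr hJt)).2, (gm_spec p (by omega) MP (Or.inl hPt)).1,
    (gm_spec p (by omega) MP (Or.inl hPt)).2, (gm_spec p (by omega) MM (Or.inl hMt)).1,
    (gm_spec p (by omega) MM (Or.inl hMt)).2, h12 MP hPt, h12 MM hMt, fun h => ?_, fun γ hγ hγ2 => ?_,
    centralizer_PGSp p (by omega) eJ (cong_J eJ (alt_quad h2 hJt) (det_ne _)),
    centralizer_PGO p h2 (by omega) eJ (mkGL (plusA m F) det_plus_ne) (plusA_transpose m) (quad_plus m)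
      ⟨1, 1, by simp [hMP]⟩,
    centralizer_PGO p h2 (by omega) eM (mkGL (minusA (m - 1) F 0 (-α)) (det_minus_ne (by simp [hα0, h4])))
      (minusA_transpose _ _ _) (quad_minus (m - 1) 0 (-α)) ⟨1, 1, by simp [hMM]⟩⟩
  · obtain ⟨r, hr⟩ := ((isConjUnder_iff p (by omega) MP MM).1 h).det_sq hev
    rw [hdP, hdM, ← mul_assoc, ← pow_add, show m + (m - 1) = 2 * (m - 1) + 1 by omega, pow_succ,
      pow_mul] at hr
    refine hα ⟨r / 2, ?_⟩
    field_simp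
    simp at hr
    linear_combination hr
  · obtain ⟨M, rfl, hM⟩ := exists_gm_of_order p (by omega) hγ hγ2
    rcases hM with hM | hM
    · by_cases hsq : IsSquare ((-1) ^ m * (M : Matrix (Fin n) (Fin n) F).det)
      · exact Or.inr (Or.inl ((isConjUnder_iff p (by omega) MP M).2
          (cong_sym h2 hPt hM (det_ne _) (det_ne M) (by rw [hdP]; exact hsq))))
      · refine Or.inr (Or.inr ((isConjUnder_iff p (by omega) MM M).2
          (cong_sym h2 hMt hM (det_ne _) (det_ne M) ?_)))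
        obtain ⟨r, hr⟩ := CfsgLib.Forms.isSquare_mul_of_not hα hsq
        refine ⟨2 * r, ?_⟩
        have hpow : ((-1 : F) ^ m) = -((-1) ^ (m - 1)) := by
          rw [← Nat.sub_add_cancel (show 1 ≤ m by omega), pow_succ, Nat.add_sub_cancel]; ring
        rw [hpow] at hr
        rw [hdM]
        linear_combination 4 * hr
    · exact Or.inl ((isConjUnder_iff p (by omega) MJ M).2
        (cong_J eJ (alt_quad h2 hM) (det_ne M)))

omit [CharP F p] in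
/-- Even dimension, characteristic two. -/
theorem even_dim_two [CharP F 2] {m : ℕ} (hm : 2 ≤ m) (hnm : n = 2 * m) :
    ∃ (γ₁ γ₃ : MulAut PSL(n, F)) (t : ↥(Matrix.symplecticGroup (Fin m) F)), Cfsg.IsTransvection (t : Matrix (Fin m ⊕ Fin m) (Fin m ⊕ Fin m) F) ∧ Cfsg.IsGraphAutClassPSL γ₁ ∧ orderOf γ₁ = 2 ∧ Cfsg.IsGraphAutClassPSL γ₃ ∧ orderOf γ₃ = 2 ∧ ¬ Cfsg.IsConjUnder (Cfsg.inndiagPSL n F) γ₁ γ₃ ∧ (∀ γ : MulAut PSL(n, F), Cfsg.IsGraphAutClassPSL γ → orderOf γ = 2 → Cfsg.IsConjUnder (Cfsg.inndiagPSL n F) γ₁ γ ∨ Cfsg.IsConjUnder (Cfsg.inndiagPSL n F) γ₃ γ) ∧ Nonempty (↥(Cfsg.inndiagPSL n F ⊓ Subgroup.centralizer {γ₁}) ≃* ↥(Matrix.symplecticGroup (Fin m) F)) ∧ Nonempty (↥(Cfsg.inndiagPSL n F ⊓ Subgroup.centralizer {γ₃}) ≃* ↥(Subgroup.centralizer ({t} : Set ↥(Matrix.symplecticGroup (Fin m) F)))) := by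
  obtain ⟨eJ⟩ := exists_equiv (ι := Fin m ⊕ Fin m) (n := n) (by simp; omega)
  let i : Fin m := ⟨0, by omega⟩
  let A : GL (Fin m ⊕ Fin m) F := mkGL (evenN m F i) (det_evenN i)
  set MJ := reGL eJ (jGL m F) with hMJ
  set MN := reGL eJ A with hMN
  have hJt : (MJ : Matrix (Fin n) (Fin n) F)ᵀ = MJ := reGL_transpose eJ (J_symm m)
  have hNt : (MN : Matrix (Fin n) (Fin n) F)ᵀ = MN := reGL_transpose eJ (evenN_transpose i)
  have hJq : ∀ v : Fin n → F, v ⬝ᵥ ((MJ : Matrix (Fin n) (Fin n) F) *ᵥ v) = 0 := fun v => by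
    rw [quad_diag hJt]
    refine Finset.sum_eq_zero fun r _ => ?_
    rw [hMJ, reGL_coe, submatrix_apply, jGL_coe]
    rcases eJ.symm r with s | s <;> simp [Matrix.J]
  have hNd : (MN : Matrix (Fin n) (Fin n) F) (eJ (.inl i)) (eJ (.inl i)) = 1 := by
    simp [hMN, A, evenN_diag]
  refine ⟨gm MJ, gm MN, transvec i, isTransvection i, (gm_spec 2 (by omega) MJ (Or.inl hJt)).1,
    (gm_spec 2 (by omega) MJ (Or.inl hJt)).2, (gm_spec 2 (by omega) MN (Or.inl hNt)).1,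
    (gm_spec 2 (by omega) MN (Or.inl hNt)).2, fun h => ?_, fun γ hγ hγ2 => ?_, ?_, ?_⟩
  · have := ((isConjUnder_iff 2 (by omega) MJ MN).1 h).alt hJq (Pi.single (eJ (.inl i)) 1)
    rw [Matrix.mulVec_single_one, single_dotProduct, one_mul] at this
    exact one_ne_zero (α := F) (hNd.symm.trans this)
  · obtain ⟨M, rfl, hM⟩ := exists_gm_of_order 2 (by omega) hγ hγ2
    have hs := sym_of_two hM
    by_cases h : ∀ v : Fin n → F, v ⬝ᵥ ((M : Matrix (Fin n) (Fin n) F) *ᵥ v) = 0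
    · exact Or.inl ((isConjUnder_iff 2 (by omega) MJ M).2 (cong_J eJ h (det_ne M)))
    · exact Or.inr ((isConjUnder_iff 2 (by omega) MN M).2
        (Cong.of_eq (Congr.exists_congr_two hNt hs (det_ne MN) (det_ne M)
          ⟨eJ (.inl i), by rw [hNd]; exact one_ne_zero⟩ (diag_of_not_alt hs h)).choose_spec))
  · obtain ⟨e₁⟩ := centralizer_PGSp 2 (by omega) eJ (cong_J eJ hJq (det_ne MJ))
    refine ⟨e₁.trans (Nonempty.some (projQuot_equiv (Cfsg.GSp m F) (spHom m F)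
      (fun k => (mem_GSp_iff _).2 ⟨1, ?_⟩) (fun k hk => ?_) fun h hh => ?_))⟩
    · rw [Units.val_one, one_smul, spHom_coe, jGL_coe]
      exact SymplecticGroup.mem_iff'.1 k.2
    · have h1 := eq_one_of_scalar (M := Matrix.J (Fin m) F) (fun h => by
          haveI : Nonempty (Fin m ⊕ Fin m) := ⟨.inl i⟩
          have := isUnit_det_J (Fin m) F
          rw [h] at this
          simp at this) (k := spHom m F k)
        (by rw [spHom_coe]; exact SymplecticGroup.mem_iff'.1 k.2) hk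
      exact Subtype.ext (congrArg Units.val h1)
    · obtain ⟨c, hc⟩ := (mem_GSp_iff h).1 hh
      obtain ⟨d, k, rfl, hk⟩ := isometry_part hc
      exact ⟨d, ⟨_, SymplecticGroup.mem_iff'.2 hk⟩, congrArg _ (Units.ext rfl)⟩
  · obtain ⟨e₁⟩ := centralizer_equiv 2 (by omega) eJ A (simGroup (evenN m F i)) (mem_simGroup _)
      (M := MN) ⟨1, 1, by simp [hMN]⟩
    obtain ⟨e₂⟩ := equiv_evenN i (simGroup (evenN m F i)) (mem_simGroup _)
    exact ⟨e₁.trans e₂⟩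

end CfsgLib.AutPSL.Graph
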