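import Cfsg.Agent.Lib.AutPSL.Structure
import Cfsg.Prelude.Def_KGroupFacts

set_option autoImplicit false

/-!
The kernel of the field-graph component on `Out(PSL_n(F))` is cyclic of order `gcd(n, q-1)`.
-/

namespace CfsgLib.AutPSL

open Matrix
open scoped MatrixGroups

variable {n : ℕ} {F : Type*} [Field F]

/-- `diag(c, 1, …, 1)`. -/
def detGL (i₀ : Fin n) : Fˣ →* GL (Fin n) F where
  toFun c := diagGL (Function.update 1 i₀ c)
  map_one' := Units.ext (by simp [diagGL])
  map_mul' a b := Units.ext (by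
    show Matrix.diagonal _ = Matrix.diagonal _ * Matrix.diagonal _
    rw [Matrix.diagonal_mul_diagonal]
    congr 1
    funext i
    by_cases h : i = i₀
    · subst h; simp
    · simp [Function.update_of_ne h])

theorem det_detGL (i₀ : Fin n) (c : Fˣ) :
    Matrix.GeneralLinearGroup.det (detGL (F := F) i₀ c) = c := by
  apply Units.ext
  show (Matrix.diagonal fun i => ((Function.update (1 : Fin n → Fˣ) i₀ c i : Fˣ) : F)).det = _
  rw [Matrix.det_diagonal, Finset.prod_eq_single i₀ (fun b _ hb => by simp [Function.update_of_ne hb])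
    (fun h => absurd (Finset.mem_univ _) h)]
  simp

theorem mem_range_conj_of_delta (g : GL (Fin n) F) (lam : Fˣ)
    (h : Matrix.GeneralLinearGroup.det g = lam ^ n) :
    delta g ∈ (MulAut.conj : PSL(n, F) →* MulAut PSL(n, F)).range := by
  set z : GL (Fin n) F := Matrix.GeneralLinearGroup.scalar (Fin n) lam
  have hz : z ∈ Subgroup.center (GL (Fin n) F) := by
    rw [Matrix.GeneralLinearGroup.center_eq_range_scalar]; exact ⟨lam, rfl⟩
  have hdz : Matrix.GeneralLinearGroup.det z = lam ^ n := by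
    apply Units.ext
    simp [z, Matrix.GeneralLinearGroup.scalar]
  have hdet : ((g * z⁻¹ : GL (Fin n) F) : Matrix (Fin n) (Fin n) F).det = 1 := by
    rw [← Matrix.GeneralLinearGroup.val_det_apply, map_mul, map_inv, h, hdz, mul_inv_cancel,
      Units.val_one]
  let s : SL(n, F) := ⟨_, hdet⟩
  refine ⟨mkP s, (delta_toGL s).symm.trans ?_⟩
  rw [show Matrix.SpecialLinearGroup.toGL s = g * z⁻¹ from Units.ext rfl, map_mul, map_inv,
    delta_eq_one_of_mem_center hz, inv_one, mul_one]

variable [Finite F]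

theorem card_ker_out (p : ℕ) [Fact p.Prime] [CharP F p] (hn : 2 ≤ n) {H : Type*} [Group H]
    (π : MulAut PSL(n, F) →* H) (hπ : Function.Surjective π) (hker : π.ker = delta.range) :
    ∃ φ : Cfsg.Out PSL(n, F) →* H, Function.Surjective φ ∧ IsCyclic φ.ker ∧
      Nat.card φ.ker = Nat.gcd n (Nat.card F - 1) := by
  have hle : Cfsg.Inn PSL(n, F) ≤ π.ker := by
    rintro _ ⟨x, rfl⟩
    obtain ⟨s, rfl⟩ := QuotientGroup.mk_surjective x
    rw [hker]
    exact ⟨_, delta_toGL s⟩
  set φ : Cfsg.Out PSL(n, F) →* H := QuotientGroup.lift _ π hle with hφ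
  have hsurj : Function.Surjective φ := fun y => by
    obtain ⟨x, rfl⟩ := hπ y
    exact ⟨(x : Cfsg.Out PSL(n, F)), rfl⟩
  set i₀ : Fin n := ⟨0, by omega⟩
  set χ : Fˣ →* Cfsg.Out PSL(n, F) :=
    (QuotientGroup.mk' (Cfsg.Inn PSL(n, F))).comp (delta.comp (detGL i₀)) with hχ
  have hrange : φ.ker = χ.range := by
    ext y
    obtain ⟨x, rfl⟩ := QuotientGroup.mk_surjective y
    constructor
    · intro hx
      have hx' : x ∈ π.ker := hx
      rw [hker] at hx'
      obtain ⟨g, rfl⟩ := hx'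
      refine ⟨Matrix.GeneralLinearGroup.det g, ?_⟩
      show ((delta (detGL i₀ _) : MulAut PSL(n, F)) : Cfsg.Out PSL(n, F)) = (delta g : MulAut PSL(n, F))
      rw [QuotientGroup.eq, ← map_inv, ← map_mul]
      refine mem_range_conj_of_delta _ 1 ?_
      rw [map_mul, map_inv, det_detGL, inv_mul_cancel, one_pow]
    · rintro ⟨c, hc⟩
      rw [← hc]
      show π (delta (detGL i₀ c)) = 1
      rw [← MonoidHom.mem_ker, hker]
      exact ⟨_, rfl⟩
  have hkerχ : χ.ker = (powMonoidHom n : Fˣ →* Fˣ).range := by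
    ext c
    have hiff : c ∈ χ.ker ↔ delta (detGL i₀ c) ∈ Cfsg.Inn PSL(n, F) :=
      QuotientGroup.eq_one_iff _
    rw [hiff]
    constructor
    · rintro ⟨x, hx⟩
      obtain ⟨s, rfl⟩ := QuotientGroup.mk_surjective x
      replace hx := (delta_toGL s).trans hx
      have h1 : delta ((Matrix.SpecialLinearGroup.toGL s)⁻¹ * detGL i₀ c) *
          fieldAut (1 : F ≃+* F) = 1 := by
        rw [map_one, mul_one, map_mul, map_inv, ← hx, inv_mul_cancel]
      have h2 := (mem_center_of_delta_fieldAut p hn h1).1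
      rw [Matrix.GeneralLinearGroup.center_eq_range_scalar] at h2
      obtain ⟨lam, hl⟩ := h2
      refine ⟨lam, ?_⟩
      have h3 := congrArg Matrix.GeneralLinearGroup.det hl
      rw [map_mul, map_inv, det_detGL] at h3
      have hs : Matrix.GeneralLinearGroup.det (Matrix.SpecialLinearGroup.toGL s) = 1 :=
        Units.ext s.2
      rw [hs, inv_one, one_mul] at h3
      rw [← h3]
      apply Units.ext
      simp [Matrix.GeneralLinearGroup.scalar]
    · rintro ⟨lam, rfl⟩
      exact mem_range_conj_of_delta _ lam (det_detGL i₀ _)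
  refine ⟨φ, hsurj, ?_, ?_⟩
  · rw [hrange]
    exact isCyclic_of_surjective χ.rangeRestrict χ.rangeRestrict_surjective
  · rw [hrange]
    have h1 := Subgroup.card_eq_card_quotient_mul_card_subgroup χ.ker
    have h2 := Subgroup.card_eq_card_quotient_mul_card_subgroup (powMonoidHom n : Fˣ →* Fˣ).ker
    rw [Nat.card_congr (QuotientGroup.quotientKerEquivRange χ).toEquiv] at h1
    rw [Nat.card_congr (QuotientGroup.quotientKerEquivRange (powMonoidHom n : Fˣ →* Fˣ)).toEquiv,
      IsCyclic.card_powMonoidHom_ker, Nat.card_units] at h2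
    rw [hkerχ, Nat.card_units] at h1
    rw [Nat.gcd_comm]
    refine Nat.eq_of_mul_eq_mul_right (Nat.card_pos (α := (powMonoidHom n : Fˣ →* Fˣ).range)) ?_
    rw [← h1, mul_comm, ← h2]

omit [Finite F] in
theorem charP_of_card [Fintype F] {p f : ℕ} [Fact p.Prime] (hF : Fintype.card F = p ^ f) :
    CharP F p := by
  obtain ⟨q, hq⟩ := CharP.exists F
  obtain ⟨m, hqp, hm⟩ := FiniteField.card F q
  have h1 : q ∣ p ^ f := by rw [← hF, hm]; exact dvd_pow_self q m.pos.ne'
  rwa [← (Nat.prime_dvd_prime_iff_eq hqp Fact.out).1 (hqp.dvd_of_dvd_pow h1)]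

/-- `Aut F ≅ ℤ/f`. -/
theorem exists_ringAut_equiv [Fintype F] {p f : ℕ} [Fact p.Prime]
    (hF : Fintype.card F = p ^ f) (hf : 1 ≤ f) :
    Nonempty ((F ≃+* F) ≃* Multiplicative (ZMod f)) := by
  obtain ⟨h1, h2⟩ := card_ringAut_isCyclic hF hf
  have := h1
  exact ⟨mulEquivOfCyclicCardEq (by
    rw [h2, Nat.card_congr Multiplicative.toAdd, Nat.card_zmod])⟩

end CfsgLib.AutPSL
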