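import Cfsg.Agent.Lib.AutPSL.GraphPSLMain
import Cfsg.Agent.Lib.AutPSL.Out

set_option autoImplicit false

/-!
The splitting of the graph classes under inner automorphisms, and the class of inverse-transpose.
-/

namespace CfsgLib.AutPSL.Graph

open Matrix Models
open scoped MatrixGroups

variable {F : Type*} [Field F] {n : ℕ}

theorem reGL_refl (M : GL (Fin n) F) : reGL (Equiv.refl (Fin n)) M = M :=
  Units.ext (Matrix.ext fun _ _ => rfl)

theorem cong_self (M : Matrix (Fin n) (Fin n) F) : Cong M M := ⟨1, 1, by simp⟩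

variable [Fintype F]

/-- The determinants of orthogonal similitudes in even dimension. -/
theorem index_det (h2 : (2 : F) ≠ 0) (hn : Even n) :
    ((powMonoidHom n : Fˣ →* Fˣ).range.comap (powMonoidHom 2)).index =
      Nat.gcd n (Fintype.card F - 1) / 2 := by
  have hN : Even (Nat.card Fˣ) := by
    rw [Nat.card_units, Nat.card_eq_fintype_card]
    have := FiniteField.odd_card_of_char_ne_two (F := F) fun h => h2 (by
      have := ringChar.Nat.cast_ringChar (R := F)
      rw [h] at this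
      exact_mod_cast this)
    exact ⟨(Fintype.card F - 1) / 2, by omega⟩
  have hle : (powMonoidHom n : Fˣ →* Fˣ).range ≤ (powMonoidHom 2 : Fˣ →* Fˣ).range := by
    rintro _ ⟨c, rfl⟩
    obtain ⟨k, hk⟩ := hn
    refine ⟨c ^ k, ?_⟩
    show (c ^ k) ^ 2 = c ^ n
    rw [← pow_mul, hk, mul_two]
  have h := Subgroup.relIndex_mul_index hle
  rw [← Subgroup.index_comap, index_range_pow, index_range_pow, Nat.gcd_eq_right hN.two_dvd] at h
  rw [Nat.gcd_comm n, ← Nat.card_eq_fintype_card, ← Nat.card_units, ← h, Nat.mul_div_cancel _ two_pos]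

theorem index_pow {d : ℕ} :
    (powMonoidHom d : Fˣ →* Fˣ).range.index = Nat.gcd d (Fintype.card F - 1) := by
  rw [index_range_pow, Nat.gcd_comm, Nat.card_units, Nat.card_eq_fintype_card]

variable (p : ℕ) [hp : Fact p.Prime] [CharP F p]

include hp in
theorem split_plain (hn : 2 ≤ n) (hcase : Odd n ∨ (2 : F) = 0) (M : GL (Fin n) F) :
    Cfsg.splitClassCount (Cfsg.inndiagPSL n F) (Cfsg.Inn PSL(n, F)) (gm M) =
      Nat.gcd n (Fintype.card F - 1) := by
  rw [split_gm p hn (Equiv.refl _) M (powMonoidHom n).range ?_ ?_ (by rw [reGL_refl]; exact cong_self _),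
    index_pow]
  · intro h c hc
    have hd : GeneralLinearGroup.det h ^ 2 = c ^ n := by
      have h' := congrArg Matrix.det hc
      rw [det_mul, det_mul, det_transpose, det_smul, Fintype.card_fin] at h'
      apply Units.ext
      rw [Units.val_pow_eq_pow_val, GeneralLinearGroup.val_det_apply, Units.val_pow_eq_pow_val]
      exact mul_right_cancel₀ (det_ne M) (by rw [← h']; ring)
    rcases hcase with ⟨k, hk⟩ | h2
    · refine ⟨GeneralLinearGroup.det h / c ^ k, ?_⟩
      show (GeneralLinearGroup.det h / c ^ k) ^ n = _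
      generalize GeneralLinearGroup.det h = d at hd ⊢
      rw [hk, pow_succ (n := 2 * k), pow_mul, div_pow, hd, hk]
      rw [show c ^ (2 * k + 1) / (c ^ k) ^ 2 = c by
        rw [← pow_mul, pow_succ, mul_comm k 2, mul_div_cancel_left]]
      rw [mul_comm, div_mul_cancel]
    · haveI : CharP F 2 := CharTwo.of_one_ne_zero_of_two_eq_zero one_ne_zero h2
      obtain ⟨d, rfl⟩ := exists_sqrt c
      refine ⟨d, ?_⟩
      show d ^ n = _
      rw [← div_eq_one]
      refine eq_one_of_sq ?_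
      rw [div_pow, hd, ← pow_mul, ← pow_mul, mul_comm, div_self']
  · rintro _ ⟨c, rfl⟩
    exact ⟨GeneralLinearGroup.scalar _ c, c ^ 2, scalar_similitude _ c, by
      rw [Models.det_scalar, Fintype.card_fin]; rfl⟩

include hp in
theorem split_orth (h2 : (2 : F) ≠ 0) (hn : 2 ≤ n) (hev : Even n) (M : GL (Fin n) F)
    (hM : (M : Matrix (Fin n) (Fin n) F)ᵀ = M) :
    Cfsg.splitClassCount (Cfsg.inndiagPSL n F) (Cfsg.Inn PSL(n, F)) (gm M) =
      Nat.gcd n (Fintype.card F - 1) / 2 := by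
  rw [split_gm p hn (Equiv.refl _) M ((powMonoidHom n : Fˣ →* Fˣ).range.comap (powMonoidHom 2)) ?_ ?_
    (by rw [reGL_refl]; exact cong_self _), index_det h2 hev]
  · intro h c hc
    refine ⟨c, Units.ext ?_⟩
    show ((c ^ n : Fˣ) : F) = ((GeneralLinearGroup.det h ^ 2 : Fˣ) : F)
    have h' := congrArg Matrix.det hc
    rw [det_mul, det_mul, det_transpose, det_smul, Fintype.card_fin] at h'
    rw [Units.val_pow_eq_pow_val, Units.val_pow_eq_pow_val, GeneralLinearGroup.val_det_apply]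
    exact mul_right_cancel₀ (det_ne M) (by rw [← h']; ring)
  · rintro d ⟨c, hc⟩
    obtain ⟨h, h1, h3⟩ := exists_similitude_det h2 hev (by omega) hM (det_ne M) c d hc.symm
    exact ⟨h, c, h1, h3⟩

include hp in
theorem split_symp {m : ℕ} (hn : 2 ≤ n) (e : Fin m ⊕ Fin m ≃ Fin n) {M : GL (Fin n) F}
    (hM : Cong (reGL e (jGL m F) : Matrix (Fin n) (Fin n) F) (M : Matrix (Fin n) (Fin n) F)) :
    Cfsg.splitClassCount (Cfsg.inndiagPSL n F) (Cfsg.Inn PSL(n, F)) (gm M) =
      Nat.gcd m (Fintype.card F - 1) := by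
  rw [split_gm p hn e (jGL m F) (powMonoidHom m).range
    (fun h c hc => ⟨c, (det_similitude_J h c hc).symm⟩) ?_ hM, index_pow]
  rintro _ ⟨c, rfl⟩
  exact ⟨diagC m c, c, diagC_similitude m c, det_diagC m c⟩

/-- The order of a projective group of similitudes of a symmetric matrix. -/
theorem card_PGO {ι : Type} [Fintype ι] [DecidableEq ι] [Nonempty ι] (h2 : (2 : F) ≠ 0)
    (hev : Even (Fintype.card ι)) {A : Matrix ι ι F} (hA : Aᵀ = A) (hd : A.det ≠ 0)
    (Q : QuadraticForm F (ι → F)) (hQ : ∀ v, 2 * Q v = v ⬝ᵥ (A *ᵥ v)) :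
    Nat.card (Cfsg.PGO F ⇑Q) = Nat.card (CfsgLib.Orth.Grp Q) := by
  have hA0 : A ≠ 0 := fun h => hd (by rw [h]; exact det_zero)
  have hall : ∀ c : Fˣ, ∃ h : GL ι F, (h : Matrix ι ι F)ᵀ * A * h = (c : F) • A := by
    intro c
    let e := Fintype.equivFin ι
    have hd' : (A.submatrix e.symm e.symm).det ≠ 0 := by rwa [det_submatrix_equiv_self]
    have hs : (A.submatrix e.symm e.symm)ᵀ = A.submatrix e.symm e.symm := by
      rw [transpose_submatrix, hA]
    obtain ⟨k, hk⟩ := hev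
    obtain ⟨h, hh, -⟩ := exists_similitude_det h2 ⟨k, hk⟩ Fintype.card_pos hs hd' c (c ^ k)
      (by rw [← pow_mul, hk, mul_two])
    obtain ⟨g, rfl⟩ := (reGL e).surjective h
    refine ⟨g, Matrix.ext fun i j => ?_⟩
    rw [reGL_coe, transpose_submatrix, submatrix_mul_equiv, submatrix_mul_equiv] at hh
    simpa using congrFun (congrFun hh (e i)) (e j)
  rw [Cfsg.PGO, card_projQuot A hA0 _ (quadSimilarity_iff h2 hA hQ) hall]
  refine Nat.card_congr (Equiv.subtypeEquivRight fun k => ⟨fun hk v _ => ?_, fun hk => ?_⟩)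
  · show Q ((k : Matrix ι ι F) *ᵥ v) = Q v
    exact mul_left_cancel₀ h2 (by rw [hQ, hQ, Congr.congr_dot, hk])
  · refine Congr.eq_of_quad h2 (Congr.transpose_congr _ hA) hA fun v => ?_
    rw [← Congr.congr_dot, ← hQ, ← hQ]
    exact congrArg _ (hk v v)

omit [Fintype F] in
/-- A quadratic form with the given symmetric matrix. -/
theorem exists_form {ι : Type} [Fintype ι] [DecidableEq ι] (h2 : (2 : F) ≠ 0) {A : Matrix ι ι F}
    (hA : Aᵀ = A) (hd : A.det ≠ 0) {q : (ι → F) → F} (hq : ∀ v, 2 * q v = v ⬝ᵥ (A *ᵥ v)) :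
    ∃ Q : QuadraticForm F (ι → F), ⇑Q = q ∧ CfsgLib.Orth.Nondeg Q := by
  let Q : QuadraticForm F (ι → F) :=
    LinearMap.BilinMap.toQuadraticMap (Matrix.toLinearMap₂' F ((2 : F)⁻¹ • A))
  have e : ⇑Q = q := funext fun v => by
    show Matrix.toLinearMap₂' F ((2 : F)⁻¹ • A) v v = q v
    rw [Matrix.toLinearMap₂'_apply', smul_mulVec, dotProduct_smul, ← hq, smul_eq_mul,
      inv_mul_cancel_left₀ h2]
  refine ⟨Q, e, fun x hx => ?_⟩
  refine Matrix.eq_zero_of_vecMul_eq_zero hd (funext fun j => ?_)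
  have h := hx (Pi.single j 1)
  have h3 : 2 * QuadraticMap.polar ⇑Q x (Pi.single j 1) = 2 * (x ⬝ᵥ (A *ᵥ Pi.single j 1)) := by
    simp only [QuadraticMap.polar, e, mul_sub, hq, mulVec_add, dotProduct_add, add_dotProduct]
    linear_combination Congr.dot_comm hA (Pi.single j 1) x
  rw [h, mul_zero, dotProduct_mulVec] at h3
  simpa [h2] using h3.symm

theorem card_PGSp {m : ℕ} (hm : 1 ≤ m) :
    Nat.card (Cfsg.PGSp m F) = Nat.card (Matrix.symplecticGroup (Fin m) F) := by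
  haveI : Nonempty (Fin m ⊕ Fin m) := ⟨.inl ⟨0, hm⟩⟩
  rw [Cfsg.PGSp, card_projQuot (Matrix.J (Fin m) F) (fun h => (isUnit_det_J (Fin m) F).ne_zero
    (by rw [h]; exact det_zero)) _ mem_GSp_iff (fun c => ⟨diagC m c, diagC_similitude m c⟩)]
  exact Nat.card_congr
    { toFun := fun k => ⟨_, SymplecticGroup.mem_iff'.2 k.2⟩
      invFun := fun A => ⟨spHom m F A, SymplecticGroup.mem_iff'.1 A.2⟩
      left_inv := fun _ => Subtype.ext (Units.ext rfl)
      right_inv := fun _ => rfl }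

omit hp [CharP F p] in
/-- The orthogonal groups of dimension `2m` do not have the order of the symplectic one. -/
theorem card_ne (h2 : (2 : F) ≠ 0) {m : ℕ} (hm : 2 ≤ m) {α : F} (hα : ¬ IsSquare α) :
    Nat.card (Cfsg.PGO F (Cfsg.quadFormPlus m F)) ≠ Nat.card (Cfsg.PGSp m F) ∧
    Nat.card (Cfsg.PGO F (Cfsg.quadFormMinus (m - 1) F 0 (-α))) ≠ Nat.card (Cfsg.PGSp m F) := by
  have hq : 3 ≤ Nat.card F := by
    rw [Nat.card_eq_fintype_card]
    have := FiniteField.odd_card_of_char_ne_two (F := F) fun h => h2 (by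
      have := ringChar.Nat.cast_ringChar (R := F)
      rw [h] at this
      exact_mod_cast this)
    have := Fintype.one_lt_card (α := F)
    omega
  have hsp := card_PGSp (F := F) (m := m) (by omega)
  rw [CfsgLib.Classical.SympTrans.card_symplectic] at hsp
  set q := Nat.card F with hqdef
  set P := ∏ i ∈ Finset.range (m - 1), (q ^ (2 * (i + 1)) - 1) with hPdef
  have hprod : ∏ i ∈ Finset.range m, (q ^ (2 * (i + 1)) - 1) = P * (q ^ (2 * m) - 1) := by
    obtain ⟨k, rfl⟩ : ∃ k, m = k + 1 := ⟨m - 1, by omega⟩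
    rw [Finset.prod_range_succ, hPdef, Nat.add_sub_cancel]
  rw [hprod] at hsp
  have hP : 0 < P := Finset.prod_pos fun i _ => by
    have : q ≤ q ^ (2 * (i + 1)) := Nat.le_self_pow (by omega) q
    omega
  have hX : 3 ≤ q ^ m := le_trans hq (Nat.le_self_pow (by omega) q)
  have hsq : q ^ (2 * m) = q ^ m * q ^ m := by rw [two_mul, pow_add]
  have hlt : ∀ s : ℕ, s ≤ q ^ m + 1 →
      2 * q ^ (m * (m - 1)) * s * P < q ^ (m ^ 2) * (P * (q ^ (2 * m) - 1)) := by
    intro s hs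
    have he : m ^ 2 = m * (m - 1) + m := by
      obtain ⟨k, rfl⟩ : ∃ k, m = k + 1 := ⟨m - 1, by omega⟩
      rw [Nat.add_sub_cancel]; ring
    rw [he, pow_add, show q ^ (m * (m - 1)) * q ^ m * (P * (q ^ (2 * m) - 1)) =
        q ^ (m * (m - 1)) * P * (q ^ m * (q ^ (2 * m) - 1)) by ring,
      show 2 * q ^ (m * (m - 1)) * s * P = q ^ (m * (m - 1)) * P * (2 * s) by ring]
    refine Nat.mul_lt_mul_of_pos_left ?_ (by positivity)
    have h9 : 3 * q ^ m ≤ q ^ (2 * m) := by rw [hsq]; exact Nat.mul_le_mul_right _ hX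
    calc 2 * s ≤ 2 * (q ^ m + 1) := by omega
      _ < 3 * (q ^ (2 * m) - 1) := by omega
      _ ≤ _ := Nat.mul_le_mul_right _ hX
  haveI : Nonempty (Fin m ⊕ Fin m) := ⟨.inl ⟨0, by omega⟩⟩
  have hα0 : α ≠ 0 := fun h => hα (by rw [h]; exact IsSquare.zero)
  have h4 : (4 : F) ≠ 0 := by
    have : (2 : F) * 2 ≠ 0 := mul_ne_zero h2 h2
    norm_num at this
    exact this
  refine ⟨fun h => ?_, fun h => ?_⟩
  · obtain ⟨Q, hQ, hnd⟩ := exists_form h2 (plusA_transpose m) det_plus_ne (quad_plus (F := F) m)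
    rw [← hQ, card_PGO h2 (by simp) (plusA_transpose m) det_plus_ne Q
      (by rw [hQ]; exact quad_plus m), hsp, CfsgLib.Orth.card_orth_plus m (by omega) hQ hnd] at h
    exact (hlt _ (Nat.le_succ_of_le (Nat.sub_le _ _))).ne h
  · have hdm : (minusA (m - 1) F 0 (-α)).det ≠ 0 := det_minus_ne (by simp [hα0, h4])
    have hab : ∀ z₁ z₂ : F, z₁ ^ 2 + 0 * z₁ * z₂ + -α * z₂ ^ 2 = 0 → z₁ = 0 ∧ z₂ = 0 := by
      intro z₁ z₂ hz
      by_cases hz2 : z₂ = 0
      · subst hz2
        exact ⟨by simpa using hz, rfl⟩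
      · exact absurd ⟨z₁ / z₂, by field_simp; linear_combination -hz⟩ hα
    obtain ⟨Q, hQ, hnd⟩ := exists_form h2 (minusA_transpose (m - 1) 0 (-α)) hdm
      (quad_minus (F := F) (m - 1) 0 (-α))
    rw [← hQ, card_PGO h2 (by simp; exact ⟨m - 1 + 1, by omega⟩) (minusA_transpose _ _ _) hdm Q
      (by rw [hQ]; exact quad_minus (m - 1) 0 (-α)), hsp,
      CfsgLib.Orth.card_orth_minus m (by omega) hab hQ hnd] at h
    exact (hlt _ le_rfl).ne h

include hp in
/-- A class of symmetric type is not of symplectic type. -/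
theorem not_PGSp (h2 : (2 : F) ≠ 0) {m : ℕ} (hm : 2 ≤ m) (hnm : n = 2 * m) {M : GL (Fin n) F}
    (hM : (M : Matrix (Fin n) (Fin n) F)ᵀ = M) :
    ¬ Nonempty (↥(Cfsg.inndiagPSL n F ⊓ Subgroup.centralizer {gm M}) ≃* Cfsg.PGSp m F) := by
  rintro ⟨e⟩
  obtain ⟨α, hα⟩ := FiniteField.exists_nonsquare (F := F) (fun h => h2 (by
    have := ringChar.Nat.cast_ringChar (R := F)
    rw [h] at this
    exact_mod_cast this))
  obtain ⟨hplus, hminus⟩ := sym_class p h2 (by omega) hnm hα hM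
  obtain ⟨k1, k2⟩ := card_ne h2 hm hα
  by_cases hs : IsSquare ((-1) ^ m * (M : Matrix (Fin n) (Fin n) F).det)
  · obtain ⟨e'⟩ := hplus hs
    exact k1 (Nat.card_congr (e'.symm.trans e).toEquiv)
  · obtain ⟨e'⟩ := hminus hs
    exact k2 (Nat.card_congr (e'.symm.trans e).toEquiv)

include hp in
/-- The splitting numbers. -/
theorem splitting (hn : 3 ≤ n) {γ : MulAut PSL(n, F)} (hγ : Cfsg.IsGraphAutClassPSL γ)
    (hγ2 : orderOf γ = 2) (hpar : Odd p ↔ (2 : F) ≠ 0) :
    ((Even n ∧ Odd p ∧ Nonempty (↥(Cfsg.inndiagPSL n F ⊓ Subgroup.centralizer {γ}) ≃* Cfsg.PGSp (n / 2) F)) →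
      Cfsg.splitClassCount (Cfsg.inndiagPSL n F) (Cfsg.Inn PSL(n, F)) γ = Nat.gcd (n / 2) (Fintype.card F - 1)) ∧
    ((Even n ∧ Odd p ∧ ¬ Nonempty (↥(Cfsg.inndiagPSL n F ⊓ Subgroup.centralizer {γ}) ≃* Cfsg.PGSp (n / 2) F)) →
      Cfsg.splitClassCount (Cfsg.inndiagPSL n F) (Cfsg.Inn PSL(n, F)) γ = Nat.gcd n (Fintype.card F - 1) / 2) ∧
    (¬ (Even n ∧ Odd p) →
      Cfsg.splitClassCount (Cfsg.inndiagPSL n F) (Cfsg.Inn PSL(n, F)) γ = Nat.gcd n (Fintype.card F - 1)) := by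
  obtain ⟨M, rfl, hM⟩ := exists_gm_of_order p hn hγ hγ2
  refine ⟨?_, ?_, fun h => ?_⟩
  · rintro ⟨⟨m, hm⟩, hodd, hiso⟩
    have h2 := hpar.1 hodd
    have hdiv : n / 2 = m := by omega
    rw [hdiv] at hiso ⊢
    rcases hM with hM | hM
    · exact absurd hiso (not_PGSp p h2 (by omega) (by omega) hM)
    · obtain ⟨e⟩ := exists_equiv (ι := Fin m ⊕ Fin m) (n := n) (by simp; omega)
      exact split_symp p (by omega) e (cong_J e (alt_quad h2 hM) (det_ne M))
  · rintro ⟨⟨m, hm⟩, hodd, hiso⟩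
    have h2 := hpar.1 hodd
    rcases hM with hM | hM
    · exact split_orth p h2 (by omega) ⟨m, hm⟩ M hM
    · have hdiv : n / 2 = m := by omega
      rw [hdiv] at hiso
      obtain ⟨e⟩ := exists_equiv (ι := Fin m ⊕ Fin m) (n := n) (by simp; omega)
      exact absurd (centralizer_PGSp p (by omega) e (cong_J e (alt_quad h2 hM) (det_ne M))) hiso
  · refine split_plain p (by omega) ?_ M
    by_cases he : Even n
    · exact Or.inr (not_not.1 fun h2 => h ⟨he, hpar.2 h2⟩)
    · exact Or.inl (Nat.not_even_iff_odd.1 he)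

include hp in
/-- The class of inverse-transpose. -/
theorem invTranspose_class (hodd : Odd (Fintype.card F)) {m : ℕ} (hm : 2 ≤ m) (hnm : n = 2 * m) :
    (Even (n * (Fintype.card F - 1) / 4) →
      Nonempty (↥(Cfsg.inndiagPSL n F ⊓ Subgroup.centralizer {(graphAut : MulAut PSL(n, F))}) ≃*
        Cfsg.PGO F (Cfsg.quadFormPlus m F))) ∧
    (¬ Even (n * (Fintype.card F - 1) / 4) → ∃ a b : F,
      (∀ z₁ z₂ : F, z₁ ^ 2 + a * z₁ * z₂ + b * z₂ ^ 2 = 0 → z₁ = 0 ∧ z₂ = 0) ∧
      Nonempty (↥(Cfsg.inndiagPSL n F ⊓ Subgroup.centralizer {(graphAut : MulAut PSL(n, F))}) ≃*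
        Cfsg.PGO F (Cfsg.quadFormMinus (m - 1) F a b))) := by
  have h2 := two_ne_of_odd hodd
  obtain ⟨α, hα⟩ := FiniteField.exists_nonsquare (F := F) (fun h => h2 (by
    have := ringChar.Nat.cast_ringChar (R := F)
    rw [h] at this
    exact_mod_cast this))
  obtain ⟨hplus, hminus⟩ := sym_class p h2 (by omega) hnm hα (M := (1 : GL (Fin n) F))
    (by rw [Units.val_one, transpose_one])
  rw [gm_one, Units.val_one, det_one, mul_one] at hplus hminus
  obtain ⟨r, hr⟩ := hodd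
  have he : n * (Fintype.card F - 1) / 4 = m * r := by
    rw [hnm, hr, Nat.add_sub_cancel, show 2 * m * (2 * r) = m * r * 4 by ring,
      Nat.mul_div_cancel _ (by norm_num)]
  have key : IsSquare ((-1 : F) ^ m) ↔ Even (m * r) := by
    rw [Nat.even_mul]
    rcases Nat.even_or_odd m with hme | hmo
    · simp only [hme, true_or, iff_true]
      rw [hme.neg_one_pow]
      exact IsSquare.one
    · rw [hmo.neg_one_pow, FiniteField.isSquare_neg_one_iff, hr]
      simp only [Nat.not_even_iff_odd.2 hmo, false_or, Nat.even_iff]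
      omega
  rw [he, ← key]
  refine ⟨hplus, fun h => ⟨0, -α, fun z₁ z₂ hz => ?_, hminus h⟩⟩
  by_cases hz2 : z₂ = 0
  · subst hz2
    exact ⟨by simpa using hz, rfl⟩
  · exact absurd ⟨z₁ / z₂, by field_simp; linear_combination -hz⟩ hα

end CfsgLib.AutPSL.Graph
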