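import Cfsg.Agent.Lib.AutPSL.Structure
import Cfsg.Agent.Lib.AutPSL.Out

/-!
A group with a self-centralising subgroup `PSL(3,7)` of index two.
-/

set_option autoImplicit false

namespace CfsgLib.AutPSL

open Matrix
open scoped MatrixGroups

instance fact_prime_seven : Fact (Nat.Prime 7) := ⟨by norm_num⟩

/-- the inner automorphisms of `PSL(3,7)` and their products with inverse-transpose -/
def innGraph : Set (MulAut PSL(3, ZMod 7)) :=
  {β | ∃ x, β = MulAut.conj x ∨ β = MulAut.conj x * graphAut}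

theorem ringAut_zmod_seven (σ : ZMod 7 ≃+* ZMod 7) : σ = 1 :=
  RingEquiv.toRingHom_injective (Subsingleton.elim _ _)

theorem delta_cube (g : GL (Fin 3) (ZMod 7)) :
    delta g ^ 3 ∈ (MulAut.conj : PSL(3, ZMod 7) →* MulAut PSL(3, ZMod 7)).range := by
  rw [← map_pow]
  exact mem_range_conj_of_delta _ (Matrix.GeneralLinearGroup.det g) (map_pow _ _ _)

theorem det_contra {n : ℕ} {F : Type*} [Field F] (g : GL (Fin n) F) :
    Matrix.GeneralLinearGroup.det (contra g) = (Matrix.GeneralLinearGroup.det g)⁻¹ := by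
  apply Units.ext
  rw [← map_inv, Matrix.GeneralLinearGroup.val_det_apply, Matrix.GeneralLinearGroup.val_det_apply]
  exact Matrix.det_transpose _

theorem exists_into_aut {H : Type*} [Group H] (N : Subgroup H) [N.Normal] (hN : N.index = 2)
    (eN : N ≃* PSL(3, ZMod 7)) (hC : ∀ h : H, (∀ n ∈ N, h * n = n * h) → h = 1) :
    ∃ ψ : H →* MulAut PSL(3, ZMod 7), Function.Injective ψ ∧ Set.range ψ = innGraph := by
  let ψ : H →* MulAut PSL(3, ZMod 7) :=
    (MulAut.congr eN).toMonoidHom.comp MulAut.conjNormal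
  have happ : ∀ h (n : N), ψ h (eN n) = eN (MulAut.conjNormal h n) := fun h n => by
    show eN (MulAut.conjNormal h (eN.symm (eN n))) = _
    rw [eN.symm_apply_apply]
  have hinj : Function.Injective ψ := by
    rw [injective_iff_map_eq_one]
    intro h hh
    refine hC h fun n hn => ?_
    have h1 := happ h ⟨n, hn⟩
    rw [hh, MulAut.one_apply] at h1
    have h2 := congrArg Subtype.val (eN.injective h1)
    rw [MulAut.conjNormal_apply] at h2
    exact (eq_mul_inv_iff_mul_eq.1 h2).symm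
  have hn : ∀ n : N, ψ n = MulAut.conj (eN n) := fun n => MulEquiv.ext fun y => by
    obtain ⟨m, rfl⟩ := eN.surjective y
    rw [happ, MulAut.conj_apply, ← map_inv, ← map_mul, ← map_mul]
    congr 1
  obtain ⟨h0, hh0⟩ : ∃ h : H, h ∉ N := by
    by_contra hc
    push Not at hc
    rw [Subgroup.index_eq_one.2 (eq_top_iff.2 fun x _ => hc x)] at hN
    exact absurd hN (by norm_num)
  have hout : ψ h0 ∉ (MulAut.conj : PSL(3, ZMod 7) →* MulAut PSL(3, ZMod 7)).range := by
    rintro ⟨x, hx⟩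
    obtain ⟨n, rfl⟩ := eN.surjective x
    rw [← hn] at hx
    exact hh0 (hinj hx ▸ n.2)
  have hsq : ψ h0 ^ 2 ∈ (MulAut.conj : PSL(3, ZMod 7) →* MulAut PSL(3, ZMod 7)).range := by
    rw [← map_pow, ← hN]
    exact ⟨_, (hn ⟨h0 ^ N.index, Subgroup.pow_index_mem N h0⟩).symm⟩
  obtain ⟨g, σ, e, he⟩ := exists_normal_form 7 (by norm_num : 2 ≤ 3) (ψ h0)
  rw [ringAut_zmod_seven σ, map_one, mul_one] at he
  rcases graphPow_eq_or (n := 3) (F := ZMod 7) e with hg | hg <;> rw [hg] at he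
  · exfalso
    rw [mul_one] at he
    rw [he] at hout hsq
    refine hout ?_
    have h : delta g = delta g ^ 3 * (delta g ^ 2)⁻¹ := by group
    rw [h]
    exact mul_mem (delta_cube g) (inv_mem hsq)
  let ψ' : H →* MulAut PSL(3, ZMod 7) := (MulAut.conj (delta g)).toMonoidHom.comp ψ
  have hψ' : Function.Injective ψ' := (MulAut.conj (delta g)).injective.comp hinj
  have hn' : ∀ n : N, ψ' n = MulAut.conj ((delta g : MulAut PSL(3, ZMod 7)) (eN n)) := fun n => by
    show delta g * ψ n * (delta g)⁻¹ = _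
    rw [hn]
    refine MulEquiv.ext fun y => ?_
    simp only [MulAut.mul_apply, MulAut.conj_apply, map_mul, map_inv, MulAut.inv_def,
      MulEquiv.apply_symm_apply]
  obtain ⟨x0, hx0⟩ : ∃ x, ψ' h0 = MulAut.conj x * graphAut := by
    have e1 : ψ' h0 = delta (g * g * contra g⁻¹) * graphAut := by
      show delta g * ψ h0 * (delta g)⁻¹ = _
      rw [he, ← map_inv, mul_assoc, mul_assoc _ _ (delta g⁻¹), graphAut_mul_delta, map_mul, map_mul,
        mul_assoc, mul_assoc]
    obtain ⟨x, hx⟩ := mem_range_conj_of_delta (g * g * contra g⁻¹)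
      (Matrix.GeneralLinearGroup.det g) (by
        rw [map_mul, map_mul, det_contra, map_inv, inv_inv, pow_succ, pow_two])
    exact ⟨x, by rw [e1, ← hx]⟩
  refine ⟨ψ', hψ', Set.Subset.antisymm ?_ ?_⟩
  · rintro _ ⟨h, rfl⟩
    by_cases hh : h ∈ N
    · exact ⟨_, Or.inl (hn' ⟨h, hh⟩)⟩
    · have hm : h * h0⁻¹ ∈ N :=
        (Subgroup.mul_mem_iff_of_index_two hN).2 (by simp [hh, hh0])
      refine ⟨(delta g : MulAut PSL(3, ZMod 7)) (eN ⟨_, hm⟩) * x0, Or.inr ?_⟩
      rw [map_mul, mul_assoc, ← hx0, ← hn' ⟨_, hm⟩, ← map_mul, inv_mul_cancel_right]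
  · have hconj : ∀ x, MulAut.conj x ∈ ψ'.range := fun x => by
      obtain ⟨y, rfl⟩ := (delta g : MulAut PSL(3, ZMod 7)).surjective x
      obtain ⟨n, rfl⟩ := eN.surjective y
      exact ⟨n, hn' n⟩
    have hgr : graphAut ∈ ψ'.range := by
      have h1 : MulAut.conj x0 * graphAut ∈ ψ'.range := ⟨h0, hx0⟩
      have h2 := mul_mem (inv_mem (hconj x0)) h1
      rwa [inv_mul_cancel_left] at h2
    rintro β ⟨x, rfl | rfl⟩
    · exact hconj x
    · exact mul_mem (hconj x) hgr

theorem nonempty_mulEquiv {H K : Type*} [Group H] [Group K] (N : Subgroup H) [N.Normal]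
    (hN : N.index = 2) (eN : N ≃* PSL(3, ZMod 7))
    (hC : ∀ h : H, (∀ n ∈ N, h * n = n * h) → h = 1) (M : Subgroup K) [M.Normal]
    (hM : M.index = 2) (eM : M ≃* PSL(3, ZMod 7))
    (hD : ∀ h : K, (∀ n ∈ M, h * n = n * h) → h = 1) : Nonempty (H ≃* K) := by
  obtain ⟨ψ, hψ, hr⟩ := exists_into_aut N hN eN hC
  obtain ⟨φ, hφ, hs⟩ := exists_into_aut M hM eM hD
  have h : ψ.range = φ.range :=
    SetLike.coe_injective (by rw [MonoidHom.coe_range, MonoidHom.coe_range, hr, hs])
  exact ⟨(MonoidHom.ofInjective hψ).trans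
    ((MulEquiv.subgroupCongr h).trans (MonoidHom.ofInjective hφ).symm)⟩

end CfsgLib.AutPSL
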