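import Cfsg.Agent.Lib.AutPSL.Structure
import Cfsg.Prelude.Def_LieTypeDatum

set_option autoImplicit false

/-!
The predicates of `Def_LieTypeDatum` on automorphisms of `PSL_n(F)`, in terms of `delta`,
`fieldAut` and `graphAut`.
-/

namespace CfsgLib.AutPSL

open Matrix
open scoped MatrixGroups

variable {n : ℕ} {F : Type*} [Field F]

theorem isInnerDiagonal_iff {β : MulAut PSL(n, F)} :
    Cfsg.IsInnerDiagonalAutPSL β ↔ ∃ g : GL (Fin n) F, β = delta g := by
  constructor
  · rintro ⟨g, hg⟩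
    exact ⟨g, mulAut_ext fun s => by rw [delta_mkP]; exact hg s _ (conjMat_coe g s)⟩
  · rintro ⟨g, rfl⟩
    refine ⟨g, fun s s' h => ?_⟩
    show delta g (s : PSL(n, F)) = _
    rw [delta_mkP, Subtype.ext (h.trans (conjMat_coe g s).symm)]

theorem isStdFieldAut_iff {σ : F ≃+* F} {β : MulAut PSL(n, F)} :
    Cfsg.IsStdFieldAutPSL σ β ↔ β = fieldAut σ := by
  constructor
  · intro h
    exact mulAut_ext fun s => by rw [fieldAut_mkP]; exact h s _ (mapMat_coe σ s)
  · rintro rfl s s' h
    show fieldAut σ (s : PSL(n, F)) = _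
    rw [fieldAut_mkP, Subtype.ext (h.trans (mapMat_coe σ s).symm)]

theorem isInverseTranspose_iff {β : MulAut PSL(n, F)} :
    Cfsg.IsInverseTransposeAutPSL β ↔ β = graphAut := by
  constructor
  · intro h
    exact mulAut_ext fun s => by rw [graphAut_mkP]; exact h s _ (invTr_coe s)
  · rintro rfl s s' h
    show (graphAut : MulAut PSL(n, F)) (s : PSL(n, F)) = _
    rw [graphAut_mkP, Subtype.ext (h.trans (invTr_coe s).symm)]

theorem isInducedBySemilinear_iff {g : GL (Fin n) F} {σ : F ≃+* F} {β : MulAut PSL(n, F)} :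
    Cfsg.IsInducedBySemilinearPSL g σ β ↔ β = delta g * fieldAut σ := by
  constructor
  · intro h
    exact mulAut_ext fun s => by
      rw [MulAut.mul_apply, fieldAut_mkP, delta_mkP]
      exact h s _ (by rw [conjMat_coe, mapMat_coe])
  · rintro rfl s s' h
    show (delta g * fieldAut σ : MulAut PSL(n, F)) (s : PSL(n, F)) = _
    rw [MulAut.mul_apply, fieldAut_mkP, delta_mkP]
    congr 1
    exact Subtype.ext (by rw [conjMat_coe, mapMat_coe, h])

theorem inndiagPSL_eq : Cfsg.inndiagPSL n F = delta.range := by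
  refine le_antisymm ((Subgroup.closure_le _).2 fun β hβ => ?_) ?_
  · obtain ⟨g, rfl⟩ := isInnerDiagonal_iff.1 hβ
    exact ⟨g, rfl⟩
  · rintro _ ⟨g, rfl⟩
    exact Subgroup.subset_closure (isInnerDiagonal_iff.2 ⟨g, rfl⟩)

end CfsgLib.AutPSL
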