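import Cfsg.Agent.Lib.AutPSL.FourCentral

/-!
A perfect group with abelian Sylow 2-subgroups in which the centraliser `C` of an involution `t`
is `⟨t⟩` times an extension of `PSL_2(q)`: no nontrivial 2-group is the kernel of a perfect central
extension, and, if `C` is maximal, a 2-automorphism centralising a Sylow 2-subgroup is inner.
-/

set_option autoImplicit false
set_option linter.style.haveILetI false

namespace CfsgLib.ReeType

open Matrix
open scoped MatrixGroups commutatorElement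

/-- The data: `ι` embeds `PSL_2(F)` as a normal subgroup of `C = C(t)`, with centraliser `{1, t}`. -/
structure Setup (G : Type*) [Group G] (F : Type*) [Field F] [Finite F] where
  perfect : commutator G = ⊤
  abelian : ∀ S : Sylow 2 G, IsMulCommutative (S : Subgroup G)
  nab : ¬ IsMulCommutative G
  odd : Odd (Nat.card F)
  big : 3 < Nat.card F
  t : G
  ht : orderOf t = 2
  C : Subgroup G
  hC : C = Subgroup.centralizer ({t} : Set G)
  ι : Matrix.ProjectiveSpecialLinearGroup (Fin 2) F →* G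
  inj : Function.Injective ι
  le : ι.range ≤ C
  norm : ∀ c ∈ C, ∀ x, c * ι x * c⁻¹ ∈ ι.range
  notmem : t ∉ ι.range
  cent : ∀ c ∈ C, (∀ x, c * ι x = ι x * c) → c = 1 ∨ c = t

namespace Setup

variable {G : Type*} [Group G] [Finite G] {F : Type*} [Field F] [Finite F] (d : Setup G F)

local notation "PSL" => Matrix.ProjectiveSpecialLinearGroup (Fin 2) F

omit [Finite G] in
theorem mem_C {g : G} : g ∈ d.C ↔ g * d.t = d.t * g := by
  rw [d.hC, Subgroup.mem_centralizer_singleton_iff]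

omit [Finite G] in
theorem t_mem : d.t ∈ d.C := d.mem_C.mpr rfl

omit [Finite G] in
theorem tt : d.t * d.t = 1 := by
  have := pow_orderOf_eq_one d.t
  rwa [d.ht, pow_two] at this

omit [Finite G] in
theorem t_ne : d.t ≠ 1 := fun e => by have := d.ht; rw [e, orderOf_one] at this; omega

omit [Finite G] in
/-- An automorphism of `G` preserving `ι.range`, read on `PSL`. -/
theorem exists_pull (φ : MulAut G) (h : ∀ x, φ (d.ι x) ∈ d.ι.range) :
    ∃ α : MulAut PSL, ∀ x, d.ι (α x) = φ (d.ι x) := by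
  choose f hf using fun x => MonoidHom.mem_range.mp (h x)
  have hinj : Function.Injective f := fun x y e => d.inj (φ.injective (by rw [← hf, ← hf, e]))
  have hbij : Function.Bijective f := hinj.bijective_of_finite
  refine ⟨MulEquiv.ofBijective (MonoidHom.mk' f fun x y => d.inj ?_) hbij, fun x => hf x⟩
  rw [map_mul, hf, hf, hf, map_mul, map_mul]

/-- A Sylow 2-subgroup through `t` and its trace on `PSL`. -/
theorem exists_sylow : ∃ (S : Sylow 2 G) (Q : Sylow 2 PSL),
    d.t ∈ (S : Subgroup G) ∧ (S : Subgroup G) ≤ d.C ∧ IsMulCommutative (Q : Subgroup PSL) ∧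
    ∀ x, d.ι x ∈ (S : Subgroup G) ↔ x ∈ (Q : Subgroup PSL) := by
  obtain ⟨Q⟩ : Nonempty (Sylow 2 PSL) := inferInstance
  have hzp : IsPGroup 2 (Subgroup.zpowers d.t) :=
    IsPGroup.of_card (n := 1) (by rw [Nat.card_zpowers, d.ht, pow_one])
  have hQm : IsPGroup 2 ((Q : Subgroup PSL).map d.ι) := Q.isPGroup'.map d.ι
  have hle : (Q : Subgroup PSL).map d.ι ≤ Subgroup.normalizer (Subgroup.zpowers d.t : Set G) := by
    refine le_trans ?_ (Subgroup.centralizer_le_normalizer _)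
    rintro _ ⟨x, -, rfl⟩
    have hx := d.mem_C.mp (d.le ⟨x, rfl⟩)
    refine Subgroup.mem_centralizer_iff.mpr fun y hy => ?_
    obtain ⟨i, rfl⟩ := Subgroup.mem_zpowers_iff.mp hy
    exact ((show Commute (d.ι x) d.t from hx).zpow_right i).eq.symm
  obtain ⟨S, hS⟩ := (IsPGroup.to_sup_of_normal_left' hzp hQm hle).exists_le_sylow
  have htS : d.t ∈ (S : Subgroup G) := hS (Subgroup.mem_sup_left (Subgroup.mem_zpowers _))
  have hSab := d.abelian S
  have hSC : (S : Subgroup G) ≤ d.C := fun s hs => d.mem_C.mpr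
    (congrArg Subtype.val (hSab.is_comm.comm (⟨s, hs⟩ : (S : Subgroup G)) ⟨d.t, htS⟩))
  have heq : (S : Subgroup G).comap d.ι = (Q : Subgroup PSL) :=
    Q.is_maximal' (S.isPGroup'.comap_of_injective d.ι d.inj)
      (fun x hx => hS (Subgroup.mem_sup_right ⟨x, hx, rfl⟩))
  refine ⟨S, Q, htS, hSC, ⟨⟨fun x y => Subtype.ext (d.inj ?_)⟩⟩,
    fun x => ⟨fun h => heq.le h, fun h => heq.ge h⟩⟩
  rw [Subgroup.coe_mul, Subgroup.coe_mul, map_mul, map_mul]
  exact congrArg Subtype.val (hSab.is_comm.comm (⟨d.ι x, heq.ge x.2⟩ : (S : Subgroup G)) ⟨d.ι y, heq.ge y.2⟩)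

omit [Finite G] in
/-- An automorphism of 2-power order on `ι.range` centralising a Sylow 2-subgroup of it. -/
theorem inner_on_range (Q : Sylow 2 PSL) (hQ : IsMulCommutative (Q : Subgroup PSL)) (φ : MulAut G)
    (h : ∀ x, φ (d.ι x) ∈ d.ι.range) (k : ℕ) (hk : ∀ x, (φ ^ 2 ^ k) (d.ι x) = d.ι x)
    (hfix : ∀ x ∈ (Q : Subgroup PSL), φ (d.ι x) = d.ι x) :
    ∃ v ∈ (Q : Subgroup PSL), ∀ x, φ (d.ι x) = d.ι v * d.ι x * (d.ι v)⁻¹ := by
  obtain ⟨α, hα⟩ := d.exists_pull φ h
  have hpow : ∀ (m : ℕ) x, d.ι ((α ^ m) x) = (φ ^ m) (d.ι x) := by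
    intro m
    induction m with
    | zero => intro x; simp
    | succ m ih => intro x; rw [pow_succ, pow_succ, MulAut.mul_apply, MulAut.mul_apply, ih, hα]
  obtain ⟨v, hv, e⟩ := CfsgLib.FourCentral.exists_conj_of_fix d.odd d.big Q hQ α k
    (MulEquiv.ext fun x => d.inj (by rw [hpow, hk]; rfl))
    (fun x hx => d.inj (by rw [hα, hfix x hx]))
  refine ⟨v, hv, fun x => ?_⟩
  rw [← hα, e, MulAut.conj_apply, map_mul, map_mul, map_inv]

variable {S : Sylow 2 G} {Q : Sylow 2 (Matrix.ProjectiveSpecialLinearGroup (Fin 2) F)}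
  (htS : d.t ∈ (S : Subgroup G)) (hSC : (S : Subgroup G) ≤ d.C)
  (hQ : IsMulCommutative (Q : Subgroup (Matrix.ProjectiveSpecialLinearGroup (Fin 2) F)))
  (hSQ : ∀ x, d.ι x ∈ (S : Subgroup G) ↔ x ∈ (Q : Subgroup (Matrix.ProjectiveSpecialLinearGroup (Fin 2) F)))

include htS hSC hQ hSQ

theorem comm_S {x y : G} (hx : x ∈ (S : Subgroup G)) (hy : y ∈ (S : Subgroup G)) : x * y = y * x :=
  congrArg Subtype.val ((d.abelian S).is_comm.comm (⟨x, hx⟩ : (S : Subgroup G)) ⟨y, hy⟩)

/-- `S = ⟨t⟩ × ι Q`. -/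
theorem exists_form {s : G} (hs : s ∈ (S : Subgroup G)) :
    ∃ v ∈ (Q : Subgroup PSL), s = d.ι v ∨ s = d.t * d.ι v := by
  obtain ⟨m, hm⟩ := S.isPGroup' ⟨s, hs⟩
  have hm' : s ^ 2 ^ m = 1 := congrArg Subtype.val hm
  have hfix : ∀ x ∈ (Q : Subgroup PSL), MulAut.conj s (d.ι x) = d.ι x := by
    intro x hx
    rw [MulAut.conj_apply, d.comm_S htS hSC hQ hSQ hs ((hSQ x).mpr hx), mul_inv_cancel_right]
  obtain ⟨v, hv, hconj⟩ := d.inner_on_range Q hQ (MulAut.conj s)
    (fun x => d.norm s (hSC hs) x) m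
    (fun x => by rw [← map_pow, hm', map_one]; rfl) hfix
  simp only [MulAut.conj_apply] at hconj
  have hvS := (hSQ v).mpr hv
  have hc : ∀ x, (d.ι v)⁻¹ * s * d.ι x = d.ι x * ((d.ι v)⁻¹ * s) := by
    intro x
    calc (d.ι v)⁻¹ * s * d.ι x = (d.ι v)⁻¹ * (s * d.ι x * s⁻¹) * s := by group
      _ = _ := by rw [hconj]; group
  refine ⟨v, hv, ?_⟩
  rcases d.cent _ (mul_mem (inv_mem (hSC hvS)) (hSC hs)) hc with e | e
  · exact Or.inl (inv_mul_eq_one.mp e).symm
  · refine Or.inr ?_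
    rw [inv_mul_eq_iff_eq_mul] at e
    rw [e, d.comm_S htS hSC hQ hSQ hvS htS]

theorem ι_sq {v : PSL} (hv : v ∈ (Q : Subgroup PSL)) : d.ι v * d.ι v = 1 := by
  rw [← map_mul, (CfsgLib.FourCentral.sylow_four d.odd d.big Q hQ).2.1 v hv, map_one]

theorem sq_S {s : G} (hs : s ∈ (S : Subgroup G)) : s * s = 1 := by
  obtain ⟨v, hv, rfl | rfl⟩ := d.exists_form htS hSC hQ hSQ hs
  · exact d.ι_sq htS hSC hQ hSQ hv
  · calc d.t * d.ι v * (d.t * d.ι v) = d.t * (d.ι v * d.t) * d.ι v := by group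
      _ = (d.t * d.t) * (d.ι v * d.ι v) := by
        rw [d.comm_S htS hSC hQ hSQ ((hSQ v).mpr hv) htS]; group
      _ = 1 := by rw [d.tt, d.ι_sq htS hSC hQ hSQ hv, one_mul]

/-- Some element of `N(S)` moves `t`. -/
theorem exists_move :
    ∃ g ∈ Subgroup.normalizer ((S : Subgroup G) : Set G), g * d.t * g⁻¹ ≠ d.t := by
  by_contra h
  push Not at h
  exact d.t_ne (CfsgLib.FourCentral.eq_one_of_normalizer_fixes d.perfect S (d.abelian S) htS h)

/-- An element of `ι.range` normalising `S` and fixing only `1`, `t`. -/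
theorem exists_cycle :
    ∃ (n : PSL) (a : PSL), a ∈ (Q : Subgroup PSL) ∧ a ≠ 1 ∧
      d.ι n ∈ Subgroup.normalizer ((S : Subgroup G) : Set G) ∧ n * a * n⁻¹ ∈ (Q : Subgroup PSL) ∧
      n * a * n⁻¹ ≠ a ∧ n * (n * a * n⁻¹) * n⁻¹ = a * (n * a * n⁻¹) ∧
      ∀ x ∈ (Q : Subgroup PSL), x = 1 ∨ x = a ∨ x = n * a * n⁻¹ ∨ x = a * (n * a * n⁻¹) := by
  classical
  obtain ⟨h4, hsq, n, hn, a, ha, hna⟩ := CfsgLib.FourCentral.sylow_four d.odd d.big Q hQ
  have hnn := Subgroup.mem_normalizer_iff.mp hn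
  have hb : n * a * n⁻¹ ∈ (Q : Subgroup PSL) := (hnn a).mp ha
  have ha1 : a ≠ 1 := fun e => hna (by rw [e, mul_one, mul_inv_cancel])
  set b := n * a * n⁻¹ with hbdef
  have hb1 : b ≠ 1 := fun e => ha1 (mul_eq_left.mp (mul_inv_eq_one.mp e))
  have hab1 : a * b ≠ 1 := fun e => hna (by
    calc b = (a * a) * b := by rw [hsq a ha, one_mul]
      _ = a := by rw [mul_assoc, e, mul_one])
  have hall : ∀ x ∈ (Q : Subgroup PSL), x = 1 ∨ x = a ∨ x = b ∨ x = a * b := by
    intro x hx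
    by_contra hne
    push Not at hne
    have hsub : ({1, a, b, a * b, x} : Finset PSL).card ≤ 4 := by
      rw [← h4, ← Nat.card_eq_finsetCard]
      refine Nat.card_le_card_of_injective (fun y => ⟨y.1, ?_⟩) fun y z h => Subtype.ext (congrArg (fun w => w.1) h)
      have := y.2
      simp only [Finset.mem_insert, Finset.mem_singleton] at this
      rcases this with e | e | e | e | e <;> rw [e]
      exacts [one_mem _, ha, hb, mul_mem ha hb, hx]
    have : ({1, a, b, a * b, x} : Finset PSL).card = 5 := by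
      obtain ⟨h1, h2, h3, h4'⟩ := hne
      rw [Finset.card_insert_of_notMem, Finset.card_insert_of_notMem, Finset.card_insert_of_notMem,
        Finset.card_insert_of_notMem, Finset.card_singleton]
      · simpa using Ne.symm h4'
      · simp [Ne.symm h3, ha1]
      · simp [Ne.symm h2, Ne.symm hna, hb1]
      · simp [Ne.symm h1, Ne.symm ha1, Ne.symm hb1, Ne.symm hab1]
    omega
  have hnS : d.ι n ∈ Subgroup.normalizer ((S : Subgroup G) : Set G) := by
    have hnt : d.ι n * d.t * (d.ι n)⁻¹ = d.t := by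
      rw [d.mem_C.mp (d.le ⟨n, rfl⟩), mul_inv_cancel_right]
    have hnt' : (d.ι n)⁻¹ * d.t * d.ι n = d.t := by
      rw [mul_assoc, ← d.mem_C.mp (d.le ⟨n, rfl⟩), inv_mul_cancel_left]
    rw [Subgroup.mem_normalizer_iff]
    intro s
    constructor
    · intro hs
      obtain ⟨v, hv, rfl | rfl⟩ := d.exists_form htS hSC hQ hSQ hs
      · rw [← map_inv, ← map_mul, ← map_mul]; exact (hSQ _).mpr ((hnn v).mp hv)
      · rw [show d.ι n * (d.t * d.ι v) * (d.ι n)⁻¹ = (d.ι n * d.t * (d.ι n)⁻¹) * (d.ι n * d.ι v * (d.ι n)⁻¹) by group,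
          hnt, ← map_inv, ← map_mul, ← map_mul]
        exact mul_mem htS ((hSQ _).mpr ((hnn v).mp hv))
    · intro hs
      obtain ⟨v, hv, e⟩ := d.exists_form htS hSC hQ hSQ hs
      have hv' : n⁻¹ * v * n ∈ (Q : Subgroup PSL) := (hnn _).mpr (by simpa [mul_assoc] using hv)
      rw [show s = (d.ι n)⁻¹ * (d.ι n * s * (d.ι n)⁻¹) * d.ι n by group]
      rcases e with e | e <;> rw [e]
      · rw [← map_inv, ← map_mul, ← map_mul]; exact (hSQ _).mpr hv'
      · rw [show (d.ι n)⁻¹ * (d.t * d.ι v) * d.ι n = ((d.ι n)⁻¹ * d.t * d.ι n) * ((d.ι n)⁻¹ * d.ι v * d.ι n) by group,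
          hnt', ← map_inv, ← map_mul, ← map_mul]
        exact mul_mem htS ((hSQ _).mpr hv')
  refine ⟨n, a, ha, ha1, hnS, hb, hna, ?_, hall⟩
  rcases hall _ ((hnn b).mp hb) with e | e | e | e
  · exact absurd (mul_eq_left.mp (mul_inv_eq_one.mp e)) hb1
  · -- then `n ^ 2` centralises `Q`, and so does `n`
    exfalso
    have h2 : ∀ j : ℕ, n ^ (2 * j) * a * (n ^ (2 * j))⁻¹ = a := by
      intro j
      induction j with
      | zero => simp
      | succ j ih =>
        calc n ^ (2 * (j + 1)) * a * (n ^ (2 * (j + 1)))⁻¹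
            = n * (n * (n ^ (2 * j) * a * (n ^ (2 * j))⁻¹) * n⁻¹) * n⁻¹ := by
              rw [show 2 * (j + 1) = 2 * j + 1 + 1 by ring, pow_succ', pow_succ']
              group
          _ = a := by rw [ih]; exact e
    haveI : ((Q : Subgroup PSL).subgroupOf (Subgroup.normalizer ((Q : Subgroup PSL) : Set PSL))).Normal :=
      Subgroup.normal_in_normalizer
    set Qn := (Q : Subgroup PSL).subgroupOf (Subgroup.normalizer ((Q : Subgroup PSL) : Set PSL))
    set m := Qn.index with hm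
    have hmodd : Odd m := by
      rw [← Nat.not_even_iff_odd, even_iff_two_dvd]
      intro h
      exact Q.not_dvd_index (h.trans (Subgroup.relIndex_dvd_index_of_le Subgroup.le_normalizer))
    obtain ⟨j, hj⟩ := hmodd
    have hmem : n ^ m ∈ (Q : Subgroup PSL) := by
      have := Qn.pow_index_mem ⟨n, hn⟩
      exact this
    have hc : n ^ m * a * (n ^ m)⁻¹ = a := by
      rw [show n ^ m * a = a * n ^ m from
        congrArg Subtype.val (hQ.is_comm.comm (⟨_, hmem⟩ : (Q : Subgroup PSL)) ⟨a, ha⟩), mul_inv_cancel_right]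
    apply hna
    calc b = n * (n ^ (2 * j) * a * (n ^ (2 * j))⁻¹) * n⁻¹ := by rw [h2]
      _ = n ^ m * a * (n ^ m)⁻¹ := by rw [hj, pow_succ']; group
      _ = a := hc
  · exact absurd (mul_left_cancel (mul_right_cancel e)) hna
  · exact e

/-- Elements of `N(S)` commuting with `ι n` on `S` lie in `{1, t}`. -/
theorem eq_of_comm_cycle {n : PSL} {a : PSL} (hna : n * a * n⁻¹ ≠ a) (ha : a ∈ (Q : Subgroup PSL))
    (hnb : n * (n * a * n⁻¹) * n⁻¹ = a * (n * a * n⁻¹))
    (hall : ∀ x ∈ (Q : Subgroup PSL), x = 1 ∨ x = a ∨ x = n * a * n⁻¹ ∨ x = a * (n * a * n⁻¹))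
    {b : G} (hb : b ∈ (S : Subgroup G)) (hc : d.ι n * b = b * d.ι n) : b = 1 ∨ b = d.t := by
  have key : ∀ v ∈ (Q : Subgroup PSL), n * v * n⁻¹ = v → v = 1 := by
    intro v hv e
    rcases hall v hv with rfl | rfl | rfl | rfl
    · rfl
    · exact absurd e hna
    · rw [hnb] at e
      exact absurd (mul_eq_right.mp e) (fun e' => hna (by rw [e', mul_one, mul_inv_cancel]))
    · rw [show n * (a * (n * a * n⁻¹)) * n⁻¹ = (n * a * n⁻¹) * (n * (n * a * n⁻¹) * n⁻¹) by group, hnb] at e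
      have hcm : n * a * n⁻¹ * a = a * (n * a * n⁻¹) := by
        have hb' : n * a * n⁻¹ ∈ (Q : Subgroup PSL) := by
          have := mul_mem (inv_mem ha) hv
          rwa [inv_mul_cancel_left] at this
        exact congrArg Subtype.val (hQ.is_comm.comm (⟨_, hb'⟩ : (Q : Subgroup PSL)) ⟨a, ha⟩)
      rw [← mul_assoc, hcm] at e
      have h1 : n * a * n⁻¹ = 1 := mul_eq_left.mp e
      exact absurd (mul_eq_left.mp (mul_inv_eq_one.mp h1)) (fun e' => hna (by rw [e', mul_one, mul_inv_cancel]))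
  have hnt : d.ι n * d.t = d.t * d.ι n := d.mem_C.mp (d.le ⟨n, rfl⟩)
  obtain ⟨v, hv, rfl | rfl⟩ := d.exists_form htS hSC hQ hSQ hb
  · left
    rw [key v hv (d.inj (by rw [map_mul, map_mul, map_inv, hc, mul_inv_cancel_right])), map_one]
  · right
    have h1 : d.ι n * d.ι v = d.ι v * d.ι n := by
      rw [← mul_assoc, hnt, mul_assoc, mul_assoc] at hc
      exact mul_left_cancel hc
    rw [key v hv (d.inj (by rw [map_mul, map_mul, map_inv, h1, mul_inv_cancel_right])), map_one, mul_one]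

/-- The preimage of `S` in a central extension is abelian. -/
theorem lift_comm {L : Type*} [Group L] (π : L →* G) (hπ : Function.Surjective π)
    (hker : π.ker ≤ Subgroup.center L) {X Y : L} (hX : π X ∈ (S : Subgroup G))
    (hY : π Y ∈ (S : Subgroup G)) : X * Y = Y * X := by
  -- the commutator only depends on the images
  have hdep : ∀ X X' Y Y' : L, π X = π X' → π Y = π Y' → ⁅X, Y⁆ = ⁅X', Y'⁆ := by
    intro X X' Y Y' hx hy
    have hz : ∀ A B : L, π A = π B → ∀ W, W * (B⁻¹ * A) = (B⁻¹ * A) * W := fun A B h W =>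
      Subgroup.mem_center_iff.mp (hker (by rw [MonoidHom.mem_ker, map_mul, map_inv, h, inv_mul_cancel])) W
    obtain ⟨z, hzc, rfl⟩ : ∃ z, (∀ W, W * z = z * W) ∧ X = X' * z :=
      ⟨X'⁻¹ * X, hz X X' hx, by group⟩
    obtain ⟨w, hwc, rfl⟩ : ∃ w, (∀ W, W * w = w * W) ∧ Y = Y' * w :=
      ⟨Y'⁻¹ * Y, hz Y Y' hy, by group⟩
    rw [commutatorElement_def, commutatorElement_def]
    calc X' * z * (Y' * w) * (X' * z)⁻¹ * (Y' * w)⁻¹
        = X' * (z * Y') * (w * (z⁻¹ * X'⁻¹)) * (w⁻¹ * Y'⁻¹) := by group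
      _ = X' * (Y' * z) * (z⁻¹ * X'⁻¹ * w) * (w⁻¹ * Y'⁻¹) := by rw [← hzc Y', ← hwc (z⁻¹ * X'⁻¹)]
      _ = _ := by group
  let J : Subgroup L := (S : Subgroup G).comap π
  have hcen : ∀ X ∈ J, ∀ Y ∈ J, ⁅X, Y⁆ ∈ Subgroup.center L := fun X hX Y hY => hker (by
    rw [MonoidHom.mem_ker, map_commutatorElement]
    exact commutatorElement_eq_one_iff_mul_comm.mpr (d.comm_S htS hSC hQ hSQ hX hY))
  -- `⁅X, ·⁆` is multiplicative on `J`
  have hmul : ∀ X ∈ J, ∀ Y ∈ J, ∀ W ∈ J, ⁅X, Y * W⁆ = ⁅X, Y⁆ * ⁅X, W⁆ := by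
    intro X hX Y hY W hW
    have e : ⁅X, Y * W⁆ = ⁅X, Y⁆ * (Y * ⁅X, W⁆ * Y⁻¹) := by
      simp only [commutatorElement_def]; group
    rw [e, Subgroup.mem_center_iff.mp (hcen X hX W hW) Y, mul_inv_cancel_right]
  obtain ⟨T, hT⟩ := hπ d.t
  have hTJ : T ∈ J := Subgroup.mem_comap.mpr (hT.symm ▸ htS)
  obtain ⟨n, a, ha, ha1, hnS, hb, hna, hnb, hall⟩ := d.exists_cycle htS hSC hQ hSQ
  obtain ⟨A, hA⟩ := hπ (d.ι a)
  obtain ⟨N, hN⟩ := hπ (d.ι n)
  set B := N * A * N⁻¹
  have hB : π B = d.ι (n * a * n⁻¹) := by simp [B, hA, hN]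
  have hAJ : A ∈ J := Subgroup.mem_comap.mpr (hA.symm ▸ (hSQ a).mpr ha)
  have hBJ : B ∈ J := Subgroup.mem_comap.mpr (hB.symm ▸ (hSQ _).mpr hb)
  -- invariance under `N`
  have hinvT : ∀ X, X ∈ J → π (N * X * N⁻¹) ∈ (S : Subgroup G) → ⁅T, N * X * N⁻¹⁆ = ⁅T, X⁆ := by
    intro X hXJ _
    have hNT : π (N * T * N⁻¹) = π T := by
      rw [map_mul, map_mul, map_inv, hN, hT, d.mem_C.mp (d.le ⟨n, rfl⟩), mul_inv_cancel_right]
    calc ⁅T, N * X * N⁻¹⁆ = ⁅N * T * N⁻¹, N * X * N⁻¹⁆ := hdep _ _ _ _ hNT.symm rfl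
      _ = N * ⁅T, X⁆ * N⁻¹ := by simp only [commutatorElement_def]; group
      _ = ⁅T, X⁆ := by rw [Subgroup.mem_center_iff.mp (hcen T hTJ X hXJ) N, mul_inv_cancel_right]
  have hTA : ⁅T, A⁆ = 1 := by
    have h1 : ⁅T, B⁆ = ⁅T, A⁆ := hinvT A hAJ (hB.symm ▸ (hSQ _).mpr hb)
    have h2 : ⁅T, N * B * N⁻¹⁆ = ⁅T, B⁆ := hinvT B hBJ (by
      rw [map_mul π (N * B), map_mul π N B, map_inv, hB, hN, ← map_inv, ← map_mul, ← map_mul]
      exact (hSQ _).mpr (hnb.symm ▸ mul_mem ha hb))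
    have h3 : ⁅T, N * B * N⁻¹⁆ = ⁅T, A * B⁆ := hdep _ _ _ _ rfl (by
      rw [map_mul π (N * B), map_mul π N B, map_mul π A B, map_inv, hB, hN, hA, ← map_inv, ← map_mul, ← map_mul, ← map_mul, hnb])
    rw [hmul T hTJ A hAJ B hBJ, h2, h1] at h3
    exact mul_eq_left.mp h3.symm
  have hTB : ⁅T, B⁆ = 1 := (hinvT A hAJ (hB.symm ▸ (hSQ _).mpr hb)).trans hTA
  -- generation of `J` modulo the kernel
  have hgen : ∀ (K : Subgroup L), π.ker ≤ K → T ∈ K → A ∈ K → B ∈ K → J ≤ K := by
    intro K h0 h1 h2 h3 X hXJ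
    obtain ⟨v, hv, e⟩ := d.exists_form htS hSC hQ hSQ hXJ
    have hlift : ∀ W ∈ K, π X = π W → X ∈ K := by
      intro W hW hXW
      have := mul_mem hW (h0 (show W⁻¹ * X ∈ π.ker by
        rw [MonoidHom.mem_ker, map_mul, map_inv, hXW, inv_mul_cancel]))
      rwa [mul_inv_cancel_left] at this
    obtain ⟨W, hW, hWv⟩ : ∃ W ∈ K, π W = d.ι v := by
      rcases hall v hv with rfl | rfl | rfl | rfl
      · exact ⟨1, one_mem K, by simp⟩
      · exact ⟨A, h2, hA⟩
      · exact ⟨B, h3, hB⟩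
      · exact ⟨A * B, mul_mem h2 h3, by rw [map_mul, map_mul d.ι, hA, hB]⟩
    rcases e with e | e
    · exact hlift W hW (by rw [e, hWv])
    · exact hlift (T * W) (mul_mem h1 hW) (by rw [e, map_mul, hT, hWv])
  have hTall : ∀ X ∈ J, T * X = X * T := by
    intro X hXJ
    have hle := hgen (Subgroup.centralizer ({T} : Set L))
      (fun z hz => Subgroup.mem_centralizer_singleton_iff.mpr (Subgroup.mem_center_iff.mp (hker hz) T).symm)
      (Subgroup.mem_centralizer_singleton_iff.mpr rfl)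
      (Subgroup.mem_centralizer_singleton_iff.mpr (commutatorElement_eq_one_iff_mul_comm.mp hTA).symm)
      (Subgroup.mem_centralizer_singleton_iff.mpr (commutatorElement_eq_one_iff_mul_comm.mp hTB).symm)
    exact (Subgroup.mem_centralizer_singleton_iff.mp (hle hXJ)).symm
  -- a conjugate of `t` with nontrivial trace on `Q`
  obtain ⟨g, hg, hgt⟩ := d.exists_move htS hSC hQ hSQ
  obtain ⟨Gl, hGl⟩ := hπ g
  have hgS : ∀ s, s ∈ (S : Subgroup G) ↔ g * s * g⁻¹ ∈ (S : Subgroup G) := Subgroup.mem_normalizer_iff.mp hg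
  have hT'all : ∀ X ∈ J, Gl * T * Gl⁻¹ * X = X * (Gl * T * Gl⁻¹) := by
    intro X hXJ
    have hX' : Gl⁻¹ * X * Gl ∈ J := by
      rw [Subgroup.mem_comap, map_mul, map_mul, map_inv, hGl, hgS]
      simpa [mul_assoc] using Subgroup.mem_comap.mp hXJ
    calc Gl * T * Gl⁻¹ * X = Gl * (T * (Gl⁻¹ * X * Gl)) * Gl⁻¹ := by group
      _ = _ := by rw [hTall _ hX']; group
  obtain ⟨v, hv, hvform⟩ := d.exists_form htS hSC hQ hSQ ((hgS d.t).mp htS)
  -- `A` commutes with `B`
  have hAB : A * B = B * A := by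
    have hT'A := hT'all A hAJ
    have hT'B := hT'all B hBJ
    have hW : ∃ W, π W = d.ι v ∧ W * A = A * W ∧ W * B = B * W := by
      rcases hvform with e | e
      · exact ⟨_, by rw [map_mul, map_mul, map_inv, hGl, hT, e], hT'A, hT'B⟩
      · refine ⟨T⁻¹ * (Gl * T * Gl⁻¹), ?_, ?_, ?_⟩
        · rw [map_mul, map_inv, map_mul, map_mul, map_inv, hGl, hT, e, inv_mul_cancel_left]
        · exact ((show Commute T A from hTall A hAJ).inv_left.mul_left hT'A).eq
        · exact ((show Commute T B from hTall B hBJ).inv_left.mul_left hT'B).eq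
    obtain ⟨W, hWv, hWA, hWB⟩ := hW
    rcases hall v hv with rfl | rfl | rfl | rfl
    · exfalso
      rw [map_one, mul_one] at hvform
      rcases hvform with e | e
      · exact d.t_ne (mul_eq_left.mp (mul_inv_eq_one.mp e))
      · exact hgt e
    · exact commutatorElement_eq_one_iff_mul_comm.mp
        ((hdep A W B B (hA.trans hWv.symm) rfl).trans (commutatorElement_eq_one_iff_mul_comm.mpr hWB))
    · exact (commutatorElement_eq_one_iff_mul_comm.mp
        ((hdep B W A A (hB.trans hWv.symm) rfl).trans (commutatorElement_eq_one_iff_mul_comm.mpr hWA))).symm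
    · have h : (A * B) * B = B * (A * B) := commutatorElement_eq_one_iff_mul_comm.mp
        ((hdep (A * B) W B B (by rw [hWv, map_mul, map_mul d.ι, hA, hB]) rfl).trans
          (commutatorElement_eq_one_iff_mul_comm.mpr hWB))
      rw [← mul_assoc B A B] at h
      exact mul_right_cancel h
  have hlist : ∀ Z ∈ ({T, A, B} : Set L), ∀ W ∈ J, Z * W = W * Z := by
    intro Z hZ W hW
    have hgenZ : ∀ Z : L, Z * T = T * Z → Z * A = A * Z → Z * B = B * Z → ∀ W ∈ J, Z * W = W * Z := by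
      intro Z h1 h2 h3 W hW
      have hle := hgen (Subgroup.centralizer ({Z} : Set L))
        (fun z hz => Subgroup.mem_centralizer_singleton_iff.mpr (Subgroup.mem_center_iff.mp (hker hz) Z).symm)
        (Subgroup.mem_centralizer_singleton_iff.mpr h1.symm)
        (Subgroup.mem_centralizer_singleton_iff.mpr h2.symm)
        (Subgroup.mem_centralizer_singleton_iff.mpr h3.symm)
      exact (Subgroup.mem_centralizer_singleton_iff.mp (hle hW)).symm
    rcases hZ with rfl | rfl | rfl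
    · exact hTall W hW
    · exact hgenZ _ (hTall _ hAJ).symm rfl hAB W hW
    · exact hgenZ _ (hTall _ hBJ).symm hAB.symm rfl W hW
  have hle : J ≤ Subgroup.centralizer (J : Set L) := by
    refine hgen _ (fun z hz => Subgroup.mem_centralizer_iff.mpr fun y _ =>
      (Subgroup.mem_center_iff.mp (hker hz) y)) ?_ ?_ ?_
    all_goals refine Subgroup.mem_centralizer_iff.mpr fun W hW => (hlist _ ?_ W hW).symm
    all_goals simp
  exact Subgroup.mem_centralizer_iff.mp (hle hY) X hX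

omit htS hSC hQ hSQ
include d

/-- No nontrivial 2-group is the kernel of a perfect central extension. -/
theorem multiplier {L : Type*} [Group L] [Finite L] (hL : commutator L = ⊤) (π : L →* G)
    (hπ : Function.Surjective π) (hker : π.ker ≤ Subgroup.center L) (hp : IsPGroup 2 π.ker) :
    π.ker = ⊥ := by
  obtain ⟨S, Q, htS, hSC, hQ, hSQ⟩ := d.exists_sylow
  have hJ : IsPGroup 2 ((S : Subgroup G).comap π) := S.isPGroup'.comap_of_ker_isPGroup π hp
  obtain ⟨P, hP⟩ := hJ.exists_le_sylow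
  have hPeq : (P : Subgroup L).map π ≤ (S : Subgroup G) := by
    have := S.is_maximal' (P.isPGroup'.map π)
      (fun s hs => by
        obtain ⟨X, rfl⟩ := hπ s
        exact ⟨X, hP (Subgroup.mem_comap.mpr hs), rfl⟩)
    exact this.le
  have hab : IsMulCommutative (P : Subgroup L) := ⟨⟨fun X Y => Subtype.ext
    (d.lift_comm htS hSC hQ hSQ π hπ hker (hPeq ⟨X, X.2, rfl⟩) (hPeq ⟨Y, Y.2, rfl⟩))⟩⟩
  rw [Subgroup.eq_bot_iff_forall]
  intro z hz
  refine CfsgLib.FourCentral.eq_one_of_normalizer_fixes hL P hab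
    (hP (Subgroup.mem_comap.mpr (by rw [hz]; exact one_mem _))) fun n _ => ?_
  rw [Subgroup.mem_center_iff.mp (hker hz) n, mul_inv_cancel_right]

/-- A 2-automorphism centralising a Sylow 2-subgroup is inner. -/
theorem inner (hmax : IsCoatom d.C) (φ : MulAut G) (k : ℕ) (hφ : φ ^ 2 ^ k = 1) (S' : Sylow 2 G)
    (hfix : ∀ s ∈ (S' : Subgroup G), φ s = s) : ∃ g : G, ∀ x, φ x = g * x * g⁻¹ := by
  classical
  obtain ⟨S, Q, htS, hSC, hQ, hSQ⟩ := d.exists_sylow
  obtain ⟨h, rfl⟩ := MulAction.exists_smul_eq G S S'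
  suffices H : ∀ φ : MulAut G, φ ^ 2 ^ k = 1 → (∀ s ∈ (S : Subgroup G), φ s = s) →
      ∃ g : G, ∀ x, φ x = g * x * g⁻¹ by
    obtain ⟨g, hg⟩ := H ((MulAut.conj h)⁻¹ * φ * MulAut.conj h)
      (by
        have : (MulAut.conj h)⁻¹ * φ * MulAut.conj h = MulAut.conj ((MulAut.conj h)⁻¹) φ := by
          rw [MulAut.conj_apply, inv_inv]
        rw [this, ← map_pow, hφ, map_one])
      (fun s hs => by
        rw [MulAut.mul_apply, MulAut.mul_apply, hfix _ (by
          rw [Sylow.coe_subgroup_smul]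
          exact ⟨s, hs, rfl⟩), MulAut.inv_apply, MulEquiv.symm_apply_apply])
    refine ⟨h * g * h⁻¹, fun x => ?_⟩
    have e := hg (h⁻¹ * x * h)
    simp only [MulAut.mul_apply, MulAut.inv_apply, MulAut.conj_apply, MulAut.conj_symm_apply] at e
    calc φ x = h * (h⁻¹ * φ x * h) * h⁻¹ := by group
      _ = h * (g * (h⁻¹ * x * h) * g⁻¹) * h⁻¹ := by
        rw [← e, show h * (h⁻¹ * x * h) * h⁻¹ = x by group]
      _ = _ := by group
  clear hfix hφ φ
  intro φ hφ hfix
  have hφC : ∀ c ∈ d.C, φ c ∈ d.C := fun c hc => by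
    rw [d.mem_C] at hc ⊢
    rw [← hfix d.t htS, ← map_mul, hc, map_mul]
  -- `φ` preserves `ι.range`
  have hrange : ∀ x, φ (d.ι x) ∈ d.ι.range := by
    haveI := CfsgLib.FourCentral.isSimpleGroup_psl (F := F) d.big
    let K : Subgroup PSL := (d.ι.range.map φ.toMonoidHom).comap d.ι
    have hKn : K.Normal := ⟨fun x hx y => by
      obtain ⟨_, ⟨w, rfl⟩, e⟩ := hx
      obtain ⟨u, hu⟩ := d.norm (φ.symm (d.ι y)) (by
        have hy := d.mem_C.mp (d.le ⟨y, rfl⟩)
        rw [d.mem_C]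
        apply φ.injective
        rw [map_mul, map_mul, MulEquiv.apply_symm_apply, hfix d.t htS]
        exact hy) w
      refine Subgroup.mem_comap.mpr ⟨_, ⟨u, rfl⟩, ?_⟩
      have e' : φ (d.ι w) = d.ι x := e
      show φ (d.ι u) = _
      rw [hu, map_mul, map_mul, map_inv, MulEquiv.apply_symm_apply, e', map_mul, map_mul, map_inv]⟩
    rcases hKn.eq_bot_or_eq_top with hK | hK
    · exfalso
      -- then `φ` maps `ι.range` into `{1, t}`
      have hcomm : ∀ x y, φ (d.ι x) * d.ι y = d.ι y * φ (d.ι x) := by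
        intro x y
        obtain ⟨u, hu⟩ := d.norm (φ (d.ι x)) (hφC _ (d.le ⟨x, rfl⟩)) y
        have hmem : u * y⁻¹ ∈ K := by
          refine Subgroup.mem_comap.mpr ?_
          obtain ⟨w, hw⟩ := d.norm (φ.symm (d.ι y)) (by
            have hy := d.mem_C.mp (d.le ⟨y, rfl⟩)
            rw [d.mem_C]
            apply φ.injective
            rw [map_mul, map_mul, MulEquiv.apply_symm_apply, hfix d.t htS]
            exact hy) x⁻¹
          refine ⟨d.ι x * d.ι w, mul_mem ⟨x, rfl⟩ ⟨w, rfl⟩, ?_⟩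
          show φ (d.ι x * d.ι w) = _
          rw [map_mul, hw, map_mul, map_mul, map_inv, map_inv, map_inv, MulEquiv.apply_symm_apply,
            map_mul d.ι, map_inv, hu]
          group
        rw [hK, Subgroup.mem_bot, mul_inv_eq_one] at hmem
        rw [hmem, eq_mul_inv_iff_mul_eq] at hu
        exact hu.symm
      let e : PSL → ({1, d.t} : Finset G) := fun x => ⟨φ (d.ι x), by
        simpa using d.cent _ (hφC _ (d.le ⟨x, rfl⟩)) (hcomm x)⟩
      have hle := Nat.card_le_card_of_injective e fun x y h => d.inj (φ.injective (congrArg Subtype.val h))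
      rw [Nat.card_eq_finsetCard] at hle
      have := Nat.le_of_dvd Nat.card_pos (CfsgLib.FourCentral.four_dvd_card (F := F) d.odd d.big)
      have := (Finset.card_le_two (a := (1 : G)) (b := d.t))
      omega
    · intro x
      have hsurj : d.ι.range ≤ d.ι.range.map φ.toMonoidHom := by
        rintro _ ⟨y, rfl⟩
        exact Subgroup.mem_comap.mp (hK.ge (Subgroup.mem_top y))
      have heq : d.ι.range.map φ.toMonoidHom = d.ι.range := by
        refine (Subgroup.eq_of_le_of_card_ge hsurj ?_).symm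
        rw [Subgroup.card_map_of_injective φ.injective]
      exact heq.le ⟨_, ⟨x, rfl⟩, rfl⟩
  obtain ⟨v, hv, hvconj⟩ := d.inner_on_range Q hQ φ hrange k (fun x => by rw [hφ]; rfl)
    (fun x hx => hfix _ ((hSQ x).mpr hx))
  have hvS := (hSQ v).mpr hv
  have hv2 : d.ι v * d.ι v = 1 := d.ι_sq htS hSC hQ hSQ hv
  -- `φ₁` fixes `C` pointwise
  set φ₁ : MulAut G := MulAut.conj (d.ι v) * φ with hφ₁
  have hφ₁pow : φ₁ ^ 2 ^ (k + 1) = 1 := by
    have hc : Commute (MulAut.conj (d.ι v)) φ := by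
      refine MulEquiv.ext fun x => ?_
      show d.ι v * φ x * (d.ι v)⁻¹ = φ (d.ι v * x * (d.ι v)⁻¹)
      rw [map_mul, map_mul, map_inv, hfix _ hvS]
    rw [hφ₁, hc.mul_pow, pow_succ, pow_mul φ, hφ, one_pow, mul_one, ← map_pow, mul_comm (2 ^ k) 2,
      pow_mul, pow_two, hv2, one_pow, map_one]
  have hfix₁ : ∀ s ∈ (S : Subgroup G), φ₁ s = s := fun s hs => by
    rw [hφ₁, MulAut.mul_apply, hfix s hs, MulAut.conj_apply, d.comm_S htS hSC hQ hSQ hvS hs,
      mul_inv_cancel_right]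
  have hfixR : ∀ x, φ₁ (d.ι x) = d.ι x := fun x => by
    rw [hφ₁, MulAut.mul_apply, hvconj, MulAut.conj_apply]
    calc _ = (d.ι v * d.ι v) * d.ι x * (d.ι v * d.ι v)⁻¹ := by group
      _ = _ := by rw [hv2]; group
  have hfixC : ∀ c ∈ d.C, φ₁ c = c := by
    have hval : ∀ c ∈ d.C, c⁻¹ * φ₁ c = 1 ∨ c⁻¹ * φ₁ c = d.t := by
      intro c hc
      have hmem : φ₁ c ∈ d.C := by
        rw [hφ₁, MulAut.mul_apply, MulAut.conj_apply]
        exact mul_mem (mul_mem (hSC hvS) (hφC c hc)) (inv_mem (hSC hvS))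
      refine d.cent _ (mul_mem (inv_mem hc) hmem) fun x => ?_
      obtain ⟨u, hu⟩ := d.norm c hc x
      have h1 : φ₁ c * d.ι x * (φ₁ c)⁻¹ = c * d.ι x * c⁻¹ := by
        have := congrArg φ₁ hu
        rw [hfixR, map_mul, map_mul, map_inv, hfixR, hu] at this
        exact this.symm
      calc c⁻¹ * φ₁ c * d.ι x = c⁻¹ * (φ₁ c * d.ι x * (φ₁ c)⁻¹) * φ₁ c := by group
        _ = _ := by rw [h1]; group
    let Fx : Subgroup d.C :=
      { carrier := {c | φ₁ (c : G) = c}
        one_mem' := map_one φ₁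
        mul_mem' := fun {a b} ha hb => by
          show φ₁ ((a : G) * b) = _
          rw [map_mul, show φ₁ (a : G) = a from ha, show φ₁ (b : G) = b from hb]
          rfl
        inv_mem' := fun {a} ha => by
          show φ₁ ((a : G)⁻¹) = _
          rw [map_inv, show φ₁ (a : G) = a from ha]
          rfl }
    have hidx : Fx.index ≤ 2 := by
      have hinj : Function.Injective (fun q : d.C ⧸ Fx =>
          Quotient.liftOn' q (fun c : d.C => φ₁ (c : G) * (c : G)⁻¹) (fun a b hab => by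
            rw [QuotientGroup.leftRel_apply] at hab
            have e : φ₁ (((a⁻¹ * b : d.C)) : G) = ((a⁻¹ * b : d.C) : G) := hab
            rw [Subgroup.coe_mul, Subgroup.coe_inv, map_mul, map_inv] at e
            calc φ₁ (a : G) * (a : G)⁻¹ = φ₁ (a : G) * ((a : G)⁻¹ * b) * (b : G)⁻¹ := by group
              _ = _ := by rw [← e]; group)) := by
        intro q r
        induction q using QuotientGroup.induction_on
        induction r using QuotientGroup.induction_on
        rename_i a b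
        intro e
        change φ₁ (a : G) * (a : G)⁻¹ = φ₁ (b : G) * (b : G)⁻¹ at e
        refine QuotientGroup.eq.mpr ?_
        show φ₁ (((a⁻¹ * b : d.C)) : G) = _
        rw [Subgroup.coe_mul, Subgroup.coe_inv, map_mul, map_inv]
        calc (φ₁ (a : G))⁻¹ * φ₁ b = (φ₁ (a : G))⁻¹ * (φ₁ b * (b : G)⁻¹) * b := by group
          _ = _ := by rw [← e]; group
      have hr : ∀ c : d.C, φ₁ (c : G) * (c : G)⁻¹ ∈ ({1, d.t} : Finset G) := by
        intro c
        have htc : (c : G) * d.t * (c : G)⁻¹ = d.t := by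
          rw [d.mem_C.mp c.2, mul_inv_cancel_right]
        rcases hval c c.2 with e | e <;> rw [inv_mul_eq_iff_eq_mul] at e <;> rw [e]
        · simp
        · rw [htc]; simp
      calc Fx.index ≤ Nat.card ({1, d.t} : Finset G) := by
            refine Nat.card_le_card_of_injective (fun q => ⟨_, ?_⟩)
              fun q r e => hinj (congrArg Subtype.val e)
            induction q using QuotientGroup.induction_on
            exact hr _
        _ ≤ 2 := by rw [Nat.card_eq_finsetCard]; exact Finset.card_le_two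
    have hne2 : Fx.index ≠ 2 := by
      intro e
      refine (S.subtype hSC).not_dvd_index ?_
      refine dvd_trans (e ▸ dvd_rfl : 2 ∣ Fx.index) (Subgroup.index_dvd_of_le fun s hs => ?_)
      exact hfix₁ (s : G) hs
    have h1 : Fx.index = 1 := by
      have : Fx.index ≠ 0 := Subgroup.index_ne_zero_of_finite
      omega
    intro c hc
    exact (Subgroup.index_eq_one.mp h1).ge (Subgroup.mem_top (⟨c, hc⟩ : d.C))
  -- the cocycle on `N(S)`
  set NS := Subgroup.normalizer ((S : Subgroup G) : Set G)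
  have hdmem : ∀ g ∈ NS, g⁻¹ * φ₁ g ∈ (S : Subgroup G) := by
    intro g hg
    have hgS := Subgroup.mem_normalizer_iff.mp hg
    have hcom : ∀ s ∈ (S : Subgroup G), g⁻¹ * φ₁ g * s = s * (g⁻¹ * φ₁ g) := by
      intro s hs
      have h1 : φ₁ g * s * (φ₁ g)⁻¹ = g * s * g⁻¹ := by
        have := hfix₁ _ ((hgS s).mp hs)
        rwa [map_mul, map_mul, map_inv, hfix₁ s hs] at this
      calc g⁻¹ * φ₁ g * s = g⁻¹ * (φ₁ g * s * (φ₁ g)⁻¹) * φ₁ g := by group
        _ = _ := by rw [h1]; group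
    set e := g⁻¹ * φ₁ g with he
    have heC : e ∈ d.C := d.mem_C.mpr (hcom _ htS)
    have hgm : φ₁ g = g * e := by rw [he, mul_inv_cancel_left]
    have hpow : ∀ m : ℕ, (φ₁ ^ m) g = g * e ^ m := by
      intro m
      induction m with
      | zero => simp
      | succ m ih =>
        rw [pow_succ', MulAut.mul_apply, ih, map_mul, map_pow, hfixC e heC, hgm, mul_assoc, ← pow_succ']
    have he1 : e ^ 2 ^ (k + 1) = 1 := by
      have := hpow (2 ^ (k + 1))
      rw [hφ₁pow, MulAut.one_apply] at this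
      exact mul_eq_left.mp this.symm
    have hep : IsPGroup 2 (Subgroup.zpowers e) := by
      obtain ⟨j, -, hj⟩ := (Nat.dvd_prime_pow Nat.prime_two).mp (orderOf_dvd_of_pow_eq_one he1)
      exact IsPGroup.of_card (n := j) (by rw [Nat.card_zpowers, hj])
    have heN : e ∈ Subgroup.normalizer ((S : Subgroup G) : Set G) :=
      Subgroup.centralizer_le_normalizer _ (Subgroup.mem_centralizer_iff.mpr fun s hs => (hcom s hs).symm)
    exact ((IsPGroup.inf_normalizer_sylow hep S).le ⟨Subgroup.mem_zpowers e, heN⟩).2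
  have hQn : ((S : Subgroup G).subgroupOf NS).Normal := Subgroup.normal_in_normalizer
  set SN := (S : Subgroup G).subgroupOf NS
  letI : CommGroup (S : Subgroup G) :=
    { (inferInstance : Group (S : Subgroup G)) with mul_comm := (d.abelian S).is_comm.comm }
  let D : NS → (S : Subgroup G) := fun g => ⟨(g : G)⁻¹ * φ₁ g, hdmem g g.2⟩
  have hDS : ∀ (g : NS) (s : NS), s ∈ SN → D (g * s) = D g := by
    intro g s hs
    refine Subtype.ext ?_
    show ((g : G) * s)⁻¹ * φ₁ ((g : G) * s) = (g : G)⁻¹ * φ₁ g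
    rw [map_mul, hfix₁ (s : G) hs]
    calc ((g : G) * s)⁻¹ * (φ₁ g * s) = (s : G)⁻¹ * (((g : G)⁻¹ * φ₁ g) * s) := by group
      _ = _ := by rw [d.comm_S htS hSC hQ hSQ (y := (s : G)) (hdmem g g.2) hs, inv_mul_cancel_left]
  let Dq : NS ⧸ SN → (S : Subgroup G) := fun q => Quotient.liftOn' q D fun a b hab => by
    rw [QuotientGroup.leftRel_apply] at hab
    rw [← hDS a (a⁻¹ * b) hab, mul_inv_cancel_left]
  haveI : Fintype (NS ⧸ SN) := Fintype.ofFinite _
  let b : (S : Subgroup G) := ∏ q, Dq q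
  have hbS : (b : G) ∈ (S : Subgroup G) := b.2
  have hb2 : (b : G) * b = 1 := d.sq_S htS hSC hQ hSQ hbS
  have hcob : ∀ g : NS, (g : G)⁻¹ * φ₁ g = (g : G)⁻¹ * b * g * b := by
    intro g
    let c : (S : Subgroup G) →* (S : Subgroup G) :=
      MonoidHom.mk' (fun s => ⟨(g : G)⁻¹ * s * g, (Subgroup.mem_normalizer_iff.mp g.2 _).mpr (by
        simp [mul_assoc])⟩)
        (fun s s' => Subtype.ext (by simp [mul_assoc]))
    have h1 : ∀ q : NS ⧸ SN, Dq (q * (g : NS ⧸ SN)) = c (Dq q) * D g := by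
      intro q
      induction q using QuotientGroup.induction_on
      rename_i x
      refine Subtype.ext ?_
      show ((x : G) * g)⁻¹ * φ₁ ((x : G) * g) = (g : G)⁻¹ * ((x : G)⁻¹ * φ₁ x) * g * ((g : G)⁻¹ * φ₁ g)
      rw [map_mul]
      group
    have h2 : b = c b * D g ^ Fintype.card (NS ⧸ SN) := by
      calc b = ∏ q : NS ⧸ SN, Dq (q * (g : NS ⧸ SN)) :=
            (Fintype.prod_equiv (Equiv.mulRight (g : NS ⧸ SN)) _ _ fun q => rfl).symm
        _ = _ := by
          simp only [h1, Finset.prod_mul_distrib, Finset.prod_const, Finset.card_univ, map_prod, b]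
    have h3 : D g * D g = 1 := Subtype.ext (d.sq_S htS hSC hQ hSQ (D g).2)
    have hodd : Odd (Fintype.card (NS ⧸ SN)) := by
      rw [← Nat.card_eq_fintype_card, ← Nat.not_even_iff_odd, even_iff_two_dvd]
      intro h
      exact S.not_dvd_index (h.trans (Subgroup.relIndex_dvd_index_of_le Subgroup.le_normalizer))
    obtain ⟨j, hj⟩ := hodd
    rw [hj, pow_succ, pow_mul, pow_two, h3, one_pow, one_mul] at h2
    have h4 : D g = c b * b := by
      have hcc : c b * c b = 1 := Subtype.ext (d.sq_S htS hSC hQ hSQ (c b).2)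
      calc D g = c b * (c b * D g) := by rw [← mul_assoc, hcc, one_mul]
        _ = _ := by rw [← h2]
    exact congrArg Subtype.val h4
  -- `φ₂` fixes `N(S)`
  set φ₂ : MulAut G := MulAut.conj (b : G) * φ₁ with hφ₂
  have hfixN : ∀ g ∈ NS, φ₂ g = g := by
    intro g hg
    have hbi : (b : G)⁻¹ = b := inv_eq_of_mul_eq_one_right hb2
    have e : φ₁ g = (b : G) * g * b := by
      have := hcob ⟨g, hg⟩
      dsimp only at this
      rw [inv_mul_eq_iff_eq_mul] at this
      rw [this]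
      group
    rw [hφ₂, MulAut.mul_apply, e, MulAut.conj_apply, hbi]
    calc (b : G) * (b * g * b) * b = ((b : G) * b) * g * (b * b) := by group
      _ = g := by rw [hb2, one_mul, mul_one]
  obtain ⟨n, a, ha, -, hnS, -, hna, hnb, hall⟩ := d.exists_cycle htS hSC hQ hSQ
  have hcomm : d.ι n * (b : G) = b * d.ι n := by
    have h := hfixN _ hnS
    rw [hφ₂, MulAut.mul_apply, hfixR, MulAut.conj_apply, mul_inv_eq_iff_eq_mul] at h
    exact h.symm
  have hfixC₂ : ∀ c ∈ d.C, φ₂ c = c := by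
    intro c hc
    rw [hφ₂, MulAut.mul_apply, hfixC c hc, MulAut.conj_apply]
    rcases d.eq_of_comm_cycle htS hSC hQ hSQ hna ha hnb hall hbS hcomm with e | e <;> rw [e]
    · group
    · rw [← d.mem_C.mp hc, mul_inv_cancel_right]
  -- hence `φ₂` is trivial
  obtain ⟨g, hg, hgt⟩ := d.exists_move htS hSC hQ hSQ
  let Fx : Subgroup G :=
    { carrier := {x | φ₂ x = x}
      one_mem' := map_one φ₂
      mul_mem' := fun {x y} hx hy => by
        show φ₂ (x * y) = x * y
        rw [map_mul, show φ₂ x = x from hx, show φ₂ y = y from hy]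
      inv_mem' := fun {x} hx => by
        show φ₂ x⁻¹ = x⁻¹
        rw [map_inv, show φ₂ x = x from hx] }
  have hlt : d.C < Fx := lt_of_le_of_ne hfixC₂ fun e => hgt (by
    have hgC : g ∈ d.C := e ▸ (hfixN g hg : g ∈ Fx)
    rw [d.mem_C.mp hgC, mul_inv_cancel_right])
  have htop := hmax.2 _ hlt
  refine ⟨((b : G) * d.ι v)⁻¹, fun x => ?_⟩
  have hx : φ₂ x = x := htop.ge (Subgroup.mem_top x)
  rw [hφ₂, hφ₁, MulAut.mul_apply, MulAut.mul_apply, MulAut.conj_apply, MulAut.conj_apply] at hx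
  calc φ x = ((b : G) * d.ι v)⁻¹ * ((b : G) * (d.ι v * φ x * (d.ι v)⁻¹) * (b : G)⁻¹) * ((b : G) * d.ι v) := by
        group
    _ = _ := by rw [hx]; group

end Setup

end CfsgLib.ReeType
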