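import Cfsg.Agent.Lib.AutPSL.Frame
import Cfsg.Agent.Lib.Classical.Transvection

set_option autoImplicit false

/-!
An automorphism of `PSL_n(F)` fixing every elementary root subgroup is a diagonal automorphism
followed by a field automorphism; hence the structure of the automorphism group.
-/

namespace CfsgLib.AutPSL

open Matrix
open scoped MatrixGroups commutatorElement

variable {n : ℕ} {F : Type*} [Field F]

theorem commutator_transvection' {i j k : Fin n} (hij : i ≠ j) (hik : i ≠ k) (hkj : k ≠ j)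
    (a b : F) :
    ⁅Matrix.SpecialLinearGroup.transvection hik a, Matrix.SpecialLinearGroup.transvection hkj b⁆ =
      Matrix.SpecialLinearGroup.transvection hij (a * b) := by
  refine CfsgLib.Classical.SL_ext_smul fun v => funext fun l => ?_
  rw [commutatorElement_def, Matrix.SpecialLinearGroup.transvection_inv,
    Matrix.SpecialLinearGroup.transvection_inv]
  simp only [mul_smul, CfsgLib.Classical.transvection_smul_apply]
  by_cases hli : l = i
  · subst hli
    simp only [if_true, if_neg hik, if_neg hik.symm, if_neg hkj.symm, if_neg hij.symm]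
    ring
  · by_cases hlk : l = k
    · subst hlk
      simp only [if_true, if_neg hik, if_neg hik.symm, if_neg hkj.symm, if_neg hij.symm]
      ring
    · simp only [if_neg hli, if_neg hlk]
      ring

/-- An invertible diagonal matrix. -/
def diagGL (d : Fin n → Fˣ) : GL (Fin n) F where
  val := Matrix.diagonal fun i => (d i : F)
  inv := Matrix.diagonal fun i => ((d i)⁻¹ : Fˣ)
  val_inv := by rw [Matrix.diagonal_mul_diagonal]; simp
  inv_val := by rw [Matrix.diagonal_mul_diagonal]; simp

theorem conjMat_diagGL_transvection (d : Fin n → Fˣ) {i j : Fin n} (hij : i ≠ j) (a : F) :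
    conjMat (diagGL d) (Matrix.SpecialLinearGroup.transvection hij a) =
      Matrix.SpecialLinearGroup.transvection hij (d i * a * ((d j)⁻¹ : Fˣ)) := by
  apply Subtype.ext
  rw [conjMat_coe, Matrix.SpecialLinearGroup.transvection_coe,
    Matrix.SpecialLinearGroup.transvection_coe, mul_add, add_mul, mul_one, Units.mul_inv]
  congr 1
  show Matrix.diagonal (fun k => (d k : F)) * Matrix.single i j a *
    Matrix.diagonal (fun k => (((d k)⁻¹ : Fˣ) : F)) = _
  ext r s
  rw [Matrix.mul_diagonal, Matrix.diagonal_mul, Matrix.single_apply, Matrix.single_apply]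
  split
  · rename_i h; rw [h.1, h.2]
  · simp

theorem delta_diagGL_transvection (d : Fin n → Fˣ) {i j : Fin n} (hij : i ≠ j) (a : F) :
    delta (diagGL d) (Matrix.SpecialLinearGroup.transvection hij a : PSL(n, F)) =
      (Matrix.SpecialLinearGroup.transvection hij (d i * a * ((d j)⁻¹ : Fˣ)) : PSL(n, F)) := by
  rw [delta_mkP, conjMat_diagGL_transvection]

theorem mapMat_transvection (σ : F ≃+* F) {i j : Fin n} (hij : i ≠ j) (a : F) :
    mapMat σ (Matrix.SpecialLinearGroup.transvection hij a) =
      Matrix.SpecialLinearGroup.transvection hij (σ a) := by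
  apply Subtype.ext
  rw [mapMat_coe, Matrix.SpecialLinearGroup.transvection_coe,
    Matrix.SpecialLinearGroup.transvection_coe]
  ext r s
  simp only [Matrix.map_apply, Matrix.add_apply, Matrix.one_apply, Matrix.single_apply, map_add,
    apply_ite σ, map_zero, map_one]

/-- A multiplicative additive bijection is a ring automorphism. -/
noncomputable def ringEquivOfBij (f : F → F) (hb : Function.Bijective f)
    (ha : ∀ a b, f (a + b) = f a + f b) (hm : ∀ a b, f (a * b) = f a * f b) : F ≃+* F :=
  { Equiv.ofBijective f hb with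
    map_add' := ha
    map_mul' := hm }

theorem mulAut_ext_transvection [Nontrivial (Fin n)] {α β : MulAut PSL(n, F)}
    (h : ∀ (i j : Fin n) (hij : i ≠ j) (a : F),
      α (Matrix.SpecialLinearGroup.transvection hij a : PSL(n, F)) =
        β (Matrix.SpecialLinearGroup.transvection hij a : PSL(n, F))) : α = β := by
  have := CfsgLib.Classical.eq_top_of_transvection_mem
    ((α.toMonoidHom.comp mkP).eqLocus (β.toMonoidHom.comp mkP)) (fun i j hij c => h i j hij c)
  refine mulAut_ext fun s => ?_
  have hs : s ∈ (α.toMonoidHom.comp mkP).eqLocus (β.toMonoidHom.comp mkP) := this ▸ Subgroup.mem_top s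
  exact hs

variable (p : ℕ) [hp : Fact p.Prime] [CharP F p]

include hp in
/-- The case `n ≥ 3`. -/
theorem field_of_fix_three (hn : 3 ≤ n) (f : Fin n → Fin n → F → F) (β : MulAut PSL(n, F))
    (hf : ∀ (i j : Fin n) (h : i ≠ j) (a : F),
      β (Matrix.SpecialLinearGroup.transvection h a : PSL(n, F)) =
        (Matrix.SpecialLinearGroup.transvection h (f i j a) : PSL(n, F)))
    (i₀ : Fin n) (hnorm : ∀ j, j ≠ i₀ → f i₀ j 1 = 1) :
    ∃ s : F → F, (∀ a b, s (a * b) = s a * s b) ∧
      ∀ i j, i ≠ j → ∀ a, f i j a = s a := by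
  have hmul : ∀ i j k, i ≠ j → i ≠ k → k ≠ j → ∀ a b, f i k a * f k j b = f i j (a * b) := by
    intro i j k hij hik hkj a b
    apply transvection_mk_inj p hij
    rw [← hf i j hij, ← commutator_transvection' hij hik hkj, ← commutator_transvection' hij hik hkj]
    show mkP _ = β (mkP _)
    rw [map_commutatorElement, map_commutatorElement, map_commutatorElement]
    exact congrArg₂ (fun x y => ⁅x, y⁆) (hf i k hik a).symm (hf k j hkj b).symm
  obtain ⟨j₀, hj₀, k₀, hk₀, hjk⟩ : ∃ j, j ≠ i₀ ∧ ∃ k, k ≠ i₀ ∧ j ≠ k := by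
    have : Nontrivial (Fin n) := Fin.nontrivial_iff_two_le.2 (by omega)
    obtain ⟨j, hj⟩ := exists_ne i₀
    obtain ⟨k, -, hk⟩ := Finset.exists_mem_notMem_of_card_lt_card
      (s := ({j, i₀} : Finset (Fin n))) (t := Finset.univ)
      (by rw [Finset.card_pair hj, Finset.card_univ, Fintype.card_fin]; omega)
    simp only [Finset.mem_insert, Finset.mem_singleton, not_or] at hk
    exact ⟨j, hj, k, hk.2, Ne.symm hk.1⟩
  -- `f i j = f i₀ j` away from `i₀`
  have h1 : ∀ i j, i ≠ i₀ → j ≠ i₀ → i ≠ j → ∀ b, f i j b = f i₀ j b := by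
    intro i j hi hj hij b
    have := hmul i₀ j i hj.symm hi.symm hij 1 b
    rwa [hnorm i hi, one_mul, one_mul] at this
  have h2 : ∀ i j, i ≠ i₀ → j ≠ i₀ → ∀ a, f i₀ i a = f i₀ j a := by
    intro i j hi hj a
    by_cases hij : i = j
    · rw [hij]
    have h := hmul i₀ j i hj.symm hi.symm hij a 1
    rwa [h1 i j hi hj hij 1, hnorm j hj, mul_one, mul_one] at h
  have h3 : ∀ i, i ≠ i₀ → ∀ a, f i i₀ a = f i₀ j₀ a := by
    intro i hi a
    obtain ⟨k, hk, hik⟩ : ∃ k, k ≠ i₀ ∧ i ≠ k := by
      by_cases e : i = j₀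
      · exact ⟨k₀, hk₀, e ▸ hjk⟩
      · exact ⟨j₀, hj₀, e⟩
    have h := hmul i k i₀ hik hi hk.symm a 1
    rw [hnorm k hk, mul_one, mul_one] at h
    rw [h, h1 i k hi hk hik, h2 k j₀ hk hj₀]
  have hall : ∀ i j, i ≠ j → ∀ a, f i j a = f i₀ j₀ a := by
    intro i j hij a
    by_cases hi : i = i₀
    · subst hi; exact h2 j j₀ hij.symm hj₀ a
    by_cases hj : j = i₀
    · subst hj; exact h3 i hi a
    rw [h1 i j hi hj hij, h2 j j₀ hj hj₀]
  refine ⟨f i₀ j₀, fun a b => ?_, hall⟩
  have h := hmul i₀ k₀ j₀ hk₀.symm hj₀.symm hjk a b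
  rw [hall i₀ k₀ hk₀.symm, hall j₀ k₀ hjk] at h
  exact h.symm

include hp in
/-- The Steinberg relation exploited for `n = 2`. -/
theorem two_relation {a b s r : F} (hs : s ≠ 0)
    (h : ((Matrix.SpecialLinearGroup.transvection (show (0 : Fin 2) ≠ 1 by decide) a *
        Matrix.SpecialLinearGroup.transvection (show (1 : Fin 2) ≠ 0 by decide) b) *
        Matrix.SpecialLinearGroup.transvection (show (0 : Fin 2) ≠ 1 by decide) s *
        (Matrix.SpecialLinearGroup.transvection (show (0 : Fin 2) ≠ 1 by decide) a *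
          Matrix.SpecialLinearGroup.transvection (show (1 : Fin 2) ≠ 0 by decide) b)⁻¹ : PSL(2, F)) =
      ((Matrix.SpecialLinearGroup.transvection (show (1 : Fin 2) ≠ 0 by decide) r : SL(2, F)) :
        PSL(2, F))) :
    1 + a * b = 0 ∧ b * s = r * a := by
  simp only [← QuotientGroup.mk_mul, ← QuotientGroup.mk_inv] at h
  have h' := mk_inj_of_pow p (by rw [conj_pow, transvection_pow, mul_one, mul_inv_cancel])
    (transvection_pow p _ r) h
  rw [mul_inv_eq_iff_eq_mul] at h'
  have e := congrArg Subtype.val h'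
  simp only [Matrix.SpecialLinearGroup.coe_mul, Matrix.SpecialLinearGroup.transvection_coe] at e
  have e00 := congrFun (congrFun e 0) 1
  have e11 := congrFun (congrFun e 1) 1
  simp [Matrix.mul_apply, Fin.sum_univ_two] at e00 e11
  exact ⟨e00.resolve_right hs, e11⟩

include hp in
/-- The case `n = 2`. -/
theorem field_of_fix_two [Finite F] (f g : F → F) (β : MulAut PSL(2, F))
    (hf : ∀ a, β (Matrix.SpecialLinearGroup.transvection (show (0 : Fin 2) ≠ 1 by decide) a : PSL(2, F)) =
      (Matrix.SpecialLinearGroup.transvection (show (0 : Fin 2) ≠ 1 by decide) (f a) : PSL(2, F)))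
    (hg : ∀ a, β (Matrix.SpecialLinearGroup.transvection (show (1 : Fin 2) ≠ 0 by decide) a : PSL(2, F)) =
      (Matrix.SpecialLinearGroup.transvection (show (1 : Fin 2) ≠ 0 by decide) (g a) : PSL(2, F)))
    (hadd : ∀ a b, f (a + b) = f a + f b) (hinj : Function.Injective f) (hg0 : g 0 = 0)
    (h1 : f 1 = 1) :
    (∀ a b, f (a * b) = f a * f b) ∧ ∀ a, g a = f a := by
  have f0 : f 0 = 0 := by simpa using hadd 0 0
  have fneg : ∀ a, f (-a) = -f a := fun a => by
    have := hadd a (-a); rw [add_neg_cancel, f0] at this; linear_combination -this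
  have fne : ∀ a, a ≠ 0 → f a ≠ 0 := fun a ha e => ha (hinj (e.trans f0.symm))
  -- apply `β` to the relation
  have key : ∀ a t, a ≠ 0 → t ≠ 0 →
      1 + f a * g (-a⁻¹) = 0 ∧ g (-a⁻¹) * f t = g (-(t / a ^ 2)) * f a := by
    intro a t ha ht
    have hrel : (Matrix.SpecialLinearGroup.transvection (show (0 : Fin 2) ≠ 1 by decide) a *
        Matrix.SpecialLinearGroup.transvection (show (1 : Fin 2) ≠ 0 by decide) (-a⁻¹)) *
        Matrix.SpecialLinearGroup.transvection (show (0 : Fin 2) ≠ 1 by decide) t *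
        (Matrix.SpecialLinearGroup.transvection (show (0 : Fin 2) ≠ 1 by decide) a *
          Matrix.SpecialLinearGroup.transvection (show (1 : Fin 2) ≠ 0 by decide) (-a⁻¹))⁻¹ =
        Matrix.SpecialLinearGroup.transvection (show (1 : Fin 2) ≠ 0 by decide) (-(t / a ^ 2)) := by
      rw [mul_inv_eq_iff_eq_mul]
      apply Subtype.ext
      simp only [Matrix.SpecialLinearGroup.coe_mul, Matrix.SpecialLinearGroup.transvection_coe]
      ext r s
      fin_cases r <;> fin_cases s <;> simp [Matrix.mul_apply, Fin.sum_univ_two] <;>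
        field_simp <;> (try ring_nf) <;> (try simp)
    have hh := congrArg (fun x : SL(2, F) => β (x : PSL(2, F))) hrel
    simp only [QuotientGroup.mk_mul, QuotientGroup.mk_inv, map_mul, map_inv, hf, hg] at hh
    exact two_relation p (fne t ht) hh
  have gval : ∀ c, g c = (f c⁻¹)⁻¹ := by
    intro c
    by_cases hc : c = 0
    · subst hc; simp [hg0, f0]
    have h := (key (-c⁻¹) 1 (neg_ne_zero.2 (inv_ne_zero hc)) one_ne_zero).1
    rw [inv_neg, inv_inv, neg_neg, fneg] at h
    exact eq_inv_of_mul_eq_one_left (by linear_combination -h)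
  have core : ∀ a t, a ≠ 0 → t ≠ 0 → f (a ^ 2 / t) * f t = f a * f a := by
    intro a t ha ht
    have h := (key a t ha ht).2
    rw [gval, gval, inv_neg, inv_inv, inv_neg, inv_div, fneg, fneg] at h
    have hu := fne (a ^ 2 / t) (div_ne_zero (pow_ne_zero 2 ha) ht)
    have hfa := fne a ha
    field_simp at h
    linear_combination -h
  have finv : ∀ t, f t⁻¹ = (f t)⁻¹ := by
    intro t
    by_cases ht : t = 0
    · subst ht; simp [f0]
    have := core 1 t one_ne_zero ht
    rw [one_pow, one_div, h1, one_mul] at this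
    exact eq_inv_of_mul_eq_one_left this
  have sq_mul : ∀ a b, f (a ^ 2 * b) = f a * f a * f b := by
    intro a b
    by_cases ha : a = 0
    · subst ha; simp [f0]
    by_cases hb : b = 0
    · subst hb; simp [f0]
    have := core a b⁻¹ ha (inv_ne_zero hb)
    rw [div_inv_eq_mul, finv] at this
    have hfb := fne b hb
    field_simp at this
    linear_combination this
  have hsq : ∀ a, f (a ^ 2) = f a * f a := fun a => by simpa [h1] using sq_mul a 1
  refine ⟨fun a b => ?_, fun a => by rw [gval, finv, inv_inv]⟩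
  by_cases h2 : (2 : F) = 0
  · have hchar : ringChar F = 2 := by
      have : CharP F 2 := CharTwo.of_one_ne_zero_of_two_eq_zero one_ne_zero h2
      exact ringChar.eq F 2
    obtain ⟨c, hc⟩ := FiniteField.isSquare_of_char_two hchar a
    rw [hc, ← sq, sq_mul, hsq]
  · have h3 := hsq (a + b)
    rw [hadd] at h3
    have h4 : f ((a + b) ^ 2) = f (a ^ 2) + (f (a * b) + f (a * b)) + f (b ^ 2) := by
      rw [show (a + b) ^ 2 = a ^ 2 + (a * b + a * b) + b ^ 2 by ring, hadd, hadd, hadd]
    rw [h4, hsq, hsq] at h3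
    have : (2 : F) * (f (a * b) - f a * f b) = 0 := by linear_combination h3
    exact sub_eq_zero.1 ((mul_eq_zero.1 this).resolve_left h2)

variable [Finite F]

include hp in
theorem exists_field_of_fix (hn : 2 ≤ n) (β : MulAut PSL(n, F))
    (hfix : ∀ i j : Fin n, i ≠ j → β '' rootIJ i j = rootIJ i j) :
    ∃ (d : Fin n → Fˣ) (σ : F ≃+* F), β = delta (diagGL d) * fieldAut σ := by
  classical
  have : Nontrivial (Fin n) := Fin.nontrivial_iff_two_le.2 hn
  have h0 : ∀ (i j : Fin n) (a : F), ∃ b : F, ∀ h : i ≠ j,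
      β (Matrix.SpecialLinearGroup.transvection h a : PSL(n, F)) =
        (Matrix.SpecialLinearGroup.transvection h b : PSL(n, F)) := by
    intro i j a
    by_cases h : i = j
    · exact ⟨0, fun h' => absurd h h'⟩
    have hm : β (Matrix.SpecialLinearGroup.transvection h a : PSL(n, F)) ∈ rootIJ i j := by
      rw [← hfix i j h]
      exact Set.mem_image_of_mem _ (transvection_mem_rootIJ h a)
    obtain ⟨b, hb⟩ := (mem_rootIJ_iff h).1 hm
    exact ⟨b, fun _ => hb⟩
  choose f hf using h0
  have finj : ∀ i j, i ≠ j → Function.Injective (f i j) := fun i j h a b e =>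
    transvection_mk_inj p h (β.injective (by rw [hf i j a h, hf i j b h, e]))
  have hfadd : ∀ i j, i ≠ j → ∀ a b, f i j (a + b) = f i j a + f i j b := by
    intro i j h a b
    apply transvection_mk_inj p h
    rw [← hf i j _ h, Matrix.SpecialLinearGroup.transvection_add,
      Matrix.SpecialLinearGroup.transvection_add, QuotientGroup.mk_mul, QuotientGroup.mk_mul,
      map_mul, hf i j a h, hf i j b h]
  have hf0 : ∀ i j, i ≠ j → f i j 0 = 0 := fun i j h => by simpa using hfadd i j h 0 0
  set i₀ : Fin n := ⟨0, by omega⟩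
  let d : Fin n → Fˣ := fun j =>
    if h : j = i₀ then 1
    else (Units.mk0 (f i₀ j 1) (fun e =>
      one_ne_zero (finj i₀ j (Ne.symm h) (e.trans (hf0 i₀ j (Ne.symm h)).symm))))⁻¹
  set β' : MulAut PSL(n, F) := (delta (diagGL d))⁻¹ * β with hβ'
  let f' : Fin n → Fin n → F → F := fun i j a => ((d i)⁻¹ : Fˣ) * f i j a * (d j : F)
  have hf' : ∀ i j (h : i ≠ j) (a : F),
      β' (Matrix.SpecialLinearGroup.transvection h a : PSL(n, F)) =
        (Matrix.SpecialLinearGroup.transvection h (f' i j a) : PSL(n, F)) := by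
    intro i j h a
    show (delta (diagGL d))⁻¹ (β _) = _
    rw [hf i j a h]
    apply (delta (diagGL d) : MulAut PSL(n, F)).injective
    rw [delta_diagGL_transvection, ← MulAut.mul_apply, mul_inv_cancel, MulAut.one_apply]
    congr 2
    simp [f']
    field_simp
  have hnorm : ∀ j, j ≠ i₀ → f' i₀ j 1 = 1 := by
    intro j hj
    have hne : f i₀ j 1 ≠ 0 := fun e =>
      one_ne_zero (finj i₀ j (Ne.symm hj) (e.trans (hf0 i₀ j (Ne.symm hj)).symm))
    simp [f', d, hj, hne]
  obtain ⟨s, hmul, hall⟩ : ∃ s : F → F, (∀ a b, s (a * b) = s a * s b) ∧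
      ∀ i j, i ≠ j → ∀ a, f' i j a = s a := by
    rcases hn.eq_or_lt with h2 | h3
    · subst h2
      have hne01 : (0 : Fin 2) ≠ 1 := by decide
      have hne10 : (1 : Fin 2) ≠ 0 := by decide
      obtain ⟨hm, hg⟩ := field_of_fix_two p (f' 0 1) (f' 1 0) β' (hf' 0 1 hne01) (hf' 1 0 hne10)
        (fun a b => by simp only [f', hfadd 0 1 hne01]; ring)
        (fun a b e => finj 0 1 hne01 (by simpa [f'] using e))
        (by simp [f', hf0 1 0 hne10]) (hnorm 1 hne10)
      refine ⟨f' 0 1, hm, fun i j hij a => ?_⟩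
      fin_cases i <;> fin_cases j
      · exact absurd rfl hij
      · rfl
      · exact hg a
      · exact absurd rfl hij
    · exact field_of_fix_three p h3 f' β' hf' i₀ hnorm
  obtain ⟨j, hj⟩ := exists_ne i₀
  have hinj : Function.Injective s := fun a b e => finj i₀ j hj.symm (by
    have := (hall i₀ j hj.symm a).trans (e.trans (hall i₀ j hj.symm b).symm)
    simpa [f'] using this)
  let σ : F ≃+* F := ringEquivOfBij s (Finite.injective_iff_bijective.1 hinj)
    (fun a b => by
      simp only [← hall i₀ j hj.symm, f', hfadd i₀ j hj.symm]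
      ring) hmul
  refine ⟨d, σ, ?_⟩
  have hβσ : β' = fieldAut σ := mulAut_ext_transvection fun i k hik a => by
    rw [hf' i k hik a, fieldAut_mkP, mapMat_transvection, hall i k hik a]
    rfl
  rw [← hβσ, hβ', mul_inv_cancel_left]

include hp in
/-- Every automorphism of `PSL_n(F)` is semilinear, possibly times inverse-transpose. -/
theorem exists_factorization (hn : 2 ≤ n) (β : MulAut PSL(n, F)) :
    ∃ (g : GL (Fin n) F) (σ : F ≃+* F) (γ : MulAut PSL(n, F)),
      (γ = 1 ∨ γ = graphAut) ∧ β = delta g * fieldAut σ * γ := by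
  obtain ⟨g, γ, hγ, hfix⟩ := exists_frame p hn β
  obtain ⟨d, σ, h⟩ := exists_field_of_fix p hn _ hfix
  refine ⟨g * diagGL d, σ, γ, hγ, ?_⟩
  have hγ2 : γ * γ = 1 := by rcases hγ with rfl | rfl <;> simp [graphAut_mul_self]
  rw [map_mul, mul_assoc (delta g) (delta (diagGL d)), ← h]
  simp [← mul_assoc]
  rw [mul_assoc, hγ2, mul_one]

end CfsgLib.AutPSL
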