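import Cfsg.Agent.Lib.AutPSL.Basic

set_option autoImplicit false

/-!
Transvections `1 + v φ` in `SL_n(F)` and their images in `PSL_n(F)`.
-/

namespace CfsgLib.AutPSL

open Matrix
open scoped MatrixGroups

variable {n : ℕ} {F : Type*} [Field F]

/-- `tv v φ h = 1 + v φ`. -/
def tv (v φ : Fin n → F) (h : φ ⬝ᵥ v = 0) : SL(n, F) :=
  ⟨1 + vecMulVec v φ, by
    rw [vecMulVec_eq Unit, det_one_add_replicateCol_mul_replicateRow, h, add_zero]⟩

theorem tv_coe (v φ : Fin n → F) (h : φ ⬝ᵥ v = 0) :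
    (tv v φ h : Matrix (Fin n) (Fin n) F) = 1 + vecMulVec v φ := rfl

theorem dot_smul_left {v φ : Fin n → F} (h : φ ⬝ᵥ v = 0) (a : F) : φ ⬝ᵥ (a • v) = 0 := by
  rw [dotProduct_smul, h, smul_zero]

/-- The root subgroup of the flag `(v, φ)`, as a set of `PSL_n(F)`. -/
def rootSet (v φ : Fin n → F) : Set PSL(n, F) :=
  {x | ∃ (s : SL(n, F)) (a : F),
    (s : Matrix (Fin n) (Fin n) F) = 1 + vecMulVec (a • v) φ ∧ x = (s : PSL(n, F))}

theorem tv_mem_rootSet {v φ : Fin n → F} (h : φ ⬝ᵥ v = 0) (a : F) :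
    (tv (a • v) φ (dot_smul_left h a) : PSL(n, F)) ∈ rootSet v φ := ⟨_, a, rfl, rfl⟩

theorem rootSet_congr {v v' φ φ' : Fin n → F} {c d : F} (hc : c ≠ 0) (hd : d ≠ 0)
    (hv : v' = c • v) (hφ : φ' = d • φ) : rootSet v' φ' = rootSet v φ := by
  subst hv hφ
  ext x
  constructor
  · rintro ⟨s, a, hs, rfl⟩
    refine ⟨s, a * c * d, ?_, rfl⟩
    rw [hs]
    ext i j
    simp [vecMulVec_apply]
    ring
  · rintro ⟨s, a, hs, rfl⟩
    refine ⟨s, a / (c * d), ?_, rfl⟩
    rw [hs]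
    ext i j
    simp [vecMulVec_apply]
    field_simp

/-! ### `p`-elements lift uniquely -/

theorem one_add_pow_of_sq_zero (N : Matrix (Fin n) (Fin n) F) (h : N * N = 0) (k : ℕ) :
    (1 + N) ^ k = 1 + k • N := by
  induction k with
  | zero => simp
  | succ k ih =>
    rw [pow_succ, ih, add_mul, one_mul, smul_mul_assoc, mul_add, mul_one, h, add_zero, succ_nsmul]
    abel

variable (p : ℕ) [hp : Fact p.Prime] [CharP F p]

omit hp in
theorem tv_pow (v φ : Fin n → F) (h : φ ⬝ᵥ v = 0) : tv v φ h ^ p = 1 := by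
  apply Subtype.ext
  rw [Matrix.SpecialLinearGroup.coe_pow, tv_coe, one_add_pow_of_sq_zero,
    ← Nat.cast_smul_eq_nsmul F, CharP.cast_eq_zero, zero_smul, add_zero,
    Matrix.SpecialLinearGroup.coe_one]
  rw [vecMulVec_mul_vecMulVec, h, zero_smul, vecMulVec_zero]

theorem mk_inj_of_pow {s t : SL(n, F)} (hs : s ^ p = 1) (ht : t ^ p = 1)
    (h : (s : PSL(n, F)) = (t : PSL(n, F))) : s = t := by
  rcases isEmpty_or_nonempty (Fin n) with hn | hn
  · exact Subsingleton.elim _ _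
  have hz : s⁻¹ * t ∈ Subgroup.center SL(n, F) := QuotientGroup.eq.1 h
  have hz1 : (s⁻¹ * t) ^ p = 1 := by
    have hc : Commute s (s⁻¹ * t) := Subgroup.mem_center_iff.1 hz s
    have := hc.mul_pow p
    rwa [mul_inv_cancel_left, hs, one_mul, ht, eq_comm] at this
  obtain ⟨r, -, hr⟩ := Matrix.SpecialLinearGroup.mem_center_iff.1 hz
  have h2 : (Matrix.scalar (Fin n) r) ^ p = Matrix.scalar (Fin n) 1 := by
    rw [hr, ← Matrix.SpecialLinearGroup.coe_pow, hz1, map_one, Matrix.SpecialLinearGroup.coe_one]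
  rw [← map_pow, Matrix.scalar_inj] at h2
  have h3 : r = 1 := by
    have : (r - 1) ^ p = 0 := by rw [sub_pow_char, one_pow, h2, sub_self]
    exact sub_eq_zero.1 (pow_eq_zero_iff hp.out.ne_zero |>.1 this)
  have h4 : s⁻¹ * t = 1 := Subtype.ext (by
    rw [← hr, h3, map_one, Matrix.SpecialLinearGroup.coe_one])
  exact (inv_mul_eq_one.1 h4)

include hp in
theorem commute_of_mk_commute {s t : SL(n, F)} (ht : t ^ p = 1)
    (h : Commute (s : PSL(n, F)) (t : PSL(n, F))) : Commute s t := by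
  have h1 : ((s * t * s⁻¹ : SL(n, F)) : PSL(n, F)) = (t : PSL(n, F)) := by
    rw [QuotientGroup.mk_mul, QuotientGroup.mk_mul, QuotientGroup.mk_inv, h.eq,
      mul_inv_cancel_right]
  have h2 := mk_inj_of_pow p (by rw [conj_pow, ht, mul_one, mul_inv_cancel]) ht h1
  exact mul_inv_eq_iff_eq_mul.1 h2

theorem eq_tv_of_mk_eq {s : SL(n, F)} {v φ : Fin n → F} (h : φ ⬝ᵥ v = 0) (hs : s ^ p = 1)
    (hm : (s : PSL(n, F)) ∈ rootSet v φ) :
    ∃ a : F, s = tv (a • v) φ (dot_smul_left h a) := by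
  obtain ⟨t, a, ht, hm⟩ := hm
  have : t = tv (a • v) φ (dot_smul_left h a) := Subtype.ext ht
  exact ⟨a, mk_inj_of_pow p hs (tv_pow p _ _ _) (this ▸ hm)⟩

/-! ### Elementary transvections -/

theorem transvection_coe' {i j : Fin n} (hij : i ≠ j) (a : F) :
    (Matrix.SpecialLinearGroup.transvection hij a : Matrix (Fin n) (Fin n) F) =
      1 + vecMulVec (a • Pi.single i 1) (Pi.single j 1) := by
  rw [Matrix.SpecialLinearGroup.transvection_coe]
  ext k l
  simp [vecMulVec_apply, Matrix.single_apply, Pi.single_apply]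
  grind

theorem dot_single_single {i j : Fin n} (hij : i ≠ j) :
    (Pi.single j (1 : F) : Fin n → F) ⬝ᵥ Pi.single i 1 = 0 := by
  simp [hij]

/-- The elementary root subgroup `X_ij` of `PSL_n(F)`. -/
def rootIJ (i j : Fin n) : Set PSL(n, F) := rootSet (Pi.single i 1) (Pi.single j 1)

theorem mem_rootIJ_iff {i j : Fin n} (hij : i ≠ j) {x : PSL(n, F)} :
    x ∈ rootIJ (F := F) i j ↔
      ∃ a : F, x = (Matrix.SpecialLinearGroup.transvection hij a : PSL(n, F)) := by
  constructor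
  · rintro ⟨s, a, hs, rfl⟩
    exact ⟨a, congrArg _ (Subtype.ext (hs.trans (transvection_coe' hij a).symm))⟩
  · rintro ⟨a, rfl⟩
    exact ⟨_, a, transvection_coe' hij a, rfl⟩

theorem transvection_mem_rootIJ {i j : Fin n} (hij : i ≠ j) (a : F) :
    (Matrix.SpecialLinearGroup.transvection hij a : PSL(n, F)) ∈ rootIJ i j :=
  (mem_rootIJ_iff hij).2 ⟨a, rfl⟩

theorem transvection_pow {i j : Fin n} (hij : i ≠ j) (a : F) :
    Matrix.SpecialLinearGroup.transvection hij a ^ p = 1 := by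
  rw [show Matrix.SpecialLinearGroup.transvection hij a =
    tv (a • Pi.single i 1) (Pi.single j 1) (dot_smul_left (dot_single_single hij) a) from
      Subtype.ext (transvection_coe' hij a)]
  exact tv_pow p _ _ _

include hp in
theorem transvection_mk_inj {i j : Fin n} (hij : i ≠ j) {a b : F}
    (h : (Matrix.SpecialLinearGroup.transvection hij a : PSL(n, F)) =
      (Matrix.SpecialLinearGroup.transvection hij b : PSL(n, F))) : a = b := by
  have h1 := mk_inj_of_pow p (transvection_pow p hij a) (transvection_pow p hij b) h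
  have h2 := congrArg (fun s : SL(n, F) => (s : Matrix (Fin n) (Fin n) F) i j) h1
  simpa [Matrix.SpecialLinearGroup.transvection_coe, hij] using h2

include hp in
/-- `X_ij` and `X_jk` do not commute. -/
theorem not_commute_transvection {i j k : Fin n} (hij : i ≠ j) (hjk : j ≠ k) :
    ¬ Commute (Matrix.SpecialLinearGroup.transvection hij (1 : F) : PSL(n, F))
      (Matrix.SpecialLinearGroup.transvection hjk (1 : F) : PSL(n, F)) := by
  intro h
  have h1 := congrArg (fun s : SL(n, F) => (s : Matrix (Fin n) (Fin n) F) i k)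
    (commute_of_mk_commute p (transvection_pow p hjk 1) h).eq
  simp [Matrix.SpecialLinearGroup.transvection_coe, mul_add, add_mul, hij.symm, hjk,
    hjk.symm, Matrix.one_apply] at h1

/-! ### Flags -/

variable {p}

theorem conjMat_tv (g : GL (Fin n) F) {s : SL(n, F)} {v φ : Fin n → F}
    (hs : (s : Matrix (Fin n) (Fin n) F) = 1 + vecMulVec v φ) :
    (conjMat g s : Matrix (Fin n) (Fin n) F) =
      1 + vecMulVec ((g : Matrix (Fin n) (Fin n) F) *ᵥ v)
        (φ ᵥ* ((g⁻¹ : GL (Fin n) F) : Matrix (Fin n) (Fin n) F)) := by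
  rw [conjMat_coe, hs, mul_add, add_mul, mul_one, Units.mul_inv, mul_vecMulVec, vecMulVec_mul]

theorem delta_image_rootSet (g : GL (Fin n) F) (v φ : Fin n → F) :
    delta g '' rootSet v φ =
      rootSet ((g : Matrix (Fin n) (Fin n) F) *ᵥ v)
        (φ ᵥ* ((g⁻¹ : GL (Fin n) F) : Matrix (Fin n) (Fin n) F)) := by
  ext x
  constructor
  · rintro ⟨_, ⟨s, a, hs, rfl⟩, rfl⟩
    refine ⟨conjMat g s, a, ?_, by simp⟩
    rw [conjMat_tv g hs, mulVec_smul]
  · rintro ⟨t, a, ht, rfl⟩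
    refine ⟨_, ⟨conjMat g⁻¹ t, a, ?_, rfl⟩, ?_⟩
    · rw [conjMat_tv g⁻¹ ht, inv_inv, mulVec_smul, mulVec_mulVec, vecMul_vecMul, Units.inv_mul,
        one_mulVec, vecMul_one]
    · rw [delta_mkP, ← conjMat_mul_left, mul_inv_cancel, conjMat_one]

/-- `SL_n(F)` is transitive on flags (point, hyperplane through it). -/
theorem exists_flag_conj {i₀ l : Fin n} (hil : i₀ ≠ l) {v φ : Fin n → F} (hv : v ≠ 0)
    (hφ : φ ≠ 0) (h : φ ⬝ᵥ v = 0) :
    ∃ g : SL(n, F),
      delta (Matrix.SpecialLinearGroup.toGL g) '' rootIJ i₀ l = rootSet v φ := by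
  obtain ⟨k, hk⟩ := Function.ne_iff.1 hv
  rw [Pi.zero_apply] at hk
  -- first move `e_{i₀}` to `v`
  set A : Matrix (Fin n) (Fin n) F :=
    (((1 : Matrix (Fin n) (Fin n) F)).updateCol k v).submatrix id (Equiv.swap k i₀) with hA
  have hdA : A.det ≠ 0 := by
    rw [hA, Matrix.det_permute', ← Matrix.cramer_apply, Matrix.cramer_one]
    rcases Int.units_eq_one_or (Equiv.Perm.sign (Equiv.swap k i₀)) with e | e <;>
      simp [e, hk]
  have hA0 : A *ᵥ Pi.single i₀ 1 = v := by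
    funext r
    rw [Matrix.mulVec_single_one]
    simp [hA]
  -- then fix `e_{i₀}` and move the hyperplane
  set φ' : Fin n → F := φ ᵥ* A with hφ'
  have hφ'0 : φ' i₀ = 0 := by
    have : φ' ⬝ᵥ Pi.single i₀ 1 = 0 := by rw [hφ', ← dotProduct_mulVec, hA0, h]
    simpa using this
  have hφ'ne : φ' ≠ 0 := by
    intro e
    apply hφ
    have h2 := congrArg (fun x : Fin n → F => x ᵥ* A⁻¹) (hφ'.symm.trans e)
    simpa [vecMul_vecMul, Matrix.mul_nonsing_inv A (isUnit_iff_ne_zero.2 hdA)] using h2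
  obtain ⟨m, hm⟩ := Function.ne_iff.1 hφ'ne
  rw [Pi.zero_apply] at hm
  have hm0 : m ≠ i₀ := fun e => hm (e ▸ hφ'0)
  set B : Matrix (Fin n) (Fin n) F :=
    (((1 : Matrix (Fin n) (Fin n) F)).updateRow m φ').submatrix (Equiv.swap m l) id with hB
  have hdB : B.det ≠ 0 := by
    rw [hB, Matrix.det_permute, ← Matrix.det_transpose, ← Matrix.updateCol_transpose,
      Matrix.transpose_one, ← Matrix.cramer_apply, Matrix.cramer_one]
    rcases Int.units_eq_one_or (Equiv.Perm.sign (Equiv.swap m l)) with e | e <;> simp [e, hm]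
  have hB0 : B *ᵥ Pi.single i₀ 1 = Pi.single i₀ 1 := by
    funext r
    rw [Matrix.mulVec_single_one, Matrix.col_apply, hB, Matrix.submatrix_apply, id,
      Matrix.updateRow_apply]
    by_cases hr : Equiv.swap m l r = m
    · rw [if_pos hr, hφ'0]
      have hr' : r = l := by
        rw [← (Equiv.swap m l).injective.eq_iff]; simp [hr]
      subst hr'
      simp [hil.symm]
    · rw [if_neg hr, Matrix.one_apply, Pi.single_apply]
      have hfix : Equiv.swap m l i₀ = i₀ := Equiv.swap_apply_of_ne_of_ne hm0.symm hil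
      have : Equiv.swap m l r = i₀ ↔ r = i₀ := by
        conv_lhs => rw [← hfix]
        exact (Equiv.swap m l).injective.eq_iff
      simp [this]
  have hBl : Pi.single l 1 ᵥ* B = φ' := by
    funext r
    simp [hB]
  let gA : GL (Fin n) F := Matrix.GeneralLinearGroup.mkOfDetNeZero A hdA
  let gB : GL (Fin n) F := Matrix.GeneralLinearGroup.mkOfDetNeZero B hdB
  set g₁ := gA * gB⁻¹ with hg₁
  set c := ((Matrix.GeneralLinearGroup.det g₁ : Fˣ) : F) with hc
  have hc0 : c ≠ 0 := Units.ne_zero _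
  set dvec : Fin n → F := fun r => if r = i₀ then c⁻¹ else 1 with hdvec
  have hdd : (Matrix.diagonal dvec).det = c⁻¹ := by
    rw [Matrix.det_diagonal, hdvec, Finset.prod_ite_eq' Finset.univ i₀ (fun _ => c⁻¹)]
    simp
  let D : GL (Fin n) F := Matrix.GeneralLinearGroup.mkOfDetNeZero _ (hdd ▸ inv_ne_zero hc0)
  have hdet1 : ((g₁ * D : GL (Fin n) F) : Matrix (Fin n) (Fin n) F).det = 1 := by
    rw [Units.val_mul, Matrix.det_mul]
    show c * (Matrix.diagonal dvec).det = 1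
    rw [hdd, mul_inv_cancel₀ hc0]
  refine ⟨⟨_, hdet1⟩, ?_⟩
  rw [show Matrix.SpecialLinearGroup.toGL
    (⟨_, hdet1⟩ : SL(n, F)) = g₁ * D from Units.ext rfl, rootIJ, delta_image_rootSet]
  refine rootSet_congr (inv_ne_zero hc0) one_ne_zero ?_ ?_
  · have h1 : Matrix.diagonal dvec *ᵥ Pi.single i₀ 1 = c⁻¹ • Pi.single i₀ 1 := by
      funext r
      rw [Matrix.mulVec_diagonal, Pi.smul_apply, hdvec, Pi.single_apply]
      by_cases hr : r = i₀ <;> simp [hr]
    have h2 : ((gB⁻¹ : GL (Fin n) F) : Matrix (Fin n) (Fin n) F) *ᵥ Pi.single i₀ 1 =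
        Pi.single i₀ 1 := by
      conv_lhs => rw [← hB0]
      rw [mulVec_mulVec]
      show (((gB⁻¹ : GL (Fin n) F) : Matrix (Fin n) (Fin n) F) *
        (gB : Matrix (Fin n) (Fin n) F)) *ᵥ _ = _
      rw [Units.inv_mul, one_mulVec]
    rw [Units.val_mul, hg₁, Units.val_mul, ← mulVec_mulVec]
    show _ *ᵥ (Matrix.diagonal dvec *ᵥ _) = _
    rw [h1, mulVec_smul, ← mulVec_mulVec, h2]
    show c⁻¹ • (A *ᵥ _) = _
    rw [hA0]
  · have h1 : Pi.single l 1 ᵥ* ((D⁻¹ : GL (Fin n) F) : Matrix (Fin n) (Fin n) F) =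
        Pi.single l 1 := by
      have h3 : Pi.single l 1 ᵥ* (D : Matrix (Fin n) (Fin n) F) = Pi.single l 1 := by
        show Pi.single l 1 ᵥ* Matrix.diagonal dvec = _
        funext r
        rw [Matrix.vecMul_diagonal, Pi.single_apply, hdvec]
        by_cases hr : r = l <;> simp [hr, hil.symm]
      conv_lhs => rw [← h3, vecMul_vecMul, Units.mul_inv, vecMul_one]
    rw [_root_.mul_inv_rev, Units.val_mul, ← vecMul_vecMul, h1, hg₁, _root_.mul_inv_rev, inv_inv,
      Units.val_mul, ← vecMul_vecMul]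
    show (Pi.single l 1 ᵥ* B) ᵥ* _ = _
    rw [hBl, hφ', vecMul_vecMul]
    show φ ᵥ* ((gA : Matrix (Fin n) (Fin n) F) * _) = _
    rw [Units.mul_inv, vecMul_one, one_smul]

end CfsgLib.AutPSL
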