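import Cfsg.Agent.Lib.AutPSL.Rigid

set_option autoImplicit false

/-!
The structure of `Aut(PSL_n(F))`: uniqueness of the factorization, orders, and `Out`.
-/

namespace CfsgLib.AutPSL

open Matrix
open scoped MatrixGroups

variable {n : ℕ} {F : Type*} [Field F]

theorem delta_eq_one_of_mem_center {g : GL (Fin n) F} (hg : g ∈ Subgroup.center (GL (Fin n) F)) :
    delta g = 1 := by
  refine mulAut_ext fun s => ?_
  rw [delta_mkP, MulAut.one_apply]
  congr 1
  apply Subtype.ext
  rw [conjMat_coe]
  have h := congrArg Units.val (Subgroup.mem_center_iff.1 hg (Matrix.SpecialLinearGroup.toGL s))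
  rw [Units.val_mul, Units.val_mul] at h
  change (s : Matrix (Fin n) (Fin n) F) * (g : Matrix (Fin n) (Fin n) F) =
    (g : Matrix (Fin n) (Fin n) F) * s at h
  rw [← h, Matrix.mul_assoc, Units.mul_inv, Matrix.mul_one]

theorem mem_center_of_commute_single {g : GL (Fin n) F}
    (h : ∀ i j : Fin n, i ≠ j → (g : Matrix (Fin n) (Fin n) F) * Matrix.single i j 1 =
      Matrix.single i j 1 * (g : Matrix (Fin n) (Fin n) F)) :
    g ∈ Subgroup.center (GL (Fin n) F) := by
  obtain ⟨r, hr⟩ := Matrix.mem_range_scalar_of_commute_transvectionStruct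
    (M := (g : Matrix (Fin n) (Fin n) F)) (fun t => by
      show t.toMatrix * (g : Matrix (Fin n) (Fin n) F) = (g : Matrix (Fin n) (Fin n) F) * t.toMatrix
      rw [Matrix.TransvectionStruct.toMatrix, Matrix.transvection, add_mul, mul_add, one_mul,
        mul_one, show Matrix.single t.i t.j t.c = t.c • Matrix.single t.i t.j (1 : F) by simp,
        Matrix.smul_mul, Matrix.mul_smul, h t.i t.j t.hij])
  rw [Subgroup.mem_center_iff]
  intro x
  apply Units.ext
  rw [Units.val_mul, Units.val_mul, ← hr]
  exact (Matrix.scalar_commute r (Commute.all r) _).symm.eq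

theorem transvection_coe_single {i j : Fin n} (hij : i ≠ j) (a : F) :
    (Matrix.SpecialLinearGroup.transvection hij a : Matrix (Fin n) (Fin n) F) =
      1 + Matrix.single i j a := rfl

variable (p : ℕ) [hp : Fact p.Prime] [CharP F p]

include hp in
theorem conjMat_transvection_of_mk_eq {g : GL (Fin n) F} {i j k l : Fin n} (hij : i ≠ j)
    (hkl : k ≠ l) {a b : F}
    (h : (conjMat g (Matrix.SpecialLinearGroup.transvection hij a) : PSL(n, F)) =
      (Matrix.SpecialLinearGroup.transvection hkl b : PSL(n, F))) :
    (g : Matrix (Fin n) (Fin n) F) * Matrix.single i j a =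
      Matrix.single k l b * (g : Matrix (Fin n) (Fin n) F) := by
  have h1 := mk_inj_of_pow p (by
    show conjSL g _ ^ p = 1
    rw [← map_pow, transvection_pow, map_one]) (transvection_pow p hkl b) h
  have h2 := congrArg (fun s : SL(n, F) =>
    (s : Matrix (Fin n) (Fin n) F) * (g : Matrix (Fin n) (Fin n) F)) h1
  simp only [conjMat_coe, transvection_coe_single, mul_assoc, Units.inv_mul, mul_one] at h2
  rw [mul_add, mul_one, add_mul, one_mul] at h2
  exact add_left_cancel h2

include hp in
theorem mem_center_of_delta_fieldAut (hn : 2 ≤ n) {g : GL (Fin n) F} {σ : F ≃+* F}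
    (h : delta g * fieldAut σ = (1 : MulAut PSL(n, F))) :
    g ∈ Subgroup.center (GL (Fin n) F) ∧ σ = 1 := by
  have hrel : ∀ (i j : Fin n) (hij : i ≠ j) (a : F),
      (g : Matrix (Fin n) (Fin n) F) * Matrix.single i j (σ a) =
        Matrix.single i j a * (g : Matrix (Fin n) (Fin n) F) := by
    intro i j hij a
    apply conjMat_transvection_of_mk_eq p hij hij
    have h2 := congrArg (fun α : MulAut PSL(n, F) =>
      α (Matrix.SpecialLinearGroup.transvection hij a : PSL(n, F))) h
    simpa [mapMat_transvection] using h2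
  have hc : g ∈ Subgroup.center (GL (Fin n) F) :=
    mem_center_of_commute_single fun i j hij => by simpa using hrel i j hij 1
  refine ⟨hc, RingEquiv.ext fun a => ?_⟩
  have : Nontrivial (Fin n) := Fin.nontrivial_iff_two_le.2 hn
  obtain ⟨i, j, hij⟩ := exists_pair_ne (Fin n)
  rw [delta_eq_one_of_mem_center hc, one_mul] at h
  have h2 := congrArg (fun α : MulAut PSL(n, F) =>
    α (Matrix.SpecialLinearGroup.transvection hij a : PSL(n, F))) h
  simp [mapMat_transvection] at h2
  exact transvection_mk_inj p hij h2

include hp in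
theorem delta_fieldAut_ne_graphAut (hn : 3 ≤ n) (g : GL (Fin n) F) (σ : F ≃+* F) :
    delta g * fieldAut σ ≠ (graphAut : MulAut PSL(n, F)) := by
  intro h
  have hrel : ∀ (i j : Fin n) (hij : i ≠ j),
      (g : Matrix (Fin n) (Fin n) F) * Matrix.single i j 1 =
        Matrix.single j i (-1) * (g : Matrix (Fin n) (Fin n) F) := by
    intro i j hij
    apply conjMat_transvection_of_mk_eq p hij hij.symm
    have h2 := congrArg (fun α : MulAut PSL(n, F) =>
      α (Matrix.SpecialLinearGroup.transvection hij (1 : F) : PSL(n, F))) h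
    simp only [MulAut.mul_apply] at h2
    rw [fieldAut_mkP, mapMat_transvection, map_one, delta_mkP, graphAut_transvection] at h2
    exact h2
  have hcol : ∀ i r : Fin n, (g : Matrix (Fin n) (Fin n) F) r i = 0 := by
    intro i r
    obtain ⟨j, -, hj⟩ := Finset.exists_mem_notMem_of_card_lt_card
      (s := ({i, r} : Finset (Fin n))) (t := Finset.univ)
      (by rw [Finset.card_univ, Fintype.card_fin]; exact lt_of_le_of_lt Finset.card_le_two hn)
    simp only [Finset.mem_insert, Finset.mem_singleton, not_or] at hj
    have := congrFun (congrFun (hrel i j (Ne.symm hj.1)) r) j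
    simpa [Ne.symm hj.2, hj.2] using this
  apply (Matrix.isUnit_iff_isUnit_det _).1 g.isUnit |>.ne_zero
  exact Matrix.det_eq_zero_of_row_eq_zero ⟨0, by omega⟩ (fun j => hcol j _)

/-- `graphAut` as a power. -/
def graphPow : Multiplicative (ZMod 2) →* MulAut PSL(n, F) where
  toFun e := if e = 1 then 1 else graphAut
  map_one' := if_pos rfl
  map_mul' a b := by
    have : ∀ x : Multiplicative (ZMod 2), x = 1 ∨ x = Multiplicative.ofAdd 1 := by decide
    rcases this a with rfl | rfl <;> rcases this b with rfl | rfl
    · simp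
    · simp
    · simp
    · rw [if_pos (show Multiplicative.ofAdd (1 : ZMod 2) * Multiplicative.ofAdd 1 = 1 by decide),
        if_neg (by decide), graphAut_mul_self]

theorem graphPow_ofAdd_one :
    graphPow (Multiplicative.ofAdd (1 : ZMod 2)) = (graphAut : MulAut PSL(n, F)) :=
  show (if Multiplicative.ofAdd (1 : ZMod 2) = 1 then (1 : MulAut PSL(n, F)) else graphAut) = _ from
    if_neg (by decide)

theorem graphPow_eq_or (e : Multiplicative (ZMod 2)) :
    (graphPow e : MulAut PSL(n, F)) = 1 ∨ (graphPow e : MulAut PSL(n, F)) = graphAut := by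
  by_cases h : e = 1
  · exact Or.inl (if_pos h)
  · exact Or.inr (if_neg h)

/-- Moving a graph power past a matrix automorphism. -/
def contraPow (e : Multiplicative (ZMod 2)) (g : GL (Fin n) F) : GL (Fin n) F :=
  if e = 1 then g else contra g

theorem graphPow_mul_delta (e : Multiplicative (ZMod 2)) (g : GL (Fin n) F) :
    graphPow e * delta g = delta (contraPow e g) * (graphPow e : MulAut PSL(n, F)) := by
  by_cases h : e = 1
  · simp [graphPow, contraPow, h]
  · simp [graphPow, contraPow, h, graphAut_mul_delta]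

theorem graphPow_mul_fieldAut (e : Multiplicative (ZMod 2)) (σ : F ≃+* F) :
    graphPow e * fieldAut σ = fieldAut σ * (graphPow e : MulAut PSL(n, F)) := by
  rcases graphPow_eq_or (n := n) (F := F) e with h | h <;> rw [h]
  · simp
  · exact graphAut_mul_fieldAut σ

theorem mul_normal_form (g g' : GL (Fin n) F) (σ σ' : F ≃+* F) (e e' : Multiplicative (ZMod 2)) :
    delta g * fieldAut σ * graphPow e * (delta g' * fieldAut σ' * graphPow e') =
      delta (g * mapGL σ (contraPow e g')) * fieldAut (σ * σ') *
        (graphPow (e * e') : MulAut PSL(n, F)) := by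
  simp only [map_mul, ← mul_assoc]
  rw [mul_assoc (delta g * fieldAut σ) (graphPow e) (delta g'), graphPow_mul_delta, ← mul_assoc,
    mul_assoc (delta g) (fieldAut σ) (delta (contraPow e g')), fieldAut_mul_delta, ← mul_assoc,
    mul_assoc _ (graphPow e) (fieldAut σ'), graphPow_mul_fieldAut, ← mul_assoc]

variable [Finite F]

include hp in
theorem exists_normal_form (hn : 2 ≤ n) (β : MulAut PSL(n, F)) :
    ∃ (g : GL (Fin n) F) (σ : F ≃+* F) (e : Multiplicative (ZMod 2)),
      β = delta g * fieldAut σ * graphPow e := by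
  obtain ⟨g, σ, γ, hγ, h⟩ := exists_factorization p hn β
  rcases hγ with rfl | rfl
  · exact ⟨g, σ, 1, by rw [map_one]; exact h⟩
  · exact ⟨g, σ, Multiplicative.ofAdd 1, by rw [graphPow_ofAdd_one]; exact h⟩

omit [Finite F] in
include hp in
theorem normal_form_unique (hn : 3 ≤ n) {g g' : GL (Fin n) F} {σ σ' : F ≃+* F}
    {e e' : Multiplicative (ZMod 2)}
    (h : delta g * fieldAut σ * graphPow e =
      (delta g' * fieldAut σ' * graphPow e' : MulAut PSL(n, F))) :
    σ = σ' ∧ e = e' ∧ g⁻¹ * g' ∈ Subgroup.center (GL (Fin n) F) := by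
  have h1 : delta (g⁻¹ * g') * fieldAut σ' * graphPow e' =
      (fieldAut σ * graphPow e : MulAut PSL(n, F)) := by
    rw [map_mul, map_inv, mul_assoc, mul_assoc, inv_mul_eq_iff_eq_mul, ← mul_assoc, ← mul_assoc]
    exact h.symm
  have h2 : delta (g⁻¹ * g') * fieldAut (σ' * σ⁻¹) =
      (graphPow (e * e'⁻¹) : MulAut PSL(n, F)) := by
    have h3 := eq_mul_inv_iff_mul_eq.2 h1
    rw [← map_inv graphPow, mul_assoc (fieldAut σ), ← map_mul graphPow,
      ← graphPow_mul_fieldAut] at h3
    rw [map_mul fieldAut, map_inv fieldAut, ← mul_assoc, h3, mul_assoc, mul_inv_cancel, mul_one]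
  have he : e = e' := by
    by_contra hne
    have : e * e'⁻¹ ≠ 1 := fun h => hne (mul_inv_eq_one.1 h)
    exact delta_fieldAut_ne_graphAut p hn _ _ (h2.trans (if_neg this))
  subst he
  rw [mul_inv_cancel, map_one] at h2
  obtain ⟨hc, hs⟩ := mem_center_of_delta_fieldAut p (by omega) h2
  exact ⟨(mul_inv_eq_one.1 hs).symm, rfl, hc⟩

/-- The exchange matrix realising inverse-transpose for `n = 2`. -/
def exchange (F : Type*) [Field F] : GL (Fin 2) F :=
  Matrix.GeneralLinearGroup.mkOfDetNeZero !![0, 1; -1, 0] (by simp [Matrix.det_fin_two])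

omit [Finite F] in
theorem graphAut_two : (graphAut : MulAut PSL(2, F)) = delta (exchange F) := by
  refine mulAut_ext fun s => ?_
  rw [graphAut_mkP, delta_mkP]
  congr 1
  apply Subtype.ext
  have h : ((invTr s : SL(2, F)) : Matrix (Fin 2) (Fin 2) F) * (exchange F : GL (Fin 2) F) =
      (exchange F : Matrix (Fin 2) (Fin 2) F) * s := by
    rw [invTr_coe, Matrix.SpecialLinearGroup.coe_inv, Matrix.adjugate_fin_two]
    ext r t
    fin_cases r <;> fin_cases t <;> simp [exchange, Matrix.mul_apply, Fin.sum_univ_two]
  rw [conjMat_coe, ← h, Matrix.mul_assoc, Units.mul_inv, Matrix.mul_one]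

include hp in
theorem exists_normal_form_two (β : MulAut PSL(2, F)) :
    ∃ (g : GL (Fin 2) F) (σ : F ≃+* F), β = delta g * fieldAut σ := by
  obtain ⟨g, σ, γ, hγ, h⟩ := exists_factorization p le_rfl β
  rcases hγ with rfl | rfl
  · exact ⟨g, σ, by simpa using h⟩
  · refine ⟨g * mapGL σ (exchange F), σ, ?_⟩
    rw [h, graphAut_two, mul_assoc, fieldAut_mul_delta, ← mul_assoc, ← map_mul]

/-- The matrix automorphisms as a homomorphism on `PGL_n(F)`. -/
def deltaP : Matrix.ProjGenLinGroup (Fin n) F →* MulAut PSL(n, F) :=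
  QuotientGroup.lift _ delta fun _ hg => delta_eq_one_of_mem_center hg

omit [Finite F] in
theorem deltaP_mk (g : GL (Fin n) F) :
    deltaP (Matrix.ProjGenLinGroup.mk g) = delta g := rfl

omit [Finite F] in
theorem range_deltaP :
    (deltaP : Matrix.ProjGenLinGroup (Fin n) F →* MulAut PSL(n, F)).range = delta.range := by
  ext β
  constructor
  · rintro ⟨x, rfl⟩
    obtain ⟨g, rfl⟩ := Matrix.ProjGenLinGroup.mk_surjective x
    exact ⟨g, rfl⟩
  · rintro ⟨g, rfl⟩
    exact ⟨Matrix.ProjGenLinGroup.mk g, rfl⟩

omit [Finite F] in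
include hp in
theorem deltaP_injective (hn : 2 ≤ n) :
    Function.Injective (deltaP : Matrix.ProjGenLinGroup (Fin n) F → MulAut PSL(n, F)) := by
  rw [injective_iff_map_eq_one]
  intro x hx
  obtain ⟨g, rfl⟩ := Matrix.ProjGenLinGroup.mk_surjective x
  rw [deltaP_mk] at hx
  exact (QuotientGroup.eq_one_iff g).2
    (mem_center_of_delta_fieldAut p hn (σ := 1) (by rw [map_one, mul_one, hx])).1

include hp in
/-- The field and graph components of an automorphism, `n ≥ 3`. -/
noncomputable def component (hn : 3 ≤ n) :
    MulAut PSL(n, F) →* (F ≃+* F) × Multiplicative (ZMod 2) :=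
  MonoidHom.mk'
    (fun β => ((exists_normal_form p (by omega : 2 ≤ n) β).choose_spec.choose,
      (exists_normal_form p (by omega : 2 ≤ n) β).choose_spec.choose_spec.choose))
    (fun α β => by
      have hα := (exists_normal_form p (by omega : 2 ≤ n) α).choose_spec.choose_spec.choose_spec
      have hβ := (exists_normal_form p (by omega : 2 ≤ n) β).choose_spec.choose_spec.choose_spec
      have hαβ := (exists_normal_form p (by omega : 2 ≤ n) (α * β)).choose_spec.choose_spec.choose_spec
      have := ((congrArg₂ (· * ·) hα hβ).trans (mul_normal_form _ _ _ _ _ _)).symm.trans hαβ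
      obtain ⟨h1, h2, -⟩ := normal_form_unique p hn this
      exact Prod.ext h1.symm h2.symm)

theorem component_eq (hn : 3 ≤ n) (g : GL (Fin n) F) (σ : F ≃+* F) (e : Multiplicative (ZMod 2)) :
    component p hn (delta g * fieldAut σ * graphPow e) = (σ, e) := by
  set β : MulAut PSL(n, F) := delta g * fieldAut σ * graphPow e
  have hβ := (exists_normal_form p (by omega : 2 ≤ n) β).choose_spec.choose_spec.choose_spec
  obtain ⟨h1, h2, -⟩ := normal_form_unique p hn hβ
  exact Prod.ext h1.symm h2.symm

theorem component_surjective (hn : 3 ≤ n) :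
    Function.Surjective (component (F := F) p hn) := fun x =>
  ⟨delta 1 * fieldAut x.1 * graphPow x.2, component_eq p hn 1 x.1 x.2⟩

theorem ker_component (hn : 3 ≤ n) :
    (component (F := F) p hn).ker = delta.range := by
  ext β
  constructor
  · intro h
    obtain ⟨g, σ, e, rfl⟩ := exists_normal_form p (by omega : 2 ≤ n) β
    rw [MonoidHom.mem_ker, component_eq, Prod.mk_eq_one] at h
    exact ⟨g, by rw [h.1, h.2, map_one, map_one, mul_one, mul_one]⟩
  · rintro ⟨g, rfl⟩
    have := component_eq (F := F) p hn g 1 1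
    rw [map_one, map_one, mul_one, mul_one] at this
    rw [MonoidHom.mem_ker, this]
    rfl

include hp in
/-- The field component of an automorphism, `n = 2`. -/
noncomputable def componentTwo : MulAut PSL(2, F) →* (F ≃+* F) :=
  MonoidHom.mk' (fun β => (exists_normal_form_two p β).choose_spec.choose)
    (fun α β => by
      have hα := (exists_normal_form_two p α).choose_spec.choose_spec
      have hβ := (exists_normal_form_two p β).choose_spec.choose_spec
      have hαβ := (exists_normal_form_two p (α * β)).choose_spec.choose_spec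
      set σ := (exists_normal_form_two p α).choose_spec.choose
      set σ' := (exists_normal_form_two p β).choose_spec.choose
      set g := (exists_normal_form_two p α).choose
      set g' := (exists_normal_form_two p β).choose
      have h : (delta (g * mapGL σ g') * fieldAut (σ * σ') : MulAut PSL(2, F)) = α * β := by
        rw [hα, hβ, map_mul, map_mul, mul_assoc (delta g) (fieldAut σ),
          ← mul_assoc (fieldAut σ) (delta g'), fieldAut_mul_delta]
        simp only [mul_assoc]
      replace hαβ := h.trans hαβ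
      set g'' := (exists_normal_form_two p (α * β)).choose
      set σ'' := (exists_normal_form_two p (α * β)).choose_spec.choose
      have h2 : (delta ((g * mapGL σ g')⁻¹ * g'') *
          fieldAut (σ'' * (σ * σ')⁻¹) : MulAut PSL(2, F)) = 1 := by
        rw [map_mul delta, map_inv delta, map_mul fieldAut σ'', map_inv fieldAut, mul_assoc,
          ← mul_assoc (delta g''), inv_mul_eq_one, eq_mul_inv_iff_mul_eq]
        exact hαβ
      exact mul_inv_eq_one.1 (mem_center_of_delta_fieldAut p le_rfl h2).2)

theorem componentTwo_eq (g : GL (Fin 2) F) (σ : F ≃+* F) :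
    componentTwo p (delta g * fieldAut σ) = σ := by
  set β : MulAut PSL(2, F) := delta g * fieldAut σ with hb
  have hβ := (exists_normal_form_two p β).choose_spec.choose_spec
  show (exists_normal_form_two p β).choose_spec.choose = σ
  set g' := (exists_normal_form_two p β).choose
  set σ' := (exists_normal_form_two p β).choose_spec.choose
  have h2 : (delta (g⁻¹ * g') * fieldAut (σ' * σ⁻¹) : MulAut PSL(2, F)) = 1 := by
    rw [map_mul delta, map_inv delta, map_mul fieldAut σ', map_inv fieldAut, mul_assoc,
      ← mul_assoc (delta g'), inv_mul_eq_one, eq_mul_inv_iff_mul_eq]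
    exact hb.symm.trans hβ
  exact mul_inv_eq_one.1 (mem_center_of_delta_fieldAut p le_rfl h2).2

theorem componentTwo_surjective : Function.Surjective (componentTwo (F := F) p) := fun σ =>
  ⟨delta 1 * fieldAut σ, componentTwo_eq p 1 σ⟩

theorem ker_componentTwo : (componentTwo (F := F) p).ker = delta.range := by
  ext β
  constructor
  · intro h
    obtain ⟨g, σ, rfl⟩ := exists_normal_form_two p β
    rw [MonoidHom.mem_ker, componentTwo_eq] at h
    exact ⟨g, by rw [h, map_one, mul_one]⟩
  · rintro ⟨g, rfl⟩
    have := componentTwo_eq (F := F) p g 1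
    rw [map_one, mul_one] at this
    rw [MonoidHom.mem_ker, this]

/-! ### Orders -/

omit [Finite F] in
include hp in
theorem card_range_delta (hn : 2 ≤ n) :
    Nat.card (delta : GL (Fin n) F →* MulAut PSL(n, F)).range =
      Nat.card (Matrix.ProjGenLinGroup (Fin n) F) := by
  rw [← range_deltaP]
  exact Nat.card_congr (MonoidHom.ofInjective (deltaP_injective p hn)).toEquiv.symm

omit p hp [CharP F p]

theorem card_ringAut_isCyclic {p f : ℕ} [Fact p.Prime] [Fintype F]
    (hF : Fintype.card F = p ^ f) (_hf : 1 ≤ f) :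
    IsCyclic (F ≃+* F) ∧ Nat.card (F ≃+* F) = f := by
  obtain ⟨q, hq⟩ := CharP.exists F
  obtain ⟨m, hqp, hm⟩ := FiniteField.card F q
  have hqe : q = p := by
    have h1 : q ∣ p ^ f := by rw [← hF, hm]; exact dvd_pow_self q m.pos.ne'
    exact (Nat.prime_dvd_prime_iff_eq hqp Fact.out).1 (hqp.dvd_of_dvd_pow h1)
  subst hqe
  letI : Algebra (ZMod q) F := ZMod.algebra F q
  let e : (F ≃ₐ[ZMod q] F) ≃* (F ≃+* F) :=
    { toFun := fun a => a.toRingEquiv
      invFun := fun s => AlgEquiv.ofRingEquiv (f := s) fun x =>
        DFunLike.congr_fun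
          (RingHom.ext_zmod (s.toRingHom.comp (algebraMap (ZMod q) F)) (algebraMap (ZMod q) F)) x
      left_inv := fun a => AlgEquiv.ext fun _ => rfl
      right_inv := fun s => RingEquiv.ext fun _ => rfl
      map_mul' := fun a b => RingEquiv.ext fun _ => rfl }
  refine ⟨isCyclic_of_surjective e.toMonoidHom e.surjective, ?_⟩
  rw [← Nat.card_congr e.toEquiv, IsGalois.card_aut_eq_finrank]
  have h1 := Module.card_eq_pow_finrank (K := ZMod q) (V := F)
  rw [hF, ZMod.card] at h1
  exact (Nat.pow_right_injective (Fact.out : q.Prime).two_le h1).symm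

end CfsgLib.AutPSL
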