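import Cfsg.Agent.Lib.AutPSL.Root
import Cfsg.Agent.Lib.Classical.Card

set_option autoImplicit false

/-!
The root subgroups of `PSL_n(F)` are exactly the centres of the Sylow `p`-subgroups, so every
automorphism permutes them.
-/

namespace CfsgLib.AutPSL

open Matrix
open scoped MatrixGroups

variable {n : ℕ} {F : Type*} [Field F]

/-- The upper unitriangular subgroup of `SL_n(F)`. -/
def unitri [Finite F] : Subgroup SL(n, F) where
  carrier := {x | ∀ i j : Fin n, j ≤ i →
    (x : Matrix (Fin n) (Fin n) F) i j = if i = j then 1 else 0}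
  one_mem' := by intro i j _; simp [Matrix.one_apply]
  mul_mem' {x y} hx hy := by
    intro i j hji
    rw [Matrix.SpecialLinearGroup.coe_mul, Matrix.mul_apply, Finset.sum_eq_single i]
    · rw [hx i i le_rfl, if_pos rfl, one_mul, hy i j hji]
    · intro k _ hk
      rcases lt_or_gt_of_ne hk with h | h
      · rw [hx i k h.le, if_neg hk.symm, zero_mul]
      · rw [hy k j (hji.trans h.le), if_neg (fun e => (lt_of_le_of_lt hji h).ne' e), mul_zero]
    · intro h
      exact absurd (Finset.mem_univ i) h
  inv_mem' {x} hx := by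
    have hpow : ∀ k : ℕ, ∀ i j : Fin n, j ≤ i →
        ((x ^ k : SL(n, F)) : Matrix (Fin n) (Fin n) F) i j = if i = j then 1 else 0 := by
      intro k
      induction k with
      | zero => intro i j _; simp [Matrix.one_apply]
      | succ k ih =>
        intro i j hji
        rw [pow_succ, Matrix.SpecialLinearGroup.coe_mul, Matrix.mul_apply,
          Finset.sum_eq_single i]
        · rw [ih i i le_rfl, if_pos rfl, one_mul, hx i j hji]
        · intro k _ hk
          rcases lt_or_gt_of_ne hk with h | h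
          · rw [ih i k h.le, if_neg hk.symm, zero_mul]
          · rw [hx k j (hji.trans h.le), if_neg (fun e => (lt_of_le_of_lt hji h).ne' e), mul_zero]
        · intro h
          exact absurd (Finset.mem_univ i) h
    have hord := orderOf_pos x
    rw [show x⁻¹ = x ^ (orderOf x - 1) from inv_eq_of_mul_eq_one_right (by
      rw [← pow_succ', Nat.sub_add_cancel hord, pow_orderOf_eq_one])]
    exact hpow _

variable [Finite F]

theorem mem_unitri {x : SL(n, F)} :
    x ∈ unitri ↔ ∀ i j : Fin n, j ≤ i →
      (x : Matrix (Fin n) (Fin n) F) i j = if i = j then 1 else 0 := Iff.rfl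

theorem transvection_mem_unitri {i j : Fin n} (h : i < j) (a : F) :
    Matrix.SpecialLinearGroup.transvection h.ne a ∈ unitri := by
  intro k l hlk
  have h0 : Matrix.single i j a k l = 0 := by
    rw [Matrix.single_apply, if_neg]
    rintro ⟨rfl, rfl⟩
    exact absurd hlk (not_le.2 h)
  rw [Matrix.SpecialLinearGroup.transvection_coe, Matrix.add_apply, Matrix.one_apply, h0, add_zero]

/-- The entries strictly above the diagonal parametrise `unitri`. -/
noncomputable def unitriEquiv :
    (unitri : Subgroup SL(n, F)) ≃ ({q : Fin n × Fin n // q.1 < q.2} → F) where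
  toFun x q := ((x : SL(n, F)) : Matrix (Fin n) (Fin n) F) q.1.1 q.1.2
  invFun f :=
    ⟨⟨Matrix.of fun i j => if h : i < j then f ⟨(i, j), h⟩ else if i = j then 1 else 0, by
      rw [Matrix.det_of_isUpperTriangular (fun i j h => ?_)]
      · exact Finset.prod_eq_one fun i _ => by simp
      · have h' : j < i := h
        rw [Matrix.of_apply, dif_neg h'.not_gt, if_neg h'.ne']⟩, fun i j h => by
      show (Matrix.of fun i j => if h : i < j then f ⟨(i, j), h⟩ else if i = j then (1 : F) else 0)
        i j = _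
      rw [Matrix.of_apply, dif_neg h.not_gt]⟩
  left_inv x := by
    apply Subtype.ext
    ext i j
    show (if h : i < j then ((x : SL(n, F)) : Matrix (Fin n) (Fin n) F) i j
      else if i = j then (1 : F) else 0) = _
    split
    · rfl
    · rename_i h
      exact (x.2 i j (not_lt.1 h)).symm
  right_inv f := by
    funext q
    exact dif_pos q.2

theorem card_lt_pairs (n : ℕ) :
    Fintype.card {q : Fin n × Fin n // q.1 < q.2} = n * (n - 1) / 2 := by
  rw [← Finset.sum_range_id, ← Fin.sum_univ_eq_sum_range (fun i => i)]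
  let e : {q : Fin n × Fin n // q.1 < q.2} ≃ Σ j : Fin n, Fin (j : ℕ) :=
    { toFun := fun q => ⟨q.1.2, ⟨q.1.1, q.2⟩⟩
      invFun := fun s => ⟨(⟨s.2, s.2.2.trans s.1.2⟩, s.1), s.2.2⟩
      left_inv := fun q => rfl
      right_inv := fun s => rfl }
  rw [Fintype.card_congr e, Fintype.card_sigma]
  simp

theorem card_unitri : Nat.card (unitri : Subgroup SL(n, F)) = Nat.card F ^ (n * (n - 1) / 2) := by
  rw [Nat.card_congr unitriEquiv, Nat.card_fun, Nat.card_eq_fintype_card (α := {q : Fin n × Fin n // q.1 < q.2}),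
    card_lt_pairs]

variable (p : ℕ) [hp : Fact p.Prime] [CharP F p]

include hp in
theorem card_unitri_eq_pow :
    Nat.card (unitri : Subgroup SL(n, F)) =
      p ^ (Nat.card SL(n, F)).factorization p := by
  have := Fintype.ofFinite F
  rcases Nat.eq_zero_or_pos n with rfl | hn
  · rw [card_unitri, Nat.card_of_subsingleton (1 : SL(0, F))]
    simp
  obtain ⟨f, -, hf⟩ := FiniteField.card F p
  obtain ⟨P⟩ := (inferInstance : Nonempty (Sylow p (GL (Fin n) F)))
  have h1 := CfsgLib.Classical.card_sylow_GL p n P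
  rw [P.card_eq_multiplicity] at h1
  have : Nonempty (Fin n) := Fin.pos_iff_nonempty.1 hn
  have h2 : ¬ p ∣ Nat.card Fˣ := by
    rw [Nat.card_units, Nat.card_eq_fintype_card, hf]
    intro h
    have h3 := Nat.dvd_sub (dvd_pow_self p f.pos.ne') h
    rw [Nat.sub_sub_self (Nat.one_le_pow _ _ hp.out.pos)] at h3
    exact hp.out.not_dvd_one h3
  rw [card_unitri, Nat.card_eq_fintype_card, ← h1, CfsgLib.Classical.card_GL_eq_mul_card_SL,
    Nat.factorization_mul Nat.card_pos.ne' Nat.card_pos.ne', Finsupp.add_apply,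
    Nat.factorization_eq_zero_of_not_dvd h2, zero_add]

/-- The upper unitriangular group, a Sylow `p`-subgroup of `PSL_n(F)`. -/
noncomputable def sylowU : Sylow p PSL(n, F) :=
  (Sylow.ofCard unitri (card_unitri_eq_pow p)).mapSurjective mkP_surjective

theorem coe_sylowU : ((sylowU p : Sylow p PSL(n, F)) : Subgroup PSL(n, F)) = unitri.map mkP := rfl

include hp in
theorem unitri_pow (x : SL(n, F)) (hx : x ∈ unitri) : ∃ k, x ^ p ^ k = 1 := by
  obtain ⟨k, hk⟩ := (IsPGroup.of_card (card_unitri_eq_pow (F := F) (n := n) p)) ⟨x, hx⟩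
  exact ⟨k, by simpa using congrArg Subtype.val hk⟩

omit hp [CharP F p] in
theorem unitri_inf_center {x : SL(n, F)} (hx : x ∈ unitri)
    (hz : x ∈ Subgroup.center SL(n, F)) : x = 1 := by
  apply Subtype.ext
  ext i j
  rw [Matrix.SpecialLinearGroup.coe_one]
  have h := Matrix.SpecialLinearGroup.scalar_eq_self_of_mem_center hz i
  rw [← h, hx i i le_rfl, if_pos rfl, map_one]

/-- `Z(P)` for a subgroup `P`, as a subgroup of the whole group. -/
def zs {G : Type*} [Group G] (P : Subgroup G) : Subgroup G :=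
  P ⊓ Subgroup.centralizer (P : Set G)

theorem zs_map {G H : Type*} [Group G] [Group H] (e : G ≃* H) (P : Subgroup G) :
    (zs (P.map e.toMonoidHom) : Set H) = e '' (zs P : Set G) := by
  ext x
  obtain ⟨y, rfl⟩ := e.surjective x
  simp [zs, Subgroup.mem_centralizer_iff, ← map_mul]

include hp in
theorem zs_sylowU {i₀ l : Fin n} (hi : ∀ k, i₀ ≤ k) (hl : ∀ k, k ≤ l) (hil : i₀ ≠ l) :
    (zs ((sylowU p : Sylow p PSL(n, F)) : Subgroup PSL(n, F)) : Set PSL(n, F)) =
      rootIJ i₀ l := by
  have hlt : i₀ < l := lt_of_le_of_ne (hi l) hil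
  have hT : ∀ a : F, Matrix.SpecialLinearGroup.transvection hil a ∈ unitri :=
    fun a => transvection_mem_unitri hlt a
  rw [coe_sylowU]
  ext x
  constructor
  · rintro ⟨⟨u, hu, rfl⟩, hc⟩
    have hcomm : ∀ {i j : Fin n} (h : i < j) (a : F),
        u * Matrix.SpecialLinearGroup.transvection h.ne a =
          Matrix.SpecialLinearGroup.transvection h.ne a * u := by
      intro i j h a
      have hz : u * Matrix.SpecialLinearGroup.transvection h.ne a *
          (Matrix.SpecialLinearGroup.transvection h.ne a * u)⁻¹ ∈ Subgroup.center SL(n, F) := by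
        rw [← QuotientGroup.eq_one_iff, QuotientGroup.mk_mul, QuotientGroup.mk_inv, mul_inv_eq_one]
        exact (hc _ ⟨_, transvection_mem_unitri h a, rfl⟩).symm
      exact mul_inv_eq_one.1 (unitri_inf_center (mul_mem (mul_mem hu
        (transvection_mem_unitri h a)) (inv_mem (mul_mem (transvection_mem_unitri h a) hu))) hz)
    set M := (u : Matrix (Fin n) (Fin n) F) with hM
    have hzero : ∀ r s : Fin n, r < s → ¬ (r = i₀ ∧ s = l) → M r s = 0 := by
      intro r s hrs hne
      by_cases hr : r = i₀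
      · subst hr
        have hsl : s < l := lt_of_le_of_ne (hl s) (fun e => hne ⟨rfl, e⟩)
        have := congrArg (fun z : SL(n, F) => (z : Matrix (Fin n) (Fin n) F) r l) (hcomm hsl 1)
        simp [Matrix.SpecialLinearGroup.transvection_coe, mul_add, add_mul, hrs.ne, ← hM] at this
        exact this
      · have hir : i₀ < r := lt_of_le_of_ne (hi r) (Ne.symm hr)
        have := congrArg (fun z : SL(n, F) => (z : Matrix (Fin n) (Fin n) F) i₀ s) (hcomm hir 1)
        simp [Matrix.SpecialLinearGroup.transvection_coe, mul_add, add_mul, hrs.ne',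
          ← hM] at this
        exact this
    refine (mem_rootIJ_iff hil).2 ⟨M i₀ l, congrArg _ (Subtype.ext ?_)⟩
    ext r s
    show M r s = _
    rw [Matrix.SpecialLinearGroup.transvection_coe, Matrix.add_apply, Matrix.one_apply,
      Matrix.single_apply]
    by_cases hrs : r < s
    · rw [if_neg hrs.ne, zero_add]
      split
      · rename_i h
        rw [h.1, h.2]
      · rename_i h
        exact hzero r s hrs (fun e => h ⟨e.1.symm, e.2.symm⟩)
    · have hu' : M r s = if r = s then 1 else 0 := hu r s (not_lt.1 hrs)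
      rw [hu', if_neg (show ¬ (i₀ = r ∧ l = s) from fun e => hrs (e.1 ▸ e.2 ▸ hlt)), add_zero]
  · intro hx
    obtain ⟨a, rfl⟩ := (mem_rootIJ_iff hil).1 hx
    refine ⟨⟨_, hT a, rfl⟩, ?_⟩
    rintro _ ⟨u, hu, rfl⟩
    show mkP u * mkP _ = mkP _ * mkP u
    rw [← map_mul, ← map_mul]
    congr 1
    apply Subtype.ext
    rw [Matrix.SpecialLinearGroup.coe_mul, Matrix.SpecialLinearGroup.coe_mul,
      transvection_coe', mul_add, add_mul, mul_one, one_mul, mul_vecMulVec, vecMulVec_mul]
    congr 2
    · rw [mulVec_smul, mulVec_single_one]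
      congr 1
      funext r
      rw [Matrix.col_apply, hu r i₀ (hi r), Pi.single_apply]
    · rw [Matrix.single_one_vecMul]
      funext r
      rw [Matrix.row_apply, hu l r (hl r), Pi.single_apply]
      exact if_congr eq_comm rfl rfl

include hp in
/-- Every automorphism of `PSL_n(F)` maps root subgroups to root subgroups. -/
theorem exists_rootSet_image (β : MulAut PSL(n, F)) {v φ : Fin n → F} (hv : v ≠ 0) (hφ : φ ≠ 0)
    (h : φ ⬝ᵥ v = 0) :
    ∃ v' φ' : Fin n → F, v' ≠ 0 ∧ φ' ≠ 0 ∧ φ' ⬝ᵥ v' = 0 ∧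
      β '' rootSet v φ = rootSet v' φ' := by
  obtain ⟨k, hk⟩ := Function.ne_iff.1 hv
  have hn : 0 < n := Fin.pos k
  set i₀ : Fin n := ⟨0, hn⟩
  set l : Fin n := ⟨n - 1, by omega⟩
  have hi : ∀ k, i₀ ≤ k := fun k => Nat.zero_le _
  have hl : ∀ k : Fin n, k ≤ l := fun k => Fin.le_def.2 (by simp [l]; omega)
  have hil : i₀ ≠ l := by
    intro e
    have hn1 : n - 1 = 0 := (congrArg Fin.val e).symm
    have hsub : ∀ a : Fin n, a = k := fun a => Fin.ext (by omega)
    obtain ⟨m, hm⟩ := Function.ne_iff.1 hφ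
    rw [dotProduct, Finset.sum_eq_single k (fun b _ hb => absurd (hsub b) hb)
      (fun hb => absurd (Finset.mem_univ k) hb)] at h
    rcases mul_eq_zero.1 h with h | h
    · exact hm (by rw [hsub m]; simpa using h)
    · exact hk (by simpa using h)
  obtain ⟨g, hg⟩ := exists_flag_conj hil hv hφ h
  set γ : MulAut PSL(n, F) := β * delta (Matrix.SpecialLinearGroup.toGL g) with hγ
  have himg : β '' rootSet v φ = γ '' rootIJ i₀ l := by
    rw [← hg, Set.image_image]
    rfl
  -- the image of the Sylow subgroup is conjugate to it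
  let Q : Sylow p PSL(n, F) := (sylowU p).mapSurjective (f := γ.toMonoidHom) γ.surjective
  obtain ⟨c, hc⟩ := MulAction.exists_smul_eq PSL(n, F) (sylowU p) Q
  obtain ⟨u, rfl⟩ := QuotientGroup.mk_surjective c
  have hQ : (Q : Subgroup PSL(n, F)) =
      ((sylowU p : Sylow p PSL(n, F)) : Subgroup PSL(n, F)).map (MulAut.conj (u : PSL(n, F))).toMonoidHom := by
    rw [← hc]
    rfl
  have h2 : γ '' rootIJ i₀ l = MulAut.conj (u : PSL(n, F)) '' rootIJ i₀ l := by
    rw [← zs_sylowU p hi hl hil, ← zs_map, ← zs_map, ← hQ]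
    rfl
  have h3 : (MulAut.conj (u : PSL(n, F)) : MulAut PSL(n, F)) =
      delta (Matrix.SpecialLinearGroup.toGL u) := (delta_toGL u).symm
  rw [himg, h2, h3, rootIJ, delta_image_rootSet]
  set U := Matrix.SpecialLinearGroup.toGL u
  refine ⟨_, _, ?_, ?_, ?_, rfl⟩
  · intro e
    have := congrArg (fun w => ((U⁻¹ : GL (Fin n) F) : Matrix (Fin n) (Fin n) F) *ᵥ w) e
    rw [mulVec_mulVec, Units.inv_mul, one_mulVec, mulVec_zero] at this
    exact Pi.single_ne_zero_iff.2 one_ne_zero this
  · intro e
    have := congrArg (fun w => w ᵥ* (U : Matrix (Fin n) (Fin n) F)) e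
    rw [vecMul_vecMul, Units.inv_mul, vecMul_one, zero_vecMul] at this
    exact Pi.single_ne_zero_iff.2 one_ne_zero this
  · rw [← dotProduct_mulVec, mulVec_mulVec, Units.inv_mul, one_mulVec, dot_single_single hil]

end CfsgLib.AutPSL
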