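import Cfsg.Agent.Lib.AutPSL.Hermitian
import Cfsg.Agent.Lib.AutPSL.Out
import Cfsg.Agent.Lib.AutPSL.Predicates

set_option autoImplicit false

/-!
Field and graph-field automorphisms of `PSL_n(F)`: cosets of prime order, centralisers, class
splitting.
-/

namespace CfsgLib.AutPSL

open Matrix
open scoped MatrixGroups

variable {n : ℕ} {F : Type*} [Field F]

theorem fieldAut_comm [Finite F] (σ τ : F ≃+* F) :
    (fieldAut σ * fieldAut τ : MulAut PSL(n, F)) = fieldAut τ * fieldAut σ := by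
  have := Fintype.ofFinite F
  obtain ⟨p, hp⟩ := CharP.exists F
  obtain ⟨f, hpp, hF⟩ := FiniteField.card F p
  have := Fact.mk hpp
  obtain ⟨hc, -⟩ := card_ringAut_isCyclic (F := F) hF f.pos
  rw [← map_mul, ← map_mul]
  congr 1
  obtain ⟨g, hg⟩ := hc.exists_generator
  obtain ⟨i, rfl⟩ := Subgroup.mem_zpowers_iff.1 (hg σ)
  obtain ⟨j, rfl⟩ := Subgroup.mem_zpowers_iff.1 (hg τ)
  rw [← _root_.zpow_add, ← _root_.zpow_add, add_comm]

/-- `σ(g)ᵀ` as an invertible matrix. -/
def starGL (σ : F ≃+* F) (g : GL (Fin n) F) : GL (Fin n) F := (mapGL σ (contra g))⁻¹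

theorem starGL_coe (σ : F ≃+* F) (g : GL (Fin n) F) :
    (starGL σ g : Matrix (Fin n) (Fin n) F) = ((g : Matrix (Fin n) (Fin n) F).map σ)ᵀ := rfl

theorem contra_contra (g : GL (Fin n) F) : contra (contra g) = g := Units.ext (by
  show ((g : Matrix (Fin n) (Fin n) F)ᵀ)ᵀ = _
  rw [Matrix.transpose_transpose])

theorem contra_mul (g h : GL (Fin n) F) : contra (g * h) = contra g * contra h := Units.ext (by
  show (((g * h)⁻¹ : GL (Fin n) F) : Matrix (Fin n) (Fin n) F)ᵀ = _
  rw [_root_.mul_inv_rev, Units.val_mul, Matrix.transpose_mul]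
  rfl)

theorem contra_inv (g : GL (Fin n) F) : contra g⁻¹ = (contra g)⁻¹ :=
  eq_inv_of_mul_eq_one_left (by
    rw [← contra_mul, inv_mul_cancel]
    exact Units.ext (by show (((1 : GL (Fin n) F)⁻¹ : GL (Fin n) F) : Matrix (Fin n) (Fin n) F)ᵀ = _
                        simp))

theorem field_conj (σ : F ≃+* F) (h : GL (Fin n) F) :
    delta h * fieldAut σ * (delta h)⁻¹ =
      delta (h * (mapGL σ h)⁻¹) * (fieldAut σ : MulAut PSL(n, F)) := by
  rw [← map_inv delta, mul_assoc, fieldAut_mul_delta, ← mul_assoc, ← map_mul delta, map_inv]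

theorem graphField_conj (σ : F ≃+* F) (h : GL (Fin n) F) :
    delta h * (fieldAut σ * graphAut) * (delta h)⁻¹ =
      delta (h * starGL σ h) * (fieldAut σ * graphAut : MulAut PSL(n, F)) := by
  rw [← map_inv delta, mul_assoc, mul_assoc (fieldAut σ), graphAut_mul_delta, ← mul_assoc (fieldAut σ),
    fieldAut_mul_delta, mul_assoc (delta _) (fieldAut σ), ← mul_assoc (delta h), ← map_mul delta,
    contra_inv, map_inv]
  rfl

section

variable (p : ℕ) [hp : Fact p.Prime] [CharP F p]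

include hp in
theorem mem_center_of_delta_eq_one (hn : 2 ≤ n) {g : GL (Fin n) F}
    (h : (delta g : MulAut PSL(n, F)) = 1) : ∃ c : Fˣ, g = GeneralLinearGroup.scalar (Fin n) c := by
  have h1 := (mem_center_of_delta_fieldAut p hn (σ := 1) (by rw [h, map_one, one_mul])).1
  rw [GeneralLinearGroup.center_eq_range_scalar] at h1
  obtain ⟨c, hc⟩ := h1
  exact ⟨c, hc.symm⟩

include hp in
theorem orderOf_fieldAut (hn : 2 ≤ n) (σ : F ≃+* F) :
    orderOf (fieldAut σ : MulAut PSL(n, F)) = orderOf σ := by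
  refine orderOf_injective fieldAut ((injective_iff_map_eq_one _).2 fun τ hτ => ?_) σ
  exact (mem_center_of_delta_fieldAut p hn (g := 1) (σ := τ) (by rw [map_one, one_mul, hτ])).2

end

theorem scalar_comm (c : Fˣ) (g : GL (Fin n) F) :
    GeneralLinearGroup.scalar (Fin n) c * g = g * GeneralLinearGroup.scalar (Fin n) c :=
  (Subgroup.mem_center_iff.1 (scalar_mem_center c) g).symm

theorem scalar_inj' [Nonempty (Fin n)] {c d : Fˣ}
    (h : GeneralLinearGroup.scalar (Fin n) c = GeneralLinearGroup.scalar (Fin n) d) : c = d := by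
  have h2 : (Matrix.scalar (Fin n) (c : F) : Matrix (Fin n) (Fin n) F) =
      Matrix.scalar (Fin n) (d : F) := congrArg Units.val h
  exact Units.ext (Matrix.scalar_inj.1 h2)

variable (p : ℕ) [hp : Fact p.Prime] [CharP F p] [Finite F]

include hp in
/-- An element of the coset `Inndiag·φ_σ` of order `orderOf σ` is a conjugate of `φ_σ`. -/
theorem exists_conj_field (hn : 2 ≤ n) {σ : F ≃+* F} {r : ℕ} (hr : 0 < r) (hσ : orderOf σ = r)
    (g : GL (Fin n) F) (h : (delta g * fieldAut σ : MulAut PSL(n, F)) ^ r = 1) :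
    ∃ k : GL (Fin n) F,
      (delta g * fieldAut σ : MulAut PSL(n, F)) = delta k * fieldAut σ * (delta k)⁻¹ := by
  have : Nonempty (Fin n) := ⟨⟨0, by omega⟩⟩
  have hσr : σ ^ r = 1 := hσ ▸ pow_orderOf_eq_one σ
  rw [delta_fieldAut_pow, hσr, map_one, mul_one] at h
  obtain ⟨lam, hlam⟩ := mem_center_of_delta_eq_one p hn h
  have hfix : Units.map σ.toRingHom.toMonoidHom lam = lam := by
    apply scalar_inj' (n := n)
    have h1 := (tnorm_succ σ g r).symm.trans (tnorm_succ' σ g r)
    rw [hlam, mapGL_scalar, hσr, mapGL_one, scalar_comm lam g] at h1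
    exact mul_left_cancel h1
  obtain ⟨μ, hμ⟩ := exists_unorm_eq hr hσ lam (congrArg Units.val hfix)
  obtain ⟨k, hk⟩ := exists_coboundary hr hσ (GeneralLinearGroup.scalar (Fin n) μ⁻¹ * g) (by
    rw [tnorm_scalar_mul, hlam, map_inv, hμ, map_inv, inv_mul_cancel])
  refine ⟨k, ?_⟩
  rw [field_conj, ← hk, map_mul, delta_eq_one_of_mem_center (scalar_mem_center _), one_mul]

include hp in
/-- An element of order 2 of the coset `Inndiag·φ_σ γ` is a conjugate of `φ_σ γ`. -/
theorem exists_conj_graphField (hn : 2 ≤ n) {σ : F ≃+* F} (hσ : orderOf σ = 2)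
    (g : GL (Fin n) F)
    (h : (delta g * (fieldAut σ * graphAut) : MulAut PSL(n, F)) ^ 2 = 1) :
    ∃ k : GL (Fin n) F, (delta g * (fieldAut σ * graphAut) : MulAut PSL(n, F)) =
      delta k * (fieldAut σ * graphAut) * (delta k)⁻¹ := by
  have : Nonempty (Fin n) := ⟨⟨0, by omega⟩⟩
  have hσ2 : σ * σ = 1 := by rw [← sq]; exact hσ ▸ pow_orderOf_eq_one σ
  have hσσ : ∀ x, σ (σ x) = x := fun x => DFunLike.congr_fun hσ2 x
  have h1 : delta (g * mapGL σ (contra g)) = (1 : MulAut PSL(n, F)) := by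
    rw [← h, sq]
    symm
    rw [mul_assoc (delta g) (fieldAut σ * graphAut), ← mul_assoc (fieldAut σ * graphAut),
      mul_assoc (fieldAut σ) graphAut (delta g), graphAut_mul_delta,
      ← mul_assoc (fieldAut σ), fieldAut_mul_delta, map_mul]
    have : (fieldAut σ * graphAut * (fieldAut σ * graphAut) : MulAut PSL(n, F)) = 1 := by
      rw [mul_assoc, ← mul_assoc graphAut, graphAut_mul_fieldAut, mul_assoc (fieldAut σ),
        graphAut_mul_self, mul_one, ← map_mul, hσ2, map_one]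
    simp only [mul_assoc] at this ⊢
    rw [this, mul_one]
  obtain ⟨lam, hlam⟩ := mem_center_of_delta_eq_one p hn h1
  -- `g = λ σ(g)ᵀ`
  have hg : g = GeneralLinearGroup.scalar (Fin n) lam * starGL σ g :=
    eq_mul_inv_of_mul_eq hlam
  have hgm : ∀ i j, (g : Matrix (Fin n) (Fin n) F) i j =
      (lam : F) * σ ((g : Matrix (Fin n) (Fin n) F) j i) := fun i j => by
    have : (g : Matrix (Fin n) (Fin n) F) i j = ((GeneralLinearGroup.scalar (Fin n) lam * starGL σ g : GL (Fin n) F) : Matrix (Fin n) (Fin n) F) i j := by rw [← hg]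
    rw [Units.val_mul, starGL_coe] at this
    rw [this]
    simp [GeneralLinearGroup.scalar, Matrix.diagonal_mul]
  have hN : unorm σ 2 lam = 1 := by
    obtain ⟨i⟩ := (inferInstance : Nonempty (Fin n))
    obtain ⟨j, hj⟩ : ∃ j, (g : Matrix (Fin n) (Fin n) F) i j ≠ 0 := by
      by_contra hcon
      simp only [not_exists, not_not] at hcon
      exact ((Matrix.isUnit_iff_isUnit_det _).1 g.isUnit).ne_zero
        (Matrix.det_eq_zero_of_row_eq_zero i hcon)
    have e := hgm i j
    rw [hgm j i, map_mul, hσσ] at e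
    apply Units.ext
    have e2 : (lam : F) * σ lam * (g : Matrix (Fin n) (Fin n) F) i j =
        (g : Matrix (Fin n) (Fin n) F) i j := by linear_combination -e
    simpa [unorm] using (mul_eq_right₀ hj).1 e2
  obtain ⟨d, hd⟩ := exists_eq_div_map_of_unorm (by norm_num) hσ lam hN
  set c : Fˣ := d⁻¹ with hc
  have hdet : ((GeneralLinearGroup.scalar (Fin n) c * g : GL (Fin n) F) :
      Matrix (Fin n) (Fin n) F).det ≠ 0 :=
    ((Matrix.isUnit_iff_isUnit_det _).1 (Units.isUnit _)).ne_zero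
  obtain ⟨k, hk⟩ := exists_hermitian_factor hσ hdet (by
    ext i j
    rw [Matrix.transpose_apply, Matrix.map_apply]
    simp only [Units.val_mul, GeneralLinearGroup.scalar]
    simp [Matrix.diagonal_mul, hc]
    rw [hgm i j, congrArg Units.val hd]
    simp
    field_simp)
  refine ⟨k, ?_⟩
  rw [graphField_conj]
  congr 1
  rw [show k * starGL σ k = GeneralLinearGroup.scalar (Fin n) c * g from Units.ext hk.symm,
    map_mul, delta_eq_one_of_mem_center (scalar_mem_center _), one_mul]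

include hp in
/-- A field automorphism is `Inndiag`-conjugate to a standard one. -/
theorem exists_field_rep (hn : 2 ≤ n) {x : MulAut PSL(n, F)} (hx : Cfsg.IsFieldAutClassPSL x) :
    ∃ (a : GL (Fin n) F) (σ : F ≃+* F),
      σ ≠ 1 ∧ x = delta a * fieldAut σ * (delta a)⁻¹ := by
  obtain ⟨α, σ, hσ, hstd⟩ := hx
  rw [isStdFieldAut_iff] at hstd
  obtain ⟨a, τ, γ, hγ, hα⟩ := exists_factorization p hn α⁻¹
  refine ⟨a, σ, hσ, ?_⟩
  have hx' : x = α⁻¹ * fieldAut σ * (α⁻¹)⁻¹ := by rw [← hstd]; simp [mul_assoc]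
  have hc : γ * fieldAut σ = fieldAut σ * γ := by
    rcases hγ with rfl | rfl
    · simp
    · exact graphAut_mul_fieldAut σ
  rw [hx', hα, mul_assoc (delta a * fieldAut τ) γ, hc, ← mul_assoc, mul_assoc (delta a),
    fieldAut_comm, _root_.mul_inv_rev, _root_.mul_inv_rev]
  simp [mul_assoc]

include hp in
/-- A graph-field automorphism is `Inndiag`-conjugate to `φ_σ γ`. -/
theorem exists_graphField_rep (hn : 2 ≤ n) {x : MulAut PSL(n, F)}
    (hx : Cfsg.IsGraphFieldAutClassPSL x) :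
    ∃ (a : GL (Fin n) F) (σ : F ≃+* F),
      σ ≠ 1 ∧ x = delta a * (fieldAut σ * graphAut) * (delta a)⁻¹ := by
  obtain ⟨-, α, φ, γ', σ, hσ, hφ, hγ', hstd⟩ := hx
  rw [isStdFieldAut_iff] at hφ
  rw [isInverseTranspose_iff] at hγ'
  subst hφ hγ'
  obtain ⟨a, τ, γ, hγ, hα⟩ := exists_factorization p hn α⁻¹
  refine ⟨a, σ, hσ, ?_⟩
  set y := (fieldAut σ * graphAut : MulAut PSL(n, F)) with hy
  have hx' : x = α⁻¹ * y * (α⁻¹)⁻¹ := by rw [← hstd]; simp [mul_assoc]
  have hc : γ * y = y * γ := by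
    rcases hγ with rfl | rfl
    · simp
    · rw [hy, ← mul_assoc, graphAut_mul_fieldAut]
  have hc2 : fieldAut τ * y = y * fieldAut τ := by
    rw [hy, ← mul_assoc, fieldAut_comm, mul_assoc, ← graphAut_mul_fieldAut, mul_assoc]
  rw [hx', hα, mul_assoc (delta a * fieldAut τ) γ, hc, ← mul_assoc, mul_assoc (delta a),
    hc2, _root_.mul_inv_rev, _root_.mul_inv_rev]
  simp [mul_assoc]

omit [Finite F] in
include hp in
theorem orderOf_graphField (hn : 3 ≤ n) {σ : F ≃+* F} (hσ : σ ≠ 1) {r : ℕ} (hr : r.Prime)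
    (h : orderOf (fieldAut σ * graphAut : MulAut PSL(n, F)) = r) : r = 2 ∧ orderOf σ = 2 := by
  set e₁ : Multiplicative (ZMod 2) := Multiplicative.ofAdd 1
  have hpow : (fieldAut σ * graphPow e₁ : MulAut PSL(n, F)) ^ r = 1 := by
    rw [graphPow_ofAdd_one, ← h, pow_orderOf_eq_one]
  rw [Commute.mul_pow (show Commute (fieldAut σ) (graphPow e₁) from
    (graphPow_mul_fieldAut e₁ σ).symm), ← map_pow, ← map_pow] at hpow
  obtain ⟨h1, h2, -⟩ := normal_form_unique p hn (g := 1) (g' := 1) (σ' := 1) (e' := 1)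
    (show delta 1 * fieldAut (σ ^ r) * graphPow (e₁ ^ r) =
      (delta 1 * fieldAut 1 * graphPow 1 : MulAut PSL(n, F)) by
      simpa using hpow)
  have hr2 : r = 2 := by
    rcases hr.eq_two_or_odd with h | h
    · exact h
    exfalso
    have : e₁ ^ r = e₁ := by
      conv_lhs => rw [← Nat.div_add_mod r 2, h, pow_add, pow_mul,
        show e₁ ^ 2 = 1 by decide, one_pow, one_mul, pow_one]
    rw [this] at h2
    exact absurd h2 (by decide)
  subst hr2
  exact ⟨rfl, orderOf_eq_prime h1 hσ⟩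

end CfsgLib.AutPSL
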